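import Cfsg.Agent.Lib.Perm.OddProductGraph
import Cfsg.Agent.Lib.Invol.Basic

/-!
# Involutions of `PSL(2, F)` with products of odd order
-/

set_option autoImplicit false

namespace CfsgLib.OddProdPSL

open Matrix

variable {F : Type*} [Field F] [Fintype F]

/-- The projection to `PSL(2, F)`. -/
noncomputable def proj : SpecialLinearGroup (Fin 2) F →* ProjectiveSpecialLinearGroup (Fin 2) F :=
  QuotientGroup.mk' _

theorem proj_surjective : Function.Surjective (proj (F := F)) :=
  QuotientGroup.mk'_surjective _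

theorem proj_eq_one_iff (M : SpecialLinearGroup (Fin 2) F) :
    proj M = 1 ↔ (↑M : Matrix (Fin 2) (Fin 2) F) 0 1 = 0 ∧ (↑M : Matrix (Fin 2) (Fin 2) F) 1 0 = 0 ∧ (↑M : Matrix (Fin 2) (Fin 2) F) 0 0 = (↑M : Matrix (Fin 2) (Fin 2) F) 1 1 := by
  rw [proj, QuotientGroup.mk'_apply, QuotientGroup.eq_one_iff, Matrix.SpecialLinearGroup.mem_center_iff]
  constructor
  · rintro ⟨r, -, hr⟩
    rw [← hr]; simp
  · rintro ⟨h1, h2, h3⟩
    refine ⟨(↑M : Matrix (Fin 2) (Fin 2) F) 0 0, ?_, ?_⟩
    · have := M.2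
      rw [det_fin_two, h1, ← h3] at this
      simp only [Fintype.card_fin]
      linear_combination this
    · ext i j; fin_cases i <;> fin_cases j <;> simp [h1, h2, h3]

/-- The trace. -/
def tr (M : SpecialLinearGroup (Fin 2) F) : F := (↑M : Matrix (Fin 2) (Fin 2) F) 0 0 + (↑M : Matrix (Fin 2) (Fin 2) F) 1 1

theorem det_eq (M : SpecialLinearGroup (Fin 2) F) : (↑M : Matrix (Fin 2) (Fin 2) F) 0 0 * (↑M : Matrix (Fin 2) (Fin 2) F) 1 1 - (↑M : Matrix (Fin 2) (Fin 2) F) 0 1 * (↑M : Matrix (Fin 2) (Fin 2) F) 1 0 = 1 := by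
  rw [← det_fin_two]; exact M.2

/-- Powers of `M` are combinations of `M` and `1`. -/
theorem exists_pow_eq (M : SpecialLinearGroup (Fin 2) F) : ∀ n : ℕ, ∃ α β : F,
    (↑(M ^ n) : Matrix (Fin 2) (Fin 2) F) 0 0 = α * (↑M : Matrix (Fin 2) (Fin 2) F) 0 0 + β ∧ (↑(M ^ n) : Matrix (Fin 2) (Fin 2) F) 1 1 = α * (↑M : Matrix (Fin 2) (Fin 2) F) 1 1 + β ∧
      (↑(M ^ n) : Matrix (Fin 2) (Fin 2) F) 0 1 = α * (↑M : Matrix (Fin 2) (Fin 2) F) 0 1 ∧ (↑(M ^ n) : Matrix (Fin 2) (Fin 2) F) 1 0 = α * (↑M : Matrix (Fin 2) (Fin 2) F) 1 0 := by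
  intro n
  induction n with
  | zero => exact ⟨0, 1, by simp, by simp, by simp, by simp⟩
  | succ n ih =>
    obtain ⟨α, β, h1, h2, h3, h4⟩ := ih
    refine ⟨α * tr M + β, -α, ?_, ?_, ?_, ?_⟩ <;>
      rw [pow_succ, Matrix.SpecialLinearGroup.coe_mul, mul_apply, Fin.sum_univ_two] <;>
      simp only [h1, h2, h3, h4, tr]
    · linear_combination -α * det_eq M
    · linear_combination -α * det_eq M
    · ring
    · ring

/-- Involutions of `PSL(2, F)` come from trace zero matrices. -/
theorem tr_eq_zero (N : SpecialLinearGroup (Fin 2) F) (hN : orderOf (proj N) = 2) : tr N = 0 := by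
  have h1 : ¬ proj N = 1 := fun h => by rw [h, orderOf_one] at hN; exact absurd hN (by decide)
  have h2 : proj (N ^ 2) = 1 := by
    have h := pow_orderOf_eq_one (proj N)
    rw [hN] at h
    rwa [map_pow]
  rw [proj_eq_one_iff] at h1 h2
  simp only [pow_two, Matrix.SpecialLinearGroup.coe_mul, mul_apply, Fin.sum_univ_two] at h2
  obtain ⟨e1, e2, e3⟩ := h2
  by_contra ht
  apply h1
  refine ⟨?_, ?_, ?_⟩
  · exact (mul_eq_zero.1 (show tr N * (↑N : Matrix (Fin 2) (Fin 2) F) 0 1 = 0 by simp only [tr]; linear_combination e1)).resolve_left ht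
  · exact (mul_eq_zero.1 (show tr N * (↑N : Matrix (Fin 2) (Fin 2) F) 1 0 = 0 by simp only [tr]; linear_combination e2)).resolve_left ht
  · exact sub_eq_zero.1 ((mul_eq_zero.1 (show tr N * ((↑N : Matrix (Fin 2) (Fin 2) F) 0 0 - (↑N : Matrix (Fin 2) (Fin 2) F) 1 1) = 0 by
      simp only [tr]; linear_combination e3)).resolve_left ht)

theorem orderOf_proj_eq_two (N : SpecialLinearGroup (Fin 2) F) (ht : tr N = 0) (hN : proj N ≠ 1) :
    orderOf (proj N) = 2 := by
  refine orderOf_eq_prime ?_ hN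
  rw [← map_pow, proj_eq_one_iff]
  simp only [tr] at ht
  simp only [pow_two, Matrix.SpecialLinearGroup.coe_mul, mul_apply, Fin.sum_univ_two]
  refine ⟨?_, ?_, ?_⟩
  · linear_combination (↑N : Matrix (Fin 2) (Fin 2) F) 0 1 * ht
  · linear_combination (↑N : Matrix (Fin 2) (Fin 2) F) 1 0 * ht
  · linear_combination ((↑N : Matrix (Fin 2) (Fin 2) F) 0 0 - (↑N : Matrix (Fin 2) (Fin 2) F) 1 1) * ht

/-- The criterion for an odd order. -/
theorem odd_orderOf (M : SpecialLinearGroup (Fin 2) F)
    (h : ∀ α : F, α * tr M = 0 ∨ (α * tr M) ^ 2 ≠ α ^ 2 * 4 - 4)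
    (h' : (2 : F) ≠ 0 ∨ tr M ≠ 0) (h'' : (2 : F) = 0 → tr M ≠ 0) (h3 : (2 : F) ≠ 0 → tr M = 0 → False) :
    Odd (orderOf (proj M)) := by
  by_contra hc
  rw [Nat.not_odd_iff_even] at hc
  set N := M ^ (orderOf (proj M) / 2) with hN
  have hNo : orderOf (proj N) = 2 := by rw [hN, map_pow]; exact CfsgLib.Invol.orderOf_pow_half hc
  obtain ⟨α, β, e1, e2, e3, e4⟩ := exists_pow_eq M (orderOf (proj M) / 2)
  rw [← hN] at e1 e2 e3 e4
  have ht := tr_eq_zero N hNo
  have hd := det_eq N
  have hα : α ≠ 0 := fun h0 => by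
    have h1 : ¬ proj N = 1 := fun h => by rw [h, orderOf_one] at hNo; exact absurd hNo (by decide)
    apply h1
    rw [proj_eq_one_iff, e1, e2, e3, e4, h0]
    simp
  rw [e1, e2, e3, e4] at hd
  simp only [tr, e1, e2] at ht
  have hT : tr M = (↑M : Matrix (Fin 2) (Fin 2) F) 0 0 + (↑M : Matrix (Fin 2) (Fin 2) F) 1 1 := rfl
  have h5 : α * tr M + 2 * β = 0 := by rw [hT]; linear_combination ht
  have h6 : (α * tr M) ^ 2 = α ^ 2 * 4 - 4 := by
    rw [hT]
    linear_combination (α * ((↑M : Matrix (Fin 2) (Fin 2) F) 0 0 + (↑M : Matrix (Fin 2) (Fin 2) F) 1 1) + 2 * β) * ht - 4 * hd + 4 * α ^ 2 * det_eq M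
  rcases h α with h0 | h0
  · rcases mul_eq_zero.1 h0 with h0 | h0
    · exact hα h0
    · by_cases h20 : (2 : F) = 0
      · exact h'' h20 h0
      · exact h3 h20 h0
  · exact h0 h6

theorem odd_orderOf_of_not_square (h2 : (2 : F) ≠ 0) (M : SpecialLinearGroup (Fin 2) F)
    (h : ∀ r : F, r ≠ 0 → r ^ 2 ≠ 4 - tr M ^ 2) : Odd (orderOf (proj M)) := by
  have ht : tr M ≠ 0 := fun h0 => h 2 h2 (by rw [h0]; ring)
  refine odd_orderOf M (fun α => ?_) (Or.inl h2) (fun h0 => absurd h0 h2) fun _ h0 => ht h0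
  by_cases hα : α = 0
  · exact Or.inl (by rw [hα, zero_mul])
  refine Or.inr fun he => h (2 / α) (div_ne_zero h2 hα) ?_
  field_simp
  linear_combination he

theorem odd_orderOf_char_two (h2 : (2 : F) = 0) (M : SpecialLinearGroup (Fin 2) F) (ht : tr M ≠ 0) :
    Odd (orderOf (proj M)) := by
  refine odd_orderOf M (fun α => ?_) (Or.inr ht) (fun _ => ht) fun h => absurd h2 h
  by_cases hα : α = 0
  · exact Or.inl (by rw [hα, zero_mul])
  refine Or.inr fun he => mul_ne_zero hα ht ?_
  have : (α * tr M) ^ 2 = 0 := by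
    rw [he, show (4 : F) = 2 * 2 by norm_num, h2]; ring
  exact eq_zero_of_pow_eq_zero this

/-- A matrix of determinant one. -/
def mk (a b c d : F) (h : a * d - b * c = 1) : SpecialLinearGroup (Fin 2) F :=
  ⟨!![a, b; c, d], by rw [det_fin_two]; simpa using h⟩

@[simp] theorem coe_mk (a b c d : F) (h : a * d - b * c = 1) :
    (↑(mk a b c d h) : Matrix (Fin 2) (Fin 2) F) = !![a, b; c, d] := rfl

theorem exists_sq_add_sq (h2 : (2 : F) ≠ 0) (v : F) : ∃ a b : F, a ^ 2 + b ^ 2 = v := by
  classical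
  have hodd : Fintype.card F % 2 = 1 := FiniteField.odd_card_of_char_ne_two (fun h => h2 (by
    have := ringChar.charP F; rw [h] at this; exact CharP.cast_eq_zero F 2))
  obtain ⟨a, b, hab⟩ := FiniteField.exists_root_sum_quadratic (R := F)
    (f := Polynomial.X ^ 2) (g := Polynomial.X ^ 2 - Polynomial.C v) (Polynomial.degree_X_pow 2)
    (Polynomial.degree_X_pow_sub_C (by decide) _) hodd
  refine ⟨a, b, ?_⟩
  simp only [Polynomial.eval_pow, Polynomial.eval_X, Polynomial.eval_sub, Polynomial.eval_C] at hab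
  linear_combination hab

/-- The standard involution. -/
def std : SpecialLinearGroup (Fin 2) F := mk 0 (-1) 1 0 (by ring)

def stdTwo : SpecialLinearGroup (Fin 2) F := mk 1 1 0 1 (by ring)

/-- In odd characteristic every involution is conjugate to the standard one. -/
theorem isConj_std (h2 : (2 : F) ≠ 0) {x : ProjectiveSpecialLinearGroup (Fin 2) F}
    (hx : orderOf x = 2) : IsConj (proj std) x := by
  obtain ⟨N, rfl⟩ := proj_surjective x
  have ht := tr_eq_zero N hx
  have hd := det_eq N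
  set a := (↑N : Matrix (Fin 2) (Fin 2) F) 0 0 with ha
  set b := (↑N : Matrix (Fin 2) (Fin 2) F) 0 1 with hb
  set c := (↑N : Matrix (Fin 2) (Fin 2) F) 1 0 with hc
  have hd' : (↑N : Matrix (Fin 2) (Fin 2) F) 1 1 = -a := by simp only [tr] at ht; linear_combination ht
  rw [hd'] at hd
  -- a vector `e` with `det (e, N e) = 1`
  obtain ⟨u, v, huv⟩ : ∃ u v : F, c * u ^ 2 - 2 * a * u * v - b * v ^ 2 = 1 := by
    by_cases hc0 : c = 0
    · have ha0 : a ≠ 0 := fun h => by rw [h, hc0] at hd; simp at hd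
      refine ⟨(-1 - b) / (2 * a), 1, ?_⟩
      rw [hc0]; field_simp; ring
    · obtain ⟨p, q, hpq⟩ := exists_sq_add_sq h2 c
      refine ⟨(p + a * q) / c, q, ?_⟩
      field_simp
      linear_combination hpq + q ^ 2 * hd
  let P := mk u (a * u + b * v) v (c * u - a * v) (by linear_combination huv)
  refine isConj_iff.2 ⟨proj P, ?_⟩
  rw [mul_inv_eq_iff_eq_mul, ← map_mul, ← map_mul]
  congr 1
  apply Subtype.ext
  ext i j
  fin_cases i <;> fin_cases j <;>
    simp [P, std, mul_apply, Fin.sum_univ_two, ← ha, ← hb, ← hc, hd']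
  all_goals first
    | ring1
    | linear_combination u * hd
    | linear_combination -u * hd
    | linear_combination v * hd
    | linear_combination -v * hd

/-- In characteristic two every involution is conjugate to the standard one. -/
theorem isConj_stdTwo (h2 : (2 : F) = 0) {x : ProjectiveSpecialLinearGroup (Fin 2) F}
    (hx : orderOf x = 2) : IsConj (proj stdTwo) x := by
  obtain ⟨N, rfl⟩ := proj_surjective x
  have ht := tr_eq_zero N hx
  have hd := det_eq N
  set a := (↑N : Matrix (Fin 2) (Fin 2) F) 0 0 with ha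
  set b := (↑N : Matrix (Fin 2) (Fin 2) F) 0 1 with hb
  set c := (↑N : Matrix (Fin 2) (Fin 2) F) 1 0 with hc
  have hneg : ∀ w : F, -w = w := fun w => by linear_combination (-w) * h2
  have hd' : (↑N : Matrix (Fin 2) (Fin 2) F) 1 1 = a := by simp only [tr] at ht; linear_combination ht + (-a) * h2
  rw [hd'] at hd
  have hchar : ringChar F = 2 := by
    have h : ((2 : ℕ) : F) = 0 := by simpa using h2
    exact (Nat.prime_two.eq_one_or_self_of_dvd _ ((ringChar.spec F 2).1 h)).resolve_left CharP.ringChar_ne_one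
  have hbc : b ≠ 0 ∨ c ≠ 0 := by
    by_contra h
    push Not at h
    have h1 : ¬ proj N = 1 := fun e => by rw [e, orderOf_one] at hx; exact absurd hx (by decide)
    exact h1 ((proj_eq_one_iff N).2 ⟨h.1, h.2, hd'.symm⟩)
  obtain ⟨u, v, huv⟩ : ∃ u v : F, b * v ^ 2 + c * u ^ 2 = 1 := by
    rcases hbc with h | h
    · obtain ⟨v, hv⟩ := FiniteField.isSquare_of_char_two hchar b⁻¹
      exact ⟨0, v, by rw [pow_two v, ← hv]; simp [h]⟩
    · obtain ⟨u, hu⟩ := FiniteField.isSquare_of_char_two hchar c⁻¹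
      exact ⟨u, 0, by rw [pow_two u, ← hu]; simp [h]⟩
  let P := mk ((a + 1) * u + b * v) u (c * u + (a + 1) * v) v
    (by linear_combination huv + (-c * u ^ 2) * h2)
  refine isConj_iff.2 ⟨proj P, ?_⟩
  rw [mul_inv_eq_iff_eq_mul, ← map_mul, ← map_mul]
  congr 1
  apply Subtype.ext
  ext i j
  fin_cases i <;> fin_cases j <;>
    simp [P, stdTwo, mul_apply, Fin.sum_univ_two, ← ha, ← hb, ← hc, hd']
  all_goals grind

/-- A suitable value for the cubic. -/
theorem exists_cubic_square (h1 : ¬ IsSquare (-1 : F)) (X : F) (hX0 : X ≠ 0) (hX1 : X ≠ 1)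
    (hq : 7 < Fintype.card F) :
    ∃ l r : F, r ≠ 0 ∧ l * (l - 1) * (l - X) = r ^ 2 := by
  classical
  suffices ∃ l : F, l * (l - 1) * (l - X) ≠ 0 ∧ IsSquare (l * (l - 1) * (l - X)) by
    obtain ⟨l, h0, r, hr⟩ := this
    exact ⟨l, r, fun e => h0 (by rw [hr, e, zero_mul]), by rw [hr, pow_two]⟩
  have hchar : ringChar F ≠ 2 := fun h => h1 (FiniteField.isSquare_of_char_two h _)
  have hmul : ∀ u v : F, u ≠ 0 → ¬ IsSquare u → ¬ IsSquare v → IsSquare (u * v) := by
    intro u v hu hus hvs
    rw [← quadraticChar_one_iff_isSquare (mul_ne_zero hu fun e => hvs (by rw [e]; exact IsSquare.zero)), map_mul,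
      quadraticChar_neg_one_iff_not_isSquare.2 hus, quadraticChar_neg_one_iff_not_isSquare.2 hvs]
    ring
  have havoid : ∀ S : Finset F, S.card < Fintype.card F → ∃ w, w ∉ S := fun S hS => by
    by_contra h
    push Not at h
    rw [Finset.eq_univ_of_forall h, Finset.card_univ] at hS
    exact lt_irrefl _ hS
  by_cases hA : X = -1
  · obtain ⟨l, hl⟩ : ∃ l : F, l ∉ ({0, 1, -1} : Finset F) :=
      havoid _ (lt_of_le_of_lt (Finset.card_le_three) (by omega))
    simp only [Finset.mem_insert, Finset.mem_singleton, not_or] at hl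
    have hg : l * (l - 1) * (l - X) ≠ 0 := mul_ne_zero (mul_ne_zero hl.1 (sub_ne_zero.2 hl.2.1))
      (sub_ne_zero.2 (hA ▸ hl.2.2))
    by_cases hs : IsSquare (l * (l - 1) * (l - X))
    · exact ⟨l, hg, hs⟩
    · refine ⟨-l, ?_, ?_⟩ <;>
        rw [show -l * (-l - 1) * (-l - X) = -1 * (l * (l - 1) * (l - X)) by rw [hA]; ring]
      · exact mul_ne_zero (neg_ne_zero.2 one_ne_zero) hg
      · exact hmul _ _ (neg_ne_zero.2 one_ne_zero) h1 hs
  · -- `u = -k²` is not a square
    let bad : Finset F := {0, 1, -1} ∪ ((Finset.univ.filter fun k : F => k ^ 2 = -X) ∪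
      (Finset.univ.filter fun k : F => k ^ 2 = -X⁻¹))
    have hroots : ∀ w : F, (Finset.univ.filter fun k : F => k ^ 2 = w).card ≤ 2 := by
      intro w
      calc (Finset.univ.filter fun k : F => k ^ 2 = w).card
          ≤ (Polynomial.nthRoots 2 w).toFinset.card := Finset.card_le_card fun k hk => by
            simpa [Polynomial.mem_nthRoots] using hk
        _ ≤ 2 := (Multiset.toFinset_card_le _).trans (Polynomial.card_nthRoots 2 w)
    obtain ⟨k, hk⟩ : ∃ k, k ∉ bad := havoid _ (by
      have := Finset.card_union_le ({0, 1, -1} : Finset F) ((Finset.univ.filter fun k : F => k ^ 2 = -X) ∪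
        (Finset.univ.filter fun k : F => k ^ 2 = -X⁻¹))
      have := Finset.card_union_le (Finset.univ.filter fun k : F => k ^ 2 = -X)
        (Finset.univ.filter fun k : F => k ^ 2 = -X⁻¹)
      have := hroots (-X)
      have := hroots (-X⁻¹)
      have : ({0, 1, -1} : Finset F).card ≤ 3 := Finset.card_le_three
      have hb : bad.card = ({0, 1, -1} ∪ ((Finset.univ.filter fun k : F => k ^ 2 = -X) ∪
        (Finset.univ.filter fun k : F => k ^ 2 = -X⁻¹)) : Finset F).card := rfl
      omega)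
    simp only [bad, Finset.mem_union, Finset.mem_insert, Finset.mem_singleton, Finset.mem_filter,
      Finset.mem_univ, true_and, not_or] at hk
    obtain ⟨⟨k0, k1, k1'⟩, kX, kX'⟩ := hk
    set u := -k ^ 2 with hu
    have hu0 : u ≠ 0 := neg_ne_zero.2 (pow_ne_zero 2 k0)
    have hus : ¬ IsSquare u := by
      rintro ⟨s, hs⟩
      apply h1
      refine ⟨s / k, ?_⟩
      field_simp
      linear_combination hs - hu
    have hu1 : 1 + u ≠ 0 := fun e => by
      have : (k - 1) * (k + 1) = 0 := by rw [hu] at e; linear_combination -e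
      rcases mul_eq_zero.1 this with h | h
      · exact k1 (sub_eq_zero.1 h)
      · exact k1' (eq_neg_of_add_eq_zero_left h)
    have hX1' : 1 + X ≠ 0 := fun e => hA (by linear_combination e)
    set l := (1 + X) / (1 + u) with hl
    have hl' : l * (1 + u) = 1 + X := by rw [hl]; field_simp
    have hg : l * (l - 1) * (l - X) ≠ 0 := by
      refine mul_ne_zero (mul_ne_zero (div_ne_zero hX1' hu1) (sub_ne_zero.2 fun e => ?_))
        (sub_ne_zero.2 fun e => ?_)
      · rw [e] at hl'
        exact kX (by rw [hu] at hl'; linear_combination -hl')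
      · rw [e] at hl'
        refine kX' ?_
        rw [hu] at hl'
        field_simp
        linear_combination -hl'
    by_cases hs : IsSquare (l * (l - 1) * (l - X))
    · exact ⟨l, hg, hs⟩
    · have e : u * l * (u * l - 1) * (u * l - X) = u * (l * (l - 1) * (l - X)) := by
        linear_combination (u * l * (u * l - l)) * hl'
      refine ⟨u * l, ?_, ?_⟩ <;> rw [e]
      · exact mul_ne_zero hu0 hg
      · exact hmul _ _ hu0 hus hs

theorem tr_std_mul (a b c d : F) (h : a * d - b * c = 1) : tr (std * mk a b c d h) = b - c := by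
  simp [tr, std, mul_apply, Fin.sum_univ_two]; ring

theorem orderOf_proj_mk (a b c : F) (h : a * -a - b * c = 1) (h0 : b ≠ 0 ∨ c ≠ 0) :
    orderOf (proj (mk a b c (-a) h)) = 2 := by
  refine orderOf_proj_eq_two _ (by simp [tr]) fun e => ?_
  rw [proj_eq_one_iff] at e
  simp at e
  tauto

theorem seven_table : ∀ t s : ZMod 7, s ≠ 0 → s ^ 2 = 4 - t ^ 2 → ∃ e r : ZMod 7, (e = 1 ∨ e = -1) ∧
    2 - e * t ≠ 0 ∧ (2 - e * t) * (r ^ 2 * (4 - t ^ 2)) = 1 - e * t := by decide

/-- A common partner of the standard involution and another one, in odd characteristic. -/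
theorem exists_partner_std (h2 : (2 : F) ≠ 0) (hq : 4 ≤ Fintype.card F) (a b c : F)
    (hd : a * -a - b * c = 1) (s : F) (hs0 : s ≠ 0) (hs : s ^ 2 = 4 - (b - c) ^ 2) :
    ∃ Z : SpecialLinearGroup (Fin 2) F, orderOf (proj Z) = 2 ∧ Odd (orderOf (proj (std * Z))) ∧
      Odd (orderOf (proj (mk a b c (-a) hd * Z))) := by
  classical
  have h4 : (4 : F) ≠ 0 := by
    rw [show (4 : F) = 2 * 2 by norm_num]; exact mul_ne_zero h2 h2
  set t := b - c with ht
  have ht2 : 2 - t ≠ 0 := fun e => hs0 (eq_zero_of_pow_eq_zero (n := 2) (by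
    rw [hs]; linear_combination (2 + t) * e))
  have hzero : ∀ M : SpecialLinearGroup (Fin 2) F, tr M ^ 2 = 4 → Odd (orderOf (proj M)) :=
    fun M hM => odd_orderOf_of_not_square h2 M fun r hr h => hr
      (eq_zero_of_pow_eq_zero (n := 2) (by rw [h, hM, sub_self]))
  by_cases hi : IsSquare (-1 : F)
  · -- both products unipotent up to sign
    obtain ⟨i, hi⟩ := hi
    let A := (2 * a + i * (-c - b)) / (2 - t)
    let B := (2 * (b - 1) + i * (2 * a)) / (2 - t)
    let C := (2 * (c + 1) + i * (2 * a)) / (2 - t)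
    have hdet : A * -A - B * C = 1 := by
      simp only [A, B, C]
      field_simp
      rw [ht]
      linear_combination ((b + c) ^ 2 + 4 * a ^ 2) * hi
    refine ⟨mk A B C (-A) hdet, orderOf_proj_mk A B C hdet ?_, hzero _ ?_, hzero _ ?_⟩
    · by_contra h
      push Not at h
      have e : B - C = -2 := by
        simp only [B, C]; field_simp; rw [ht]; ring
      rw [h.1, h.2, sub_self] at e
      exact h2 (by linear_combination e)
    · rw [tr_std_mul]
      have e : B - C = -2 := by
        simp only [B, C]; field_simp; rw [ht]; ring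
      rw [e]; ring
    · have e : tr (mk a b c (-a) hd * mk A B C (-A) hdet) = -2 := by
        simp only [tr, coe_mk, Matrix.SpecialLinearGroup.coe_mul, mul_apply, Fin.sum_univ_two, A, B, C]
        simp
        field_simp
        rw [ht]
        linear_combination (-4 : F) * hd
      rw [e]; ring
  have hns : ∀ M : SpecialLinearGroup (Fin 2) F, (∃ w, tr M ^ 2 - 4 = w ^ 2) →
      Odd (orderOf (proj M)) := by
    rintro M ⟨w, hw⟩
    refine odd_orderOf_of_not_square h2 M fun r hr h => hi ⟨w / r, ?_⟩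
    field_simp
    linear_combination hw - h
  by_cases hq7 : 7 < Fintype.card F
  · have hb : b ≠ 0 := fun e => hi ⟨a, by rw [e] at hd; linear_combination hd⟩
    have hc : c ≠ 0 := fun e => hi ⟨a, by rw [e] at hd; linear_combination hd⟩
    have hX0 : -(b * c) ≠ 0 := neg_ne_zero.2 (mul_ne_zero hb hc)
    obtain ⟨l, r, hr, hlr⟩ : ∃ l r : F, r ≠ 0 ∧ l * (l - 1) * (l - -(b * c)) = r ^ 2 := by
      by_cases hX1 : -(b * c) = 1
      · exact absurd (show a ^ 2 = 0 by linear_combination -hd + hX1) fun ha => by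
          have ha0 : a = 0 := eq_zero_of_pow_eq_zero ha
          refine hi ⟨s / (b + c), ?_⟩
          have hbc0 : b + c ≠ 0 := fun e => hs0 (eq_zero_of_pow_eq_zero (n := 2) (by
            rw [hs, ht]; linear_combination -4 * hX1 + (-(b + c)) * e))
          field_simp
          rw [ht] at hs
          linear_combination -hs + 4 * hX1
      · exact exists_cubic_square hi _ hX0 hX1 hq7
    have hl0 : l ≠ 0 := fun e => hr (eq_zero_of_pow_eq_zero (n := 2) (by rw [← hlr, e]; ring))
    have hl1 : l - 1 ≠ 0 := fun e => hr (eq_zero_of_pow_eq_zero (n := 2) (by rw [← hlr, e]; ring))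
    -- `ρ = k n`
    set n := r / (l * (l - 1)) with hn
    set ρ := l / b * n with hρ
    have hn0 : n ≠ 0 := div_ne_zero hr (mul_ne_zero hl0 hl1)
    have hρ0 : ρ ≠ 0 := mul_ne_zero (div_ne_zero hl0 hb) hn0
    have hdet : (0 : F) * -0 - -ρ⁻¹ * ρ = 1 := by field_simp; ring
    refine ⟨mk 0 (-ρ⁻¹) ρ (-0) hdet, orderOf_proj_mk _ _ _ hdet (Or.inr hρ0),
      hns _ ⟨ρ - ρ⁻¹, ?_⟩, hns _ ⟨n - n⁻¹, ?_⟩⟩
    · rw [tr_std_mul]
      field_simp
      ring
    · have e : tr (mk a b c (-a) hd * mk 0 (-ρ⁻¹) ρ (-0) hdet) = n + n⁻¹ := by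
        simp only [tr, coe_mk, Matrix.SpecialLinearGroup.coe_mul, mul_apply, Fin.sum_univ_two]
        simp
        have key : n ^ 2 * (l - 1) * l = l + b * c := by
          rw [hn]
          field_simp
          linear_combination -hlr
        rw [hρ]
        field_simp
        linear_combination key
      rw [e]
      field_simp
      ring
  · -- seven elements
    have hmod : Fintype.card F % 4 = 3 := by
      by_contra h
      exact hi (FiniteField.isSquare_neg_one_iff.2 h)
    have h7 : Fintype.card F = 7 := by omega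
    have : Fact (Nat.Prime 7) := ⟨by norm_num⟩
    have : CharP F 7 := charP_of_card_eq_prime h7
    let φ : ZMod 7 →+* F := ZMod.castHom dvd_rfl F
    have hφ : Function.Surjective φ :=
      ((Fintype.bijective_iff_injective_and_card φ).2 ⟨φ.injective, by rw [ZMod.card, h7]⟩).2
    have key := seven_table
    obtain ⟨t₀, ht₀⟩ := hφ t
    obtain ⟨s₀, hs₀⟩ := hφ s
    obtain ⟨e₀, r₀, he₀, hm₀, hr₀⟩ := key t₀ s₀ (fun h => hs0 (by rw [← hs₀, h, map_zero]))
      (φ.injective (by simp only [map_pow, map_sub, map_ofNat, hs₀, ht₀, hs]))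
    set e := φ e₀ with he
    set r := φ r₀ with hr
    have he2 : e ^ 2 = 1 := by
      rcases he₀ with h | h <;> simp [he, h]
    have hm : 2 - e * t ≠ 0 := by
      rw [he, ← ht₀, ← map_mul, ← map_ofNat φ 2, ← map_sub]
      exact fun h => hm₀ (φ.injective (by rw [h, map_zero]))
    have hr' : (2 - e * t) * (r ^ 2 * (4 - t ^ 2)) = 1 - e * t := by
      have h := congrArg φ hr₀
      simpa only [map_mul, map_sub, map_pow, map_ofNat, map_one, ← he, ← hr, ht₀] using h
    have h70 : (7 : F) = 0 := CharP.cast_eq_zero F 7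
    let A := e * a / (2 - e * t) + r * (-c - b)
    let B := (-1 + e * b) / (2 - e * t) + r * (2 * a)
    let C := (1 + e * c) / (2 - e * t) + r * (2 * a)
    have hdet : A * -A - B * C = 1 := by
      simp only [A, B, C]
      field_simp
      rw [ht] at hr' ⊢
      linear_combination (2 - e * (b - c)) * hr' + (e ^ 2 + (2 - e * (b - c)) ^ 2 * r ^ 2 * 4) * hd + he2
    refine ⟨mk A B C (-A) hdet, orderOf_proj_mk A B C hdet ?_, hns _ ⟨2, ?_⟩, hns _ ⟨2, ?_⟩⟩
    · by_contra h
      push Not at h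
      have e1 : B - C = -1 := by
        simp only [B, C]; field_simp; rw [ht]; ring
      rw [h.1, h.2, sub_self] at e1
      exact one_ne_zero (by linear_combination e1)
    · rw [tr_std_mul]
      have e1 : B - C = -1 := by
        simp only [B, C]; field_simp; rw [ht]; ring
      rw [e1]
      linear_combination -h70
    · have e1 : tr (mk a b c (-a) hd * mk A B C (-A) hdet) = -e := by
        simp only [tr, coe_mk, Matrix.SpecialLinearGroup.coe_mul, mul_apply, Fin.sum_univ_two, A, B, C]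
        simp
        field_simp
        rw [ht]
        linear_combination (-2 * e) * hd + (-(b - c)) * he2
      rw [e1]
      linear_combination he2 - h70

theorem odd_conj {G : Type*} [Group G] (g x z : G) (h : Odd (orderOf (g⁻¹ * x * g * z))) :
    Odd (orderOf (x * (g * z * g⁻¹))) := by
  have e : x * (g * z * g⁻¹) = MulAut.conj g (g⁻¹ * x * g * z) := by
    simp only [MulAut.conj_apply]; group
  rw [e, MulEquiv.orderOf_eq]
  exact h

/-- Two involutions without odd product have a partner giving odd products with both. -/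
theorem exists_partner (hq : 4 ≤ Fintype.card F) {x y : ProjectiveSpecialLinearGroup (Fin 2) F}
    (hx : orderOf x = 2) (hy : orderOf y = 2) (hn : ¬ Odd (orderOf (x * y))) :
    ∃ z, orderOf z = 2 ∧ Odd (orderOf (x * z)) ∧ Odd (orderOf (y * z)) := by
  classical
  by_cases h2 : (2 : F) = 0
  · -- one of three candidates
    have cand : ∀ N : SpecialLinearGroup (Fin 2) F, orderOf (proj N) = 2 →
        (↑N : Matrix (Fin 2) (Fin 2) F) 1 0 = 0 → (↑N : Matrix (Fin 2) (Fin 2) F) 0 1 ≠ 0 := by
      intro N hN hc hb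
      have ht := tr_eq_zero N hN
      have h1 : ¬ proj N = 1 := fun e => by rw [e, orderOf_one] at hN; exact absurd hN (by decide)
      refine h1 ((proj_eq_one_iff N).2 ⟨hb, hc, ?_⟩)
      simp only [tr] at ht
      linear_combination ht + (-(↑N : Matrix (Fin 2) (Fin 2) F) 1 1) * h2
    obtain ⟨X, rfl⟩ := proj_surjective x
    obtain ⟨Y, rfl⟩ := proj_surjective y
    have ht : ∀ N : SpecialLinearGroup (Fin 2) F, orderOf (proj N) = 2 →
        tr (N * mk 1 1 0 1 (by ring)) = (↑N : Matrix (Fin 2) (Fin 2) F) 1 0 ∧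
        tr (N * mk 1 0 1 1 (by ring)) = (↑N : Matrix (Fin 2) (Fin 2) F) 0 1 ∧
        tr (N * mk 0 1 1 0 (by linear_combination -h2)) =
          (↑N : Matrix (Fin 2) (Fin 2) F) 0 1 + (↑N : Matrix (Fin 2) (Fin 2) F) 1 0 := by
      intro N hN
      have ht := tr_eq_zero N hN
      simp only [tr] at ht
      refine ⟨?_, ?_, ?_⟩ <;>
        simp only [tr, Matrix.SpecialLinearGroup.coe_mul, coe_mk, mul_apply, Fin.sum_univ_two] <;>
        simp <;> first | ring1 | linear_combination ht
    have two : ∀ N : SpecialLinearGroup (Fin 2) F, tr N = 0 → ¬ proj N = 1 → orderOf (proj N) = 2 :=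
      orderOf_proj_eq_two
    have good : ∀ (p q r w : F) (h : p * w - q * r = 1), p + w = 0 → (q ≠ 0 ∨ r ≠ 0) →
        orderOf (proj (mk p q r w h)) = 2 := fun p q r w h hpw hqr =>
      two _ (by simpa [tr] using hpw) fun e => by
        rw [proj_eq_one_iff] at e; simp at e; tauto
    obtain ⟨x1, x2, x3⟩ := ht X hx
    obtain ⟨y1, y2, y3⟩ := ht Y hy
    have hx' := cand X hx
    have hy' := cand Y hy
    set bx := (↑X : Matrix (Fin 2) (Fin 2) F) 0 1
    set cx := (↑X : Matrix (Fin 2) (Fin 2) F) 1 0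
    set by' := (↑Y : Matrix (Fin 2) (Fin 2) F) 0 1
    set cy := (↑Y : Matrix (Fin 2) (Fin 2) F) 1 0
    have fin : ∀ Z, orderOf (proj Z) = 2 → tr (X * Z) ≠ 0 → tr (Y * Z) ≠ 0 →
        ∃ z, orderOf z = 2 ∧ Odd (orderOf (proj X * z)) ∧ Odd (orderOf (proj Y * z)) :=
      fun Z hZ h h' => ⟨proj Z, hZ, by rw [← map_mul]; exact odd_orderOf_char_two h2 _ h,
        by rw [← map_mul]; exact odd_orderOf_char_two h2 _ h'⟩
    by_cases c1 : cx ≠ 0 ∧ cy ≠ 0
    · exact fin _ (good 1 1 0 1 _ (by linear_combination h2) (Or.inl one_ne_zero))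
        (x1 ▸ c1.1) (y1 ▸ c1.2)
    by_cases c2 : bx ≠ 0 ∧ by' ≠ 0
    · exact fin _ (good 1 0 1 1 _ (by linear_combination h2) (Or.inr one_ne_zero))
        (x2 ▸ c2.1) (y2 ▸ c2.2)
    refine fin _ (good 0 1 1 0 (by linear_combination -h2) (by ring) (Or.inl one_ne_zero)) ?_ ?_
    · rw [x3]
      by_cases h0 : cx = 0
      · rw [h0, add_zero]; exact hx' h0
      · by_cases hb : bx = 0
        · rw [hb, zero_add]; exact h0
        · exfalso
          have : cy = 0 := not_not.1 fun h => c1 ⟨h0, h⟩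
          exact c2 ⟨hb, hy' this⟩
    · rw [y3]
      by_cases h0 : cy = 0
      · rw [h0, add_zero]; exact hy' h0
      · by_cases hb : by' = 0
        · rw [hb, zero_add]; exact h0
        · exfalso
          have : cx = 0 := not_not.1 fun h => c1 ⟨h, h0⟩
          exact c2 ⟨hx' this, hb⟩
  obtain ⟨g, hg⟩ := isConj_iff.1 (isConj_std h2 hx)
  obtain ⟨Y, hY⟩ := proj_surjective (g⁻¹ * y * g)
  have hY2 : orderOf (proj Y) = 2 := by
    rw [hY, show g⁻¹ * y * g = MulAut.conj g⁻¹ y by simp [MulAut.conj_apply], MulEquiv.orderOf_eq, hy]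
  have ht := tr_eq_zero Y hY2
  have hd := det_eq Y
  simp only [tr] at ht
  set a := (↑Y : Matrix (Fin 2) (Fin 2) F) 0 0 with ha
  set b := (↑Y : Matrix (Fin 2) (Fin 2) F) 0 1 with hb
  set c := (↑Y : Matrix (Fin 2) (Fin 2) F) 1 0 with hc
  have hd' : (↑Y : Matrix (Fin 2) (Fin 2) F) 1 1 = -a := by linear_combination ht
  rw [hd'] at hd
  have hYm : Y = mk a b c (-a) hd := by
    apply Subtype.ext
    ext i j
    fin_cases i <;> fin_cases j <;> simp [← ha, ← hb, ← hc, hd']
  have hsq : ∃ s : F, s ≠ 0 ∧ s ^ 2 = 4 - (b - c) ^ 2 := by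
    by_contra h
    push Not at h
    apply hn
    have h1 := odd_orderOf_of_not_square h2 (std * mk a b c (-a) hd) (by
      intro s hs; rw [tr_std_mul]; exact h s hs)
    rw [map_mul, ← hYm, hY] at h1
    have e : x * y = MulAut.conj g (proj std * (g⁻¹ * y * g)) := by
      rw [← hg]; simp only [MulAut.conj_apply]; group
    rw [e, MulEquiv.orderOf_eq]
    exact h1
  obtain ⟨s, hs0, hs⟩ := hsq
  obtain ⟨Z, hZ, hZx, hZy⟩ := exists_partner_std h2 hq a b c hd s hs0 hs
  refine ⟨g * proj Z * g⁻¹, ?_, odd_conj _ _ _ ?_, odd_conj _ _ _ ?_⟩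
  · rw [show g * proj Z * g⁻¹ = MulAut.conj g (proj Z) from rfl, MulEquiv.orderOf_eq, hZ]
  · rw [← hg, show g⁻¹ * (g * proj std * g⁻¹) * g = proj std by group, ← map_mul]
    exact hZx
  · rw [← hY, ← map_mul, hYm]
    exact hZy

/-- All involutions of `PSL(2, F)` are conjugate. -/
theorem isConj_of_invol {x y : ProjectiveSpecialLinearGroup (Fin 2) F}
    (hx : orderOf x = 2) (hy : orderOf y = 2) : IsConj x y := by
  by_cases h2 : (2 : F) = 0
  · exact (isConj_stdTwo h2 hx).symm.trans (isConj_stdTwo h2 hy)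
  · exact (isConj_std h2 hx).symm.trans (isConj_std h2 hy)

/-- Two distinct commuting involutions. -/
theorem exists_commuting_pair (hq : 4 ≤ Fintype.card F) :
    ∃ x y : ProjectiveSpecialLinearGroup (Fin 2) F, orderOf x = 2 ∧ orderOf y = 2 ∧ x ≠ y ∧
      Commute x y := by
  classical
  by_cases h2 : (2 : F) = 0
  · obtain ⟨s, hs⟩ : ∃ s : F, s ∉ ({0, 1} : Finset F) := by
      by_contra h
      push Not at h
      have := Finset.card_le_two (a := (0 : F)) (b := 1)
      rw [Finset.eq_univ_of_forall h, Finset.card_univ] at this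
      omega
    simp only [Finset.mem_insert, Finset.mem_singleton, not_or] at hs
    have ho : ∀ w : F, w ≠ 0 → orderOf (proj (mk 1 w 0 1 (by ring))) = 2 := fun w hw =>
      orderOf_proj_eq_two _ (by simp [tr]; linear_combination h2) fun e => by
        rw [proj_eq_one_iff] at e; simp [hw] at e
    refine ⟨_, _, ho 1 one_ne_zero, ho s hs.1, fun e => hs.2 ?_, ?_⟩
    · have : proj ((mk 1 1 0 1 (by ring))⁻¹ * mk 1 s 0 1 (by ring) : SpecialLinearGroup (Fin 2) F) = 1 := by
        rw [map_mul, map_inv, ← e, inv_mul_cancel]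
      rw [proj_eq_one_iff] at this
      simp [Matrix.SpecialLinearGroup.coe_inv, adjugate_fin_two, mul_apply, Fin.sum_univ_two] at this
      linear_combination this
    · refine (Commute.map ?_ proj)
      apply Subtype.ext
      ext i j
      fin_cases i <;> fin_cases j <;> simp [mul_apply, Fin.sum_univ_two, add_comm]
  · obtain ⟨a, b, hab⟩ := exists_sq_add_sq h2 (-1)
    have hd : a * -a - b * b = 1 := by linear_combination -hab
    have hne : a ≠ 0 ∨ b ≠ 0 := by
      by_contra h
      push Not at h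
      rw [h.1, h.2] at hd
      simp at hd
    refine ⟨proj std, proj (mk a b b (-a) hd), ?_, ?_, fun e => ?_, ?_⟩
    · exact orderOf_proj_eq_two _ (by simp [tr, std]) fun e => by
        rw [proj_eq_one_iff] at e; simp [std] at e
    · refine orderOf_proj_eq_two _ (by simp [tr]) fun e => ?_
      rw [proj_eq_one_iff] at e
      simp at e
      rcases hne with h | h
      · exact h ((mul_eq_zero.1 (show 2 * a = 0 by linear_combination e.2)).resolve_left h2)
      · exact h e.1
    · have : proj (std * mk a b b (-a) hd : SpecialLinearGroup (Fin 2) F) = 1 := by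
        rw [map_mul, ← e, ← map_mul, proj_eq_one_iff]
        simp [std, mul_apply, Fin.sum_univ_two]
      rw [proj_eq_one_iff] at this
      simp [std, mul_apply, Fin.sum_univ_two] at this
      rcases hne with h | h
      · exact h this.1
      · exact h ((mul_eq_zero.1 (show 2 * b = 0 by linear_combination -this.2)).resolve_left h2)
    · show proj std * proj (mk a b b (-a) hd) = proj (mk a b b (-a) hd) * proj std
      rw [← mul_inv_eq_one, _root_.mul_inv_rev, ← map_mul, ← map_inv, ← map_inv, ← map_mul, ← map_mul,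
        proj_eq_one_iff]
      simp [std, Matrix.SpecialLinearGroup.coe_inv, adjugate_fin_two, mul_apply, Fin.sum_univ_two]
      constructor <;> (try constructor) <;> ring

end CfsgLib.OddProdPSL
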