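import Mathlib.GroupTheory.SpecificGroups.Alternating

/-!
# Finite checks in the alternating group of degree six
-/

set_option autoImplicit false
set_option maxRecDepth 100000
set_option synthInstance.maxSize 1000
set_option synthInstance.maxHeartbeats 200000

namespace CfsgLib.Perm.AltSixFacts

theorem invol_not_commute : ∀ z : Equiv.Perm (Fin 6), z * z = 1 → z ≠ 1 → Equiv.Perm.sign z = 1 →
    ∀ w : Equiv.Perm (Fin 6), w ≠ 1 → Equiv.Perm.sign w = 1 → (w ^ 3 = 1 ∨ w ^ 5 = 1) → z * w ≠ w * z := by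
  decide +kernel

theorem orders : ∀ g : Equiv.Perm (Fin 6), Equiv.Perm.sign g = 1 → g ^ 4 = 1 ∨ g ^ 3 = 1 ∨ g ^ 5 = 1 := by
  decide +kernel

theorem card_three : ((Finset.univ : Finset (Equiv.Perm (Fin 6))).filter
    fun g => Equiv.Perm.sign g = 1 ∧ g ≠ 1 ∧ g ^ 3 = 1).card = 80 := by
  decide +kernel

theorem card_five : ((Finset.univ : Finset (Equiv.Perm (Fin 6))).filter
    fun g => Equiv.Perm.sign g = 1 ∧ g ≠ 1 ∧ g ^ 5 = 1).card = 144 := by
  decide +kernel

end CfsgLib.Perm.AltSixFacts
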