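import Mathlib
import Cfsg.Agent.Lib.Coprime.Fitting

/-!
# Composition length is at most the composition length of some solvable subgroup

`SolvLenBound G b`: every subnormal series of subgroups of `G` ending in `⊤` has at most `b` strict steps.
Main result: for a finite group `G` there is a solvable subgroup `S` with
`SolvLenBound G (Ω (Nat.card S))`.
-/

set_option autoImplicit false
set_option linter.all false

namespace CfsgLib.Perm

open Subgroup
open scoped ArithmeticFunction.Omega Classical

universe u

variable {G : Type u} [Group G]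

def SolvLenBound (G : Type u) [Group G] (b : ℕ) : Prop :=
  ∀ (l : ℕ) (H : ℕ → Subgroup G), H l = ⊤ →
    (∀ i < l, H i ≤ H (i + 1) ∧ ∀ x ∈ H (i + 1), ∀ y ∈ H i, x * y * x⁻¹ ∈ H i) →
    ((Finset.range l).filter fun i => H i ≠ H (i + 1)).card ≤ b

theorem SolvLenBound.mono {a b : ℕ} (h : SolvLenBound G a) (hab : a ≤ b) : SolvLenBound G b :=
  fun l H h1 h2 => (h l H h1 h2).trans hab

theorem SolvLenBound.of_subsingleton [Subsingleton G] (b : ℕ) : SolvLenBound G b := by
  intro l H _ _
  rw [Finset.filter_false_of_mem fun i _ h => h (Subsingleton.elim _ _), Finset.card_empty]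
  exact Nat.zero_le b

theorem SolvLenBound.of_simple [IsSimpleGroup G] : SolvLenBound G 1 := by
  intro l H hl hstep
  have hbt : ∀ j, j ≤ l → H (l - j) = ⊥ ∨ H (l - j) = ⊤ := by
    intro j
    induction j with
    | zero => intro _; exact Or.inr (by simpa using hl)
    | succ j ih =>
      intro hj
      obtain ⟨hle, hn⟩ := hstep (l - (j + 1)) (by omega)
      rw [show l - (j + 1) + 1 = l - j by omega] at hle hn
      rcases ih (by omega) with h | h
      · exact Or.inl (le_bot_iff.1 (h ▸ hle))
      · exact Subgroup.Normal.eq_bot_or_eq_top ⟨fun y hy x => hn x (h ▸ mem_top x) y hy⟩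
  have hbt' : ∀ i ≤ l, H i = ⊥ ∨ H i = ⊤ := fun i hi => by
    have := hbt (l - i) (by omega)
    rwa [show l - (l - i) = i by omega] at this
  have hmono : ∀ i j, i ≤ j → j ≤ l → H i ≤ H j := by
    intro i j hij
    induction j, hij using Nat.le_induction with
    | base => exact fun _ => le_rfl
    | succ j hj ih => exact fun hjl => (ih (by omega)).trans (hstep j (by omega)).1
  rw [Finset.card_le_one]
  intro i hi j hj
  simp only [Finset.mem_filter, Finset.mem_range] at hi hj
  by_contra hij
  wlog hlt : i < j generalizing i j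
  · exact this j i hj hi (Ne.symm hij) (by omega)
  have h1 : H (i + 1) = ⊤ := (hbt' (i + 1) (by omega)).resolve_left fun h => hi.2 (by
    rw [h]; exact le_bot_iff.1 (h ▸ (hstep i hi.1).1))
  have h2 : H j = ⊤ := top_le_iff.1 (h1 ▸ hmono (i + 1) j (by omega) (by omega))
  exact hj.2 (h2.trans (top_le_iff.1 (h2 ▸ (hstep j hj.1).1)).symm)

theorem SolvLenBound.extension {N : Subgroup G} [N.Normal] {a b : ℕ}
    (hN : SolvLenBound N a) (hQ : SolvLenBound (G ⧸ N) b) : SolvLenBound G (a + b) := by
  intro l H hl hstep
  have ha := hN l (fun i => (H i).subgroupOf N) (by simp [hl]) (fun i hi =>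
    ⟨fun x hx => (hstep i hi).1 hx, fun x hx y hy => by
      simpa [Subgroup.mem_subgroupOf] using (hstep i hi).2 x hx y hy⟩)
  have hb := hQ l (fun i => (H i).map (QuotientGroup.mk' N))
    (by simp only [hl]; exact Subgroup.map_top_of_surjective _ (QuotientGroup.mk'_surjective N))
    (fun i hi => ⟨Subgroup.map_mono (hstep i hi).1, by
      rintro _ ⟨x, hx, rfl⟩ _ ⟨y, hy, rfl⟩
      exact ⟨x * y * x⁻¹, (hstep i hi).2 x hx y hy, by simp⟩⟩)
  calc _ ≤ ((Finset.range l).filter fun i => (H i).subgroupOf N ≠ (H (i+1)).subgroupOf N).card +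
        ((Finset.range l).filter fun i => (H i).map (QuotientGroup.mk' N) ≠ (H (i+1)).map (QuotientGroup.mk' N)).card := by
        refine (Finset.card_le_card ?_).trans (Finset.card_union_le _ _)
        intro i hi
        simp only [Finset.mem_filter, Finset.mem_union] at hi ⊢
        by_contra hc
        simp only [hi.1, true_and, not_or, not_not] at hc
        refine hi.2 (le_antisymm (hstep i (Finset.mem_range.1 hi.1)).1 fun x hx => ?_)
        obtain ⟨y, hy, hxy⟩ : QuotientGroup.mk' N x ∈ (H i).map (QuotientGroup.mk' N) :=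
          hc.2 ▸ Subgroup.mem_map_of_mem _ hx
        have hn : y⁻¹ * x ∈ N := QuotientGroup.eq.1 hxy
        have : (⟨y⁻¹ * x, hn⟩ : N) ∈ (H i).subgroupOf N := hc.1 ▸ Subgroup.mem_subgroupOf.2
          ((H (i+1)).mul_mem ((H (i+1)).inv_mem ((hstep i (Finset.mem_range.1 hi.1)).1 hy)) hx)
        simpa using (H i).mul_mem hy (Subgroup.mem_subgroupOf.1 this)
    _ ≤ a + b := add_le_add ha hb

theorem SolvLenBound.of_surjective {G' : Type u} [Group G'] (f : G →* G') (hf : Function.Surjective f)
    {b : ℕ} (h : SolvLenBound G b) : SolvLenBound G' b := by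
  intro l H hl hstep
  have := h l (fun i => (H i).comap f) (by simp [hl]) (fun i hi =>
    ⟨Subgroup.comap_mono (hstep i hi).1, fun x hx y hy => by
      simpa using (hstep i hi).2 (f x) hx (f y) hy⟩)
  refine le_trans (Finset.card_le_card fun i hi => ?_) this
  simp only [Finset.mem_filter] at hi ⊢
  exact ⟨hi.1, fun e => hi.2 (Subgroup.comap_injective hf e)⟩

/-- In a minimal normal subgroup, all composition factors are isomorphic to one simple group. -/
theorem exists_prime_solvLenBound_minimalNormal [Finite G] {N : Subgroup G} [hNn : N.Normal]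
    (hN : N ≠ ⊥) (hmin : ∀ M : Subgroup G, M.Normal → M ≤ N → M = ⊥ ∨ M = N) :
    ∃ p : ℕ, p.Prime ∧ ∀ P : Sylow p N, SolvLenBound N (Ω (Nat.card P)) := by
  haveI : Nontrivial N := (nontrivial_iff_ne_bot N).2 hN
  obtain ⟨T, hTn, hT0, -, hTmin⟩ :=
    CfsgLib.Coprime.exists_minimal_normal_le (N := (⊤ : Subgroup N)) top_ne_bot
  let c : G → Subgroup N := fun g => T.map (MulAut.conjNormal g : MulAut N).toMonoidHom
  have hcn : ∀ g, (c g).Normal := fun g => hTn.map _ (MulAut.conjNormal g : MulAut N).surjective
  -- the conjugates generate `N`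
  have hsup : (⨆ g, c g) = ⊤ := by
    set M : Subgroup G := (⨆ g, c g).map N.subtype with hM
    have hMn : M.Normal := by
      refine ⟨fun x hx g => ?_⟩
      obtain ⟨y, hy, rfl⟩ := hx
      refine ⟨MulAut.conjNormal g y, ?_, MulAut.conjNormal_apply g y⟩
      have : MulAut.conjNormal g y ∈ (⨆ h, c h).map (MulAut.conjNormal g : MulAut N).toMonoidHom :=
        ⟨y, hy, rfl⟩
      rw [Subgroup.map_iSup] at this
      refine SetLike.le_def.1 (iSup_le fun h => ?_) this
      refine le_trans (le_of_eq ?_) (le_iSup c (g * h))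
      rw [Subgroup.map_map]
      congr 1
      ext z
      simp [map_mul]
    rcases hmin M hMn (Subgroup.map_subtype_le _) with h | h
    · exfalso
      refine hT0 (le_bot_iff.1 ?_)
      have h' : (⨆ g, c g) = ⊥ := by
        apply Subgroup.map_injective N.subtype_injective
        rw [Subgroup.map_bot]; exact h
      rw [← h']
      refine le_trans (le_of_eq ?_) (le_iSup c 1)
      simp only [c, map_one]
      exact (Subgroup.map_id T).symm
    · apply Subgroup.map_injective N.subtype_injective
      rw [← MonoidHom.range_eq_map, range_subtype]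
      exact h
  have hcmin : ∀ g (U : Subgroup N), U.Normal → U ≤ c g → U = ⊥ ∨ U = c g := by
    intro g U hU hUc
    set e : N ≃* N := (MulAut.conjNormal g : MulAut N)
    have h1 : U.comap e.toMonoidHom ≤ T := by
      intro x hx
      obtain ⟨t, ht, htx⟩ := hUc hx
      exact e.injective htx ▸ ht
    rcases hTmin _ (hU.comap _) h1 with h | h
    · left
      rw [← Subgroup.map_comap_eq_self_of_surjective e.surjective U]
      show Subgroup.map e.toMonoidHom (U.comap e.toMonoidHom) = ⊥
      rw [h, Subgroup.map_bot]
    · right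
      rw [← Subgroup.map_comap_eq_self_of_surjective e.surjective U]
      show Subgroup.map e.toMonoidHom (U.comap e.toMonoidHom) = c g
      rw [h]
  -- simplicity of the conjugates
  have hsimp : ∀ g, IsSimpleGroup (c g) := by
    intro g
    haveI := hcn g
    haveI : Nontrivial (c g) := (nontrivial_iff_ne_bot _).2 fun h => hT0 (by
      have := congrArg (Subgroup.comap (MulAut.conjNormal g : MulAut N).toMonoidHom) h
      rwa [Subgroup.comap_map_eq_self_of_injective (MulEquiv.injective _),
        (MonoidHom.comap_bot _), (MonoidHom.ker_eq_bot_iff _).2 (MulEquiv.injective _)] at this)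
    refine ⟨fun U hU => ?_⟩
    set U' : Subgroup N := U.map (c g).subtype
    have hnorm : (⊤ : Subgroup N) ≤ normalizer (U' : Set N) := by
      rw [← hsup]
      refine iSup_le fun h => ?_
      haveI := hcn h
      by_cases hgh : c h = c g
      · intro x hx
        rw [hgh] at hx
        rw [Subgroup.mem_normalizer_iff]
        intro y
        constructor
        · rintro ⟨u, hu, rfl⟩
          exact ⟨⟨x, hx⟩ * u * ⟨x, hx⟩⁻¹, hU.conj_mem u hu _, rfl⟩
        · rintro ⟨u, hu, he⟩
          exact ⟨⟨x, hx⟩⁻¹ * u * ⟨x, hx⟩, hU.conj_mem' u hu _, by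
            simp only [Subgroup.coe_subtype] at he
            simp [he, mul_assoc]⟩
      · have hdis : Disjoint (c h) (c g) := by
          rw [disjoint_iff]
          haveI : (c h ⊓ c g).Normal := Subgroup.normal_inf_normal _ _
          rcases hcmin g (c h ⊓ c g) inferInstance inf_le_right with e | e
          · exact e
          · exfalso
            rcases hcmin h (c g) (hcn g) (e ▸ inf_le_left) with e' | e'
            · exact (nontrivial_iff_ne_bot (c g)).1 inferInstance e'
            · exact hgh e'.symm
        intro x hx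
        have hcom : ∀ y ∈ U', x * y = y * x := by
          rintro _ ⟨u, _, rfl⟩
          exact Subgroup.commute_of_normal_of_disjoint _ _ (hcn h) (hcn g) hdis x _ hx u.2
        rw [Subgroup.mem_normalizer_iff]
        intro y
        constructor
        · intro hy; rw [hcom y hy, mul_inv_cancel_right]; exact hy
        · intro hy
          have e := hcom _ hy
          have : x * y * x⁻¹ = y := by
            have := congrArg (fun z => x⁻¹ * z) e
            simpa [mul_assoc] using this
          exact this ▸ hy
    have hU' : U'.Normal := normalizer_eq_top_iff.1 (top_le_iff.1 hnorm)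
    rcases hcmin g U' hU' (Subgroup.map_subtype_le _) with h | h
    · left; exact Subgroup.map_injective (c g).subtype_injective (h.trans (Subgroup.map_bot _).symm)
    · right
      apply Subgroup.map_injective (c g).subtype_injective
      rw [← MonoidHom.range_eq_map, range_subtype]; exact h
  have hTone : Nat.card T ≠ 1 := fun h => hT0 (Subgroup.card_eq_one.1 h)
  obtain ⟨p, hp, hpT⟩ := Nat.exists_prime_and_dvd hTone
  haveI : Fintype G := Fintype.ofFinite G
  have key : ∀ s : Finset G, ∃ M : Subgroup N, M.Normal ∧ (∀ g ∈ s, c g ≤ M) ∧ ∃ k,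
      Nat.card M = Nat.card T ^ k ∧ SolvLenBound M k := by
    intro s
    induction s using Finset.induction_on with
    | empty => exact ⟨⊥, inferInstance, by simp, 0, by simp, SolvLenBound.of_subsingleton 0⟩
    | insert g s hgs ih =>
      obtain ⟨M, hMn, hMs, k, hMk, hMb⟩ := ih
      haveI := hcn g
      by_cases hgM : c g ≤ M
      · exact ⟨M, hMn, by simp [hgM]; exact hMs, k, hMk, hMb⟩
      · have hinf : c g ⊓ M = ⊥ := (hcmin g _ inferInstance inf_le_left).resolve_right
          fun e => hgM (e ▸ inf_le_right)
        refine ⟨M ⊔ c g, inferInstance, ?_, k + 1, ?_, ?_⟩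
        · simp only [Finset.mem_insert, forall_eq_or_imp]
          exact ⟨le_sup_right, fun h hh => (hMs h hh).trans le_sup_left⟩
        · let e := (QuotientGroup.quotientInfEquivProdNormalQuotient (c g) M)
          have h1 : (M.subgroupOf (c g)) = ⊥ := by
            rw [Subgroup.subgroupOf_eq_bot, disjoint_iff, inf_comm]; exact hinf
          have h2 : Nat.card (c g ⧸ M.subgroupOf (c g)) = Nat.card T := by
            rw [h1, Nat.card_congr (QuotientGroup.quotientBot (G := c g)).toEquiv]
            exact Nat.card_congr (T.equivMapOfInjective _ (MulEquiv.injective _)).toEquiv.symm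
          rw [Nat.card_congr e.toEquiv] at h2
          rw [sup_comm, card_eq_card_quotient_mul_card_subgroup (M.subgroupOf (c g ⊔ M)), h2,
            Nat.card_congr (subgroupOfEquivOfLe le_sup_right).toEquiv, hMk, pow_succ, mul_comm]
        · rw [sup_comm]
          haveI : (M.subgroupOf (c g ⊔ M)).Normal := hMn.subgroupOf _
          refine SolvLenBound.extension (N := M.subgroupOf (c g ⊔ M)) ?_ ?_
          · exact SolvLenBound.of_surjective (subgroupOfEquivOfLe le_sup_right).symm.toMonoidHom
              (MulEquiv.surjective _) hMb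
          · haveI := hsimp g
            exact SolvLenBound.of_surjective
              ((QuotientGroup.quotientInfEquivProdNormalQuotient (c g) M).toMonoidHom.comp
                (QuotientGroup.mk' _))
              (by rw [MonoidHom.coe_comp]; exact (MulEquiv.surjective _).comp (QuotientGroup.mk'_surjective _))
              SolvLenBound.of_simple
  obtain ⟨M, _, hMall, k, hMk, hMb⟩ := key Finset.univ
  have hMtop : M = ⊤ := top_le_iff.1 (hsup ▸ iSup_le fun g => hMall g (Finset.mem_univ g))
  subst hMtop
  have hb : SolvLenBound N k :=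
    SolvLenBound.of_surjective Subgroup.topEquiv.toMonoidHom (MulEquiv.surjective _) hMb
  refine ⟨p, hp, fun P => hb.mono ?_⟩
  haveI : Fact p.Prime := ⟨hp⟩
  obtain ⟨j, hj⟩ := P.isPGroup'.exists_card_eq
  rw [hj, ArithmeticFunction.cardFactors_apply_prime_pow hp]
  have hd : p ^ k ∣ Nat.card N := by
    rw [← Subgroup.card_top, hMk]; exact pow_dvd_pow_of_dvd hpT k
  have hPN := Sylow.card_eq_multiplicity P
  rw [hj] at hPN
  rw [Nat.pow_right_injective hp.two_le hPN]
  exact (hp.pow_dvd_iff_le_factorization Nat.card_pos.ne').1 hd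

theorem omega_le_of_dvd {a b : ℕ} (h : a ∣ b) (hb : b ≠ 0) : Ω a ≤ Ω b := by
  obtain ⟨c, rfl⟩ := h
  rw [ArithmeticFunction.cardFactors_mul (left_ne_zero_of_mul hb) (right_ne_zero_of_mul hb)]
  exact Nat.le_add_right _ _

/-- Every finite group has a solvable subgroup at least as long as the group itself. -/
theorem exists_solvable_solvLenBound : ∀ (G : Type u) [Group G] [Finite G],
    ∃ S : Subgroup G, Group.IsSolvable S ∧ SolvLenBound G (Ω (Nat.card S)) := by
  suffices h : ∀ n, ∀ (G : Type u) [Group G] [Finite G], Nat.card G = n →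
      ∃ S : Subgroup G, Group.IsSolvable S ∧ SolvLenBound G (Ω (Nat.card S)) from
    fun G _ _ => h _ G rfl
  intro n
  induction n using Nat.strong_induction_on with
  | _ n ih => ?_
  intro G _ _ hn
  rcases subsingleton_or_nontrivial G with hG | hG
  · exact ⟨⊥, inferInstance, SolvLenBound.of_subsingleton _⟩
  obtain ⟨N, hNn, hN0, -, hmin⟩ :=
    CfsgLib.Coprime.exists_minimal_normal_le (N := (⊤ : Subgroup G)) top_ne_bot
  obtain ⟨p, hp, hbN⟩ := exists_prime_solvLenBound_minimalNormal hN0 hmin
  haveI : Fact p.Prime := ⟨hp⟩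
  obtain ⟨P⟩ : Nonempty (Sylow p N) := inferInstance
  set Pm : Subgroup G := (P : Subgroup N).map N.subtype with hPm
  have hlt : Nat.card (G ⧸ N) < n := by
    rw [← hn, card_eq_card_quotient_mul_card_subgroup N]
    have h2 : 1 < Nat.card N := by
      rw [Finite.one_lt_card_iff_nontrivial]; exact (nontrivial_iff_ne_bot N).2 hN0
    exact lt_mul_of_one_lt_right Nat.card_pos h2
  obtain ⟨Sq, hSqs, hSqb⟩ := ih _ hlt (G ⧸ N) rfl
  set Nr : Subgroup G := normalizer (Pm : Set G) with hNr
  set π := QuotientGroup.mk' N
  have hM : (Sq.comap π ⊓ Nr).map π = Sq := by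
    refine le_antisymm ((Subgroup.map_mono inf_le_left).trans (Subgroup.map_comap_le _ _)) fun q hq => ?_
    obtain ⟨g, rfl⟩ := QuotientGroup.mk'_surjective N q
    have hg : g ∈ Nr ⊔ N := by
      rw [hNr, hPm, Sylow.normalizer_sup_eq_top P]; exact mem_top g
    obtain ⟨x, hx, y, hy, rfl⟩ := Subgroup.mem_sup_of_normal_right.1 hg
    have hxy : π (x * y) = π x := QuotientGroup.eq.2 (by simpa [mul_assoc] using hy)
    exact ⟨x, ⟨Subgroup.mem_comap.2 (hxy ▸ hq), hx⟩, hxy.symm⟩
  obtain ⟨W, hWle, hWmin⟩ := exists_minimal_le_of_wellFoundedLT (α := Subgroup G)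
    (fun W => W.map π = Sq) _ hM
  have hWsol : Group.IsSolvable W := by
    let f : W →* Sq := (π.comp W.subtype).codRestrict Sq (fun w => hWmin.prop ▸ Subgroup.mem_map_of_mem _ w.2)
    have hker : f.ker ≤ frattini W := by
      intro w hw
      rw [frattini, Order.radical]
      simp only [Subgroup.mem_iInf]
      intro C hC
      by_contra hwC
      have hwN : (w : G) ∈ N := by
        have := congrArg Subtype.val (MonoidHom.mem_ker.1 hw)
        exact (QuotientGroup.eq_one_iff _).1 this
      have hlt' : C < C ⊔ f.ker := lt_of_le_of_ne le_sup_left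
        fun e => hwC (e ▸ Subgroup.mem_sup_right hw)
      have htop := hC.2 _ hlt'
      have heq : (C.map W.subtype).map π = Sq := by
        refine le_antisymm ?_ fun q hq => ?_
        · exact (Subgroup.map_mono (Subgroup.map_subtype_le C)).trans hWmin.prop.le
        · obtain ⟨x, hx, rfl⟩ := (hWmin.prop.symm ▸ hq : q ∈ W.map π)
          obtain ⟨c, hc, k, hk, hck⟩ := Subgroup.mem_sup_of_normal_right.1
            (htop ▸ mem_top (⟨x, hx⟩ : W))
          refine ⟨c, ⟨c, hc, rfl⟩, ?_⟩
          have hk1 : π (k : G) = 1 := congrArg Subtype.val (MonoidHom.mem_ker.1 hk)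
          have hx' : ((c : G) * k : G) = x := congrArg Subtype.val hck
          rw [← hx', map_mul, hk1, mul_one]
      have hWC : W ≤ C.map W.subtype := hWmin.le_of_le heq (Subgroup.map_subtype_le C)
      obtain ⟨c, hc, hcw⟩ := hWC w.2
      exact hwC (Subtype.ext hcw ▸ hc)
    haveI : Group.IsNilpotent (frattini W) := frattini_nilpotent
    haveI : Group.IsSolvable (frattini W) := inferInstance
    exact Group.isSolvable_of_ker_le_range (frattini W).subtype f (by simpa using hker)
  have hPNr : Pm ≤ Nr := le_normalizer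
  haveI hPn : (Pm.subgroupOf Nr).Normal := Subgroup.normal_in_normalizer
  set W' : Subgroup Nr := W.subgroupOf Nr
  set Q := Pm.subgroupOf Nr
  set S' : Subgroup Nr := (W'.map (QuotientGroup.mk' Q)).comap (QuotientGroup.mk' Q)
  have hS'sol : Group.IsSolvable S' := by
    haveI : Group.IsSolvable Pm := by
      haveI : Group.IsNilpotent Pm := (P.isPGroup'.map N.subtype).isNilpotent
      infer_instance
    haveI : Group.IsSolvable Q :=
      Group.isSolvable_of_isSolvable_injective (f := (subgroupOfEquivOfLe hPNr).toMonoidHom) (MulEquiv.injective _)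
    haveI : Group.IsSolvable (W'.map (QuotientGroup.mk' Q)) := by
      haveI : Group.IsSolvable W' := Group.isSolvable_of_isSolvable_injective
        (f := (subgroupOfEquivOfLe (hWle.trans inf_le_right)).toMonoidHom) (MulEquiv.injective _)
      exact Group.isSolvable_of_surjective ((QuotientGroup.mk' Q).subgroupMap_surjective W')
    have hQS : Q ≤ S' := fun x hx => by
      have : QuotientGroup.mk' Q x = 1 := (QuotientGroup.eq_one_iff x).2 hx
      simp only [S', Subgroup.mem_comap, this]
      exact one_mem _
    refine Group.isSolvable_of_ker_le_range (Subgroup.inclusion hQS)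
      ((QuotientGroup.mk' Q).subgroupComap (W'.map (QuotientGroup.mk' Q))) ?_
    intro x hx
    have : QuotientGroup.mk' Q (x : Nr) = 1 := congrArg Subtype.val (MonoidHom.mem_ker.1 hx)
    exact ⟨⟨x, (QuotientGroup.eq_one_iff _).1 this⟩, rfl⟩
  set S : Subgroup G := S'.map Nr.subtype
  refine ⟨S, ?_, ((hbN P).extension hSqb).mono ?_⟩
  · haveI := hS'sol
    exact Group.isSolvable_of_surjective (Nr.subtype.subgroupMap_surjective S')
  have hPS : Pm ≤ S := fun x hx => ⟨⟨x, hPNr hx⟩, by
    have : QuotientGroup.mk' Q ⟨x, hPNr hx⟩ = 1 := (QuotientGroup.eq_one_iff _).2 hx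
    simp only [S', SetLike.mem_coe, Subgroup.mem_comap, this]
    exact one_mem _, rfl⟩
  have hWS : W ≤ S := fun x hx =>
    ⟨⟨x, (hWle hx).2⟩, Subgroup.mem_map_of_mem _ (show (⟨x, (hWle hx).2⟩ : Nr) ∈ W' from hx), rfl⟩
  have hdvd : Nat.card P * Nat.card Sq ∣ Nat.card S := by
    let f := π.comp S.subtype
    have h1 : Nat.card S = Nat.card f.range * Nat.card f.ker := by
      rw [card_eq_card_quotient_mul_card_subgroup f.ker,
        Nat.card_congr (QuotientGroup.quotientKerEquivRange f).toEquiv]
    have h2 : Sq ≤ f.range := by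
      rw [← hWmin.prop]
      rintro q ⟨w, hw, rfl⟩
      exact ⟨⟨w, hWS hw⟩, rfl⟩
    have h3 : Pm.subgroupOf S ≤ f.ker := by
      rintro x ⟨y, _, hy⟩
      exact (QuotientGroup.eq_one_iff _).2 (show (x : G) ∈ N from (show (y : G) = x from hy) ▸ y.2)
    rw [h1, mul_comm (Nat.card f.range)]
    refine mul_dvd_mul ?_ (Subgroup.card_dvd_of_le h2)
    have := Subgroup.card_dvd_of_le h3
    rwa [Nat.card_congr (subgroupOfEquivOfLe hPS).toEquiv,
      ← Nat.card_congr ((P : Subgroup N).equivMapOfInjective N.subtype N.subtype_injective).toEquiv] at this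
  rw [← ArithmeticFunction.cardFactors_mul Nat.card_pos.ne' Nat.card_pos.ne']
  exact omega_le_of_dvd hdvd Nat.card_pos.ne'

end CfsgLib.Perm
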