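import Mathlib

/-!
# Complements in subgroup lattices
-/

set_option autoImplicit false

namespace CfsgLib.Perm.LatticeCompl

variable {G : Type*} [Group G] [Finite G]

theorem exists_compl_of_interval (T X M : Subgroup G)
    (hint : ∀ Y : Subgroup G, T ≤ Y → Y ≤ X → ∃ C : Subgroup G, T ≤ C ∧ C ≤ X ∧ Y ⊔ C = X ∧ Y ⊓ C = T)
    (hTX : T ≤ X) (huniq : ∀ M' : Subgroup G, IsCoatom M' → X ≤ M' → M' = M)
    (H : Subgroup G) (hH : ¬ H ≤ M) (hHT : H ⊓ T = ⊥) :
    ∃ C : Subgroup G, H ⊔ C = ⊤ ∧ H ⊓ C = ⊥ := by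
  obtain ⟨C, hTC, hCX, hsup, hinf⟩ := hint (T ⊔ (H ⊓ X)) le_sup_left (sup_le hTX inf_le_right)
  refine ⟨C, ?_, ?_⟩
  · have hX : X ≤ H ⊔ C :=
      hsup ▸ sup_le (sup_le (hTC.trans le_sup_right) (inf_le_left.trans le_sup_left)) le_sup_right
    rcases eq_top_or_exists_le_coatom (H ⊔ C) with h | ⟨M', hM', hle⟩
    · exact h
    · have := huniq M' hM' (hX.trans hle)
      subst this
      exact absurd (le_sup_left.trans hle) hH
  · refine le_bot_iff.1 (hHT ▸ le_inf inf_le_left ?_)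
    rw [← hinf]
    exact le_inf ((le_inf inf_le_left (inf_le_right.trans hCX)).trans le_sup_right) inf_le_right

/-- conjugated form of `exists_compl_of_interval` -/
theorem exists_compl_of_interval_conj (T X M : Subgroup G)
    (hint : ∀ Y : Subgroup G, T ≤ Y → Y ≤ X → ∃ C : Subgroup G, T ≤ C ∧ C ≤ X ∧ Y ⊔ C = X ∧ Y ⊓ C = T)
    (hTX : T ≤ X) (huniq : ∀ M' : Subgroup G, IsCoatom M' → X ≤ M' → M' = M)
    (H : Subgroup G) (φ : G ≃* G) (hH : ¬ H ≤ M.map φ.toMonoidHom) (hHT : H ⊓ T.map φ.toMonoidHom = ⊥) :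
    ∃ C : Subgroup G, H ⊔ C = ⊤ ∧ H ⊓ C = ⊥ := by
  have hinj : Function.Injective φ.toMonoidHom := φ.injective
  have hsur : Function.Surjective φ.toMonoidHom := φ.surjective
  have hmc : (H.comap φ.toMonoidHom).map φ.toMonoidHom = H := Subgroup.map_comap_eq_self_of_surjective hsur H
  obtain ⟨C, h1, h2⟩ := exists_compl_of_interval T X M hint hTX huniq (H.comap φ.toMonoidHom)
    (fun h => hH (hmc ▸ Subgroup.map_mono h))
    (Subgroup.map_injective hinj (by rw [Subgroup.map_inf _ _ _ hinj, hmc, Subgroup.map_bot, hHT]))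
  refine ⟨C.map φ.toMonoidHom, ?_, ?_⟩
  · rw [← hmc, ← Subgroup.map_sup, h1, Subgroup.map_top_of_surjective _ hsur]
  · rw [← hmc, ← Subgroup.map_inf _ _ _ hinj, h2, Subgroup.map_bot]

/-- a complemented quotient lattice gives a complemented interval -/
theorem interval_of_quotient (N X : Subgroup G) (hNX : N ≤ X) [(N.subgroupOf X).Normal]
    (hK : ComplementedLattice (Subgroup (X ⧸ N.subgroupOf X))) :
    ∀ Y : Subgroup G, N ≤ Y → Y ≤ X → ∃ C : Subgroup G, N ≤ C ∧ C ≤ X ∧ Y ⊔ C = X ∧ Y ⊓ C = N := by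
  intro Y hNY hYX
  let π := QuotientGroup.mk' (N.subgroupOf X)
  have hker : π.ker = N.subgroupOf X := QuotientGroup.ker_mk' _
  have hπ : Function.Surjective π := QuotientGroup.mk'_surjective _
  obtain ⟨C, hC⟩ := exists_isCompl ((Y.subgroupOf X).map π)
  have hNC : N.subgroupOf X ≤ C.comap π := hker.ge.trans (Subgroup.ker_le_comap π C)
  have hYc : ((Y.subgroupOf X).map π).comap π = Y.subgroupOf X :=
    Subgroup.comap_map_eq_self (hker.le.trans (Subgroup.comap_mono hNY))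
  have hN : (N.subgroupOf X).map X.subtype = N := Subgroup.map_subgroupOf_eq_of_le hNX
  have hY : (Y.subgroupOf X).map X.subtype = Y := Subgroup.map_subgroupOf_eq_of_le hYX
  refine ⟨(C.comap π).map X.subtype, hN.ge.trans (Subgroup.map_mono hNC), Subgroup.map_subtype_le _, ?_, ?_⟩
  · conv_lhs => rw [← hY, ← Subgroup.map_sup]
    rw [← hYc, Subgroup.comap_sup_eq _ _ _ hπ, hC.sup_eq_top, Subgroup.comap_top, ← MonoidHom.range_eq_map,
      Subgroup.range_subtype]
  · conv_lhs => rw [← hY, ← Subgroup.map_inf _ _ _ X.subtype_injective]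
    rw [← hYc, ← Subgroup.comap_inf, hC.inf_eq_bot, MonoidHom.comap_bot, hker, hN]

end CfsgLib.Perm.LatticeCompl
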