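import Mathlib

/-!
# Odd order automorphisms of doubly transitive groups

If some orbit of the image of a point stabilizer under an automorphism of odd order has length prime to the
degree, the automorphism is induced by a permutation.  The incidence matrix `M` of such an orbit satisfies
`M Mᵀ = q I + λ J = Mᵀ M`, and `M ^ m` lies in the span of `I, J`; hence `q = s²` and `n ∣ k ± s`, which
leaves only `k ∈ {1, n - 1}`.
-/

set_option autoImplicit false

namespace CfsgLib.Perm.OddAut

open Matrix

variable {Ω : Type*} [Fintype Ω] [DecidableEq Ω]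

/-- The all-one matrix. -/
def J : Matrix Ω Ω ℤ := Matrix.of fun _ _ => 1

theorem J_apply (a b : Ω) : (J : Matrix Ω Ω ℤ) a b = 1 := rfl

theorem J_mul_J : (J : Matrix Ω Ω ℤ) * J = (Fintype.card Ω : ℤ) • J := by
  ext a b
  simp [J, Matrix.mul_apply]

theorem mul_J {M : Matrix Ω Ω ℤ} {k : ℤ} (h : ∀ a, ∑ b, M a b = k) : M * J = k • J := by
  ext a b
  simp [J, Matrix.mul_apply, h]

theorem J_mul {M : Matrix Ω Ω ℤ} {k : ℤ} (h : ∀ b, ∑ a, M a b = k) : J * M = k • J := by
  ext a b
  simp [J, Matrix.mul_apply, h]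

theorem span_mul (a b c d : ℤ) : (a • (1 : Matrix Ω Ω ℤ) + b • J) * (c • 1 + d • J) =
    (a * c) • 1 + (a * d + b * c + b * d * Fintype.card Ω) • J := by
  simp only [Matrix.add_mul, Matrix.mul_add, Matrix.smul_mul, Matrix.mul_smul, Matrix.one_mul, Matrix.mul_one,
    J_mul_J, smul_smul]
  ext i j
  simp only [Matrix.add_apply, Matrix.smul_apply, smul_eq_mul]
  ring

theorem span_apply (c d : ℤ) (a b : Ω) :
    ((c • 1 + d • J : Matrix Ω Ω ℤ)) a b = (if a = b then c else 0) + d := by
  simp only [Matrix.add_apply, Matrix.smul_apply, J_apply, Matrix.one_apply, smul_eq_mul, mul_ite, mul_one,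
    mul_zero]

theorem span_inj (hn : 2 ≤ Fintype.card Ω) {a b c d : ℤ}
    (h : a • (1 : Matrix Ω Ω ℤ) + b • J = c • 1 + d • J) : a = c ∧ b = d := by
  obtain ⟨u, v, huv⟩ := Fintype.exists_pair_of_one_lt_card (α := Ω) (by omega)
  have h1 := congrFun (congrFun h u) v
  have h2 := congrFun (congrFun h u) u
  rw [span_apply, span_apply, if_neg huv, if_neg huv] at h1
  rw [span_apply, span_apply, if_pos rfl, if_pos rfl] at h2
  omega

/-- Invariant matrices of a doubly transitive group lie in the span of `I` and `J`. -/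
theorem exists_span {G : Subgroup (Equiv.Perm Ω)} (h2 : MulAction.IsMultiplyPretransitive G Ω 2)
    {N : Matrix Ω Ω ℤ} (hN : ∀ (x : G) (a b : Ω), N (x • a) (x • b) = N a b) :
    ∃ c d : ℤ, N = c • 1 + d • J := by
  rw [MulAction.is_two_pretransitive_iff] at h2
  by_cases h : ∃ u v : Ω, u ≠ v
  · obtain ⟨u, v, huv⟩ := h
    refine ⟨N u u - N u v, N u v, Matrix.ext fun a b => ?_⟩
    by_cases hab : a = b
    · subst hab
      by_cases hau : a = u
      · subst hau; rw [span_apply, if_pos rfl]; ring
      · obtain ⟨x, hx, -⟩ := h2 huv hau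
        rw [← hx, hN, span_apply, if_pos rfl]; ring
    · obtain ⟨x, hx, hx'⟩ := h2 huv hab
      rw [← hx, ← hx', hN]
      rw [← hx, ← hx'] at hab
      rw [span_apply, if_neg hab]; ring
  · push Not at h
    rcases isEmpty_or_nonempty Ω with he | ⟨⟨u⟩⟩
    · exact ⟨0, 0, Matrix.ext fun a => isEmptyElim a⟩
    · refine ⟨N u u, 0, Matrix.ext fun a b => ?_⟩
      rw [h a u, h b u, span_apply, if_pos rfl]; ring

/-- The numerical endgame. -/
theorem endgame {n k m : ℕ} {q a b : ℤ} (hm : Odd m) (hk1 : 1 < k) (hkn : k + 1 < n) (hcop : k.Coprime n)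
    (hq : q * ((n : ℤ) - 1) = k * (n - k)) (hk2 : ∃ l : ℤ, q + l * n = k * k) (hpow : q ^ m = a ^ 2)
    (hrow : (k : ℤ) ^ m = a + b * n) : False := by
  obtain ⟨l, rfl⟩ := hm
  have hqpos : 0 < q := by
    have h1 : (0 : ℤ) < k * (n - k) := mul_pos (by omega) (by omega)
    rw [← hq] at h1
    exact pos_of_mul_pos_left h1 (by omega)
  have hdvd : q ^ l ∣ a := by
    rw [← Int.pow_dvd_pow_iff (two_ne_zero : (2 : ℕ) ≠ 0), ← pow_mul, ← hpow]
    exact pow_dvd_pow q (by omega)
  obtain ⟨s, rfl⟩ := hdvd
  have hs : q = s * s := by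
    have h1 : q ^ (2 * l) * q = q ^ (2 * l) * (s * s) := by
      rw [← pow_succ, hpow, mul_pow, ← pow_mul, mul_comm l 2, pow_two]
    exact mul_left_cancel₀ (pow_ne_zero _ hqpos.ne') h1
  subst hs
  obtain ⟨c, hc⟩ := hk2
  have hmod : (s * s) ^ l * ((k : ℤ) - s) ≡ 0 [ZMOD n] := by
    have e1 : (k : ℤ) * k ≡ s * s [ZMOD n] :=
      Int.modEq_iff_dvd.2 ⟨-c, by linear_combination hc⟩
    have e2 : (k : ℤ) ^ (2 * l + 1) ≡ (s * s) ^ l * k [ZMOD n] := by
      rw [pow_succ, pow_mul, pow_two]
      exact (e1.pow l).mul_right _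
    have e3 : (k : ℤ) ^ (2 * l + 1) ≡ (s * s) ^ l * s [ZMOD n] :=
      Int.modEq_iff_dvd.2 ⟨-b, by linear_combination -hrow⟩
    have e4 := (e2.symm.trans e3).sub_right ((s * s) ^ l * s)
    rwa [sub_self, ← mul_sub] at e4
  have hsc : IsCoprime ((s * s) ^ l) (n : ℤ) := by
    refine IsCoprime.pow_left ?_
    have h1 : IsCoprime ((k : ℤ) * k) (n : ℤ) :=
      IsCoprime.mul_left (Int.isCoprime_iff_nat_coprime.2 (by simpa using hcop))
        (Int.isCoprime_iff_nat_coprime.2 (by simpa using hcop))
    rw [← hc] at h1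
    exact IsCoprime.of_add_mul_right_left h1
  have hks : (n : ℤ) ∣ (k : ℤ) - s := hsc.symm.dvd_of_dvd_mul_left (Int.modEq_zero_iff_dvd.1 hmod)
  have hb1 : s * s < (k : ℤ) * k := by
    refine lt_of_mul_lt_mul_right (a := (n : ℤ) - 1) ?_ (by omega)
    rw [hq, mul_assoc]
    refine mul_lt_mul_of_pos_left ?_ (by omega)
    have : (n : ℤ) - 1 ≤ (k : ℤ) * (n - 1) := le_mul_of_one_le_left (by omega) (by omega)
    omega
  have hb2 : s * s < ((n : ℤ) - k) * (n - k) := by
    refine lt_of_mul_lt_mul_right (a := (n : ℤ) - 1) ?_ (by omega)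
    rw [hq, mul_assoc, mul_comm (k : ℤ)]
    refine mul_lt_mul_of_pos_left ?_ (by omega)
    have : (n : ℤ) - 1 ≤ ((n : ℤ) - k) * (n - 1) := le_mul_of_one_le_left (by omega) (by omega)
    omega
  have hlo : -(k : ℤ) < s ∧ s < k := ⟨by nlinarith, by nlinarith⟩
  have hhi : s < (n : ℤ) - k ∧ -((n : ℤ) - k) < s := ⟨by nlinarith, by nlinarith⟩
  obtain ⟨e, he⟩ := hks
  rcases lt_trichotomy e 0 with h | h | h
  · have h1 : (n : ℤ) * e ≤ (n : ℤ) * -1 := mul_le_mul_of_nonneg_left (by omega) (by omega)
    omega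
  · subst h; omega
  · have h1 : (n : ℤ) * 1 ≤ (n : ℤ) * e := mul_le_mul_of_nonneg_left (by omega) (by omega)
    omega

/-- An automorphism of odd order of a doubly transitive group is induced by a permutation as soon as the image
of a point stabilizer has an orbit of length prime to the degree. -/
theorem main {G : Subgroup (Equiv.Perm Ω)} (h2 : MulAction.IsMultiplyPretransitive G Ω 2) (o : Ω)
    (α : MulAut G) (hα : Odd (orderOf α)) (ω : Ω)
    (hk : (Nat.card (MulAction.orbit ((MulAction.stabilizer G o).map α.toMonoidHom) ω)).Coprime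
      (Fintype.card Ω)) :
    (∃ σ : Equiv.Perm Ω, σ ∈ Subgroup.normalizer (G : Set (Equiv.Perm Ω)) ∧
        ∀ g : G, ((α g : G) : Equiv.Perm Ω) = σ * (g : Equiv.Perm Ω) * σ⁻¹) ∧
      (Nat.card (MulAction.orbit ((MulAction.stabilizer G o).map α.toMonoidHom) ω) = 1 ∨
        Nat.card (MulAction.orbit ((MulAction.stabilizer G o).map α.toMonoidHom) ω) = Fintype.card Ω - 1) := by
  classical
  set K := (MulAction.stabilizer G o).map α.toMonoidHom with hKdef
  set k := Nat.card (MulAction.orbit K ω) with hkdef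
  haveI htr : MulAction.IsPretransitive G Ω := by
    haveI := h2
    exact MulAction.isPretransitive_of_is_two_pretransitive
  have hKmem : ∀ x : G, x • o = o → α x ∈ K := fun x hx => ⟨x, hx, rfl⟩
  -- the relation
  let R : Ω → Ω → Prop := fun a b => ∃ x : G, x • o = a ∧ α x • ω = b
  have hRinv : ∀ (x : G) a b, R (x • a) (α x • b) ↔ R a b := by
    intro x a b
    constructor
    · rintro ⟨y, hy1, hy2⟩
      exact ⟨x⁻¹ * y, by rw [mul_smul, hy1, inv_smul_smul],
        by rw [map_mul, map_inv, mul_smul, hy2, inv_smul_smul]⟩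
    · rintro ⟨y, hy1, hy2⟩
      exact ⟨x * y, by rw [mul_smul, hy1], by rw [map_mul, mul_smul, hy2]⟩
  have hRo : ∀ b, R o b ↔ b ∈ MulAction.orbit K ω := by
    intro b
    constructor
    · rintro ⟨y, hy1, hy2⟩
      exact ⟨⟨α y, hKmem y hy1⟩, hy2⟩
    · rintro ⟨⟨_, y, hy, rfl⟩, e⟩
      exact ⟨y, hy, e⟩
  let M : Matrix Ω Ω ℤ := Matrix.of fun a b => if R a b then 1 else 0
  have hMinv : ∀ (x : G) a b, M (x • a) (α x • b) = M a b := fun x a b => by
    simp [M, hRinv]
  have hrow : ∀ a, ∑ b, M a b = k := by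
    intro a
    obtain ⟨x, rfl⟩ := MulAction.exists_smul_eq G o a
    rw [← Equiv.sum_comp (MulAction.toPerm (α x)) (fun b => M (x • o) b)]
    simp only [MulAction.toPerm_apply, hMinv]
    simp only [M, Matrix.of_apply, hRo]
    rw [Finset.sum_boole, hkdef, ← Nat.card_eq_finsetCard]
    norm_cast
    exact Nat.card_congr (Equiv.subtypeEquivRight fun b => by simp)
  have hcolinv : ∀ (y : G) b, ∑ a, M a (y • b) = ∑ a, M a b := by
    intro y b
    rw [← Equiv.sum_comp (MulAction.toPerm (α.symm y)) (fun a => M a (y • b))]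
    refine Finset.sum_congr rfl fun a _ => ?_
    have := hMinv (α.symm y) a b
    rw [MulEquiv.apply_symm_apply] at this
    simpa using this
  have hcol : ∀ b, ∑ a, M a b = k := by
    intro b
    have hconst : ∀ c, ∑ a, M a c = ∑ a, M a b := fun c => by
      obtain ⟨y, rfl⟩ := MulAction.exists_smul_eq G b c
      exact hcolinv y b
    have h1 : (Fintype.card Ω : ℤ) * ∑ a, M a b = (Fintype.card Ω : ℤ) * k :=
      calc (Fintype.card Ω : ℤ) * ∑ a, M a b = ∑ _c : Ω, ∑ a, M a b := by simp
        _ = ∑ c, ∑ a, M a c := Finset.sum_congr rfl fun c _ => (hconst c).symm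
        _ = ∑ a, ∑ c, M a c := Finset.sum_comm
        _ = (Fintype.card Ω : ℤ) * k := by simp [hrow]
    exact mul_left_cancel₀ (Int.natCast_ne_zero.2 (Fintype.card_pos_iff.2 ⟨o⟩).ne') h1
  by_cases hk1 : k = 1 ∨ k = Fintype.card Ω - 1
  · refine ⟨?_, hk1⟩
    -- `K` fixes a point
    obtain ⟨w, hw⟩ : ∃ w, ∀ x : K, x • w = w := by
      rcases hk1 with h | h
      · refine ⟨ω, fun x => ?_⟩
        exact congrArg Subtype.val (Subsingleton.elim (h := (Nat.card_eq_one_iff_unique.1 (hkdef ▸ h)).1)
          (⟨x • ω, MulAction.mem_orbit ω x⟩ : MulAction.orbit K ω) ⟨ω, MulAction.mem_orbit_self ω⟩)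
      · have h1 : (Finset.univ \ (MulAction.orbit K ω).toFinset).card = 1 := by
          rw [Finset.card_sdiff_of_subset (Finset.subset_univ _), Finset.card_univ, Set.toFinset_card,
            ← Nat.card_eq_fintype_card (α := MulAction.orbit K ω), ← hkdef, h]
          have := Fintype.card_pos_iff.2 ⟨o⟩
          omega
        obtain ⟨w, hw⟩ := Finset.card_eq_one.1 h1
        refine ⟨w, fun x => ?_⟩
        have hwn : w ∉ MulAction.orbit K ω := by
          have : w ∈ Finset.univ \ (MulAction.orbit K ω).toFinset := by rw [hw]; exact Finset.mem_singleton_self w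
          simpa using this
        have : x • w ∈ Finset.univ \ (MulAction.orbit K ω).toFinset := by
          simp only [Finset.mem_sdiff, Finset.mem_univ, true_and, Set.mem_toFinset]
          intro hc
          refine hwn ?_
          rw [← MulAction.orbit_eq_iff] at hc ⊢
          rw [← hc, MulAction.orbit_smul]
        rw [hw] at this
        exact Finset.mem_singleton.1 this
    have hKeq : ∀ x : G, x • o = o ↔ α x • w = w := by
      have hle : K ≤ MulAction.stabilizer G w := fun y hy => hw ⟨y, hy⟩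
      have hcard : Nat.card K = Nat.card (MulAction.stabilizer G w) := by
        obtain ⟨g, rfl⟩ := MulAction.exists_smul_eq G o w
        rw [MulAction.stabilizer_smul_eq_stabilizer_map_conj, hKdef]
        exact (Subgroup.card_map_of_injective α.injective).trans
          (Subgroup.card_map_of_injective (MulEquiv.injective _)).symm
      have heq := Subgroup.eq_of_le_of_card_ge hle hcard.ge
      intro x
      constructor
      · intro hx; exact hw ⟨α x, hKmem x hx⟩
      · intro hx
        have : α x ∈ K := heq ▸ hx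
        obtain ⟨y, hy, e⟩ := this
        rw [show x = y from α.injective e.symm]; exact hy
    choose φ hφ using MulAction.exists_smul_eq G o
    let f : Ω → Ω := fun a => α (φ a) • w
    have hf : ∀ (x : G) a, f (x • a) = α x • f a := by
      intro x a
      have h1 : ((φ a)⁻¹ * x⁻¹ * φ (x • a)) • o = o := by
        rw [mul_smul, hφ, mul_smul, inv_smul_smul, inv_smul_eq_iff, hφ]
      have h2 := (hKeq _).1 h1
      rw [map_mul, map_mul, map_inv, map_inv, mul_smul, mul_smul, inv_smul_eq_iff, inv_smul_eq_iff] at h2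
      exact h2
    have hbij : Function.Bijective f := by
      refine Finite.injective_iff_bijective.1 fun a b hab => ?_
      have h1 : α ((φ b)⁻¹ * φ a) • w = w := by
        rw [map_mul, map_inv, mul_smul, inv_smul_eq_iff]; exact hab
      have h2 := (hKeq _).2 h1
      rw [mul_smul, hφ, inv_smul_eq_iff, hφ] at h2
      exact h2
    let σ : Equiv.Perm Ω := Equiv.ofBijective f hbij
    have key : ∀ g : G, ((α g : G) : Equiv.Perm Ω) = σ * (g : Equiv.Perm Ω) * σ⁻¹ := by
      intro g
      rw [eq_mul_inv_iff_mul_eq]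
      ext a
      exact (hf g a).symm
    refine ⟨σ, Subgroup.mem_normalizer_iff.2 fun g => ⟨fun hg => ?_, fun hg => ?_⟩, key⟩
    · rw [← key ⟨g, hg⟩]; exact (α ⟨g, hg⟩).2
    · have h1 := key (α.symm ⟨_, hg⟩)
      rw [MulEquiv.apply_symm_apply] at h1
      rw [show g = ((α.symm ⟨_, hg⟩ : G) : Equiv.Perm Ω) from mul_left_cancel (mul_right_cancel h1)]
      exact SetLike.coe_mem _
  · exfalso
    push Not at hk1
    have hkn : k ≤ Fintype.card Ω := by
      rw [hkdef, ← Nat.card_eq_fintype_card]; exact Finite.card_subtype_le _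
    have hkpos : 0 < k := by
      haveI : Nonempty (MulAction.orbit K ω) := ⟨⟨ω, MulAction.mem_orbit_self ω⟩⟩
      exact Nat.card_pos
    have hklt : k + 1 < Fintype.card Ω := by
      rcases Nat.lt_or_ge (k + 1) (Fintype.card Ω) with h | h
      · exact h
      · exfalso
        have h1 : k = Fintype.card Ω := by omega
        have h3 := hk
        rw [h1, Nat.coprime_self] at h3
        omega
    have hn2 : 2 ≤ Fintype.card Ω := by omega
    have hsum2 : ∀ (β : MulAut G) (A B : Matrix Ω Ω ℤ), (∀ (x : G) a b, A (x • a) (β x • b) = A a b) →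
        ∀ γ : MulAut G, (∀ (x : G) a b, B (β x • a) (γ x • b) = B a b) →
        ∀ (x : G) a b, (A * B) (x • a) (γ x • b) = (A * B) a b := by
      intro β A B hA γ hB x a b
      simp only [Matrix.mul_apply]
      rw [← Equiv.sum_comp (MulAction.toPerm (β x))]
      exact Finset.sum_congr rfl fun c _ => by simp [hA, hB]
    have hpowinv : ∀ i : ℕ, ∀ (x : G) a b, (M ^ i) (x • a) ((α ^ i) x • b) = (M ^ i) a b := by
      intro i
      induction i with
      | zero => intro x a b; simp [Matrix.one_apply]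
      | succ i ih =>
        rw [pow_succ, pow_succ']
        exact hsum2 (α ^ i) _ _ ih (α * α ^ i) fun x a b => hMinv _ a b
    obtain ⟨q, l, hMMt⟩ := exists_span h2 (N := M * Mᵀ) (fun x a b => by
      simpa using hsum2 α M Mᵀ hMinv 1 (fun x a b => hMinv x b a) x a b)
    obtain ⟨q', l', hMtM⟩ := exists_span h2 (N := Mᵀ * M) (fun x a b => by
      obtain ⟨y, rfl⟩ := α.surjective x
      simp only [Matrix.mul_apply, Matrix.transpose_apply]
      rw [← Equiv.sum_comp (MulAction.toPerm y)]
      exact Finset.sum_congr rfl fun c _ => by simp [hMinv])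
    have hJM : J * M = (k : ℤ) • J := J_mul hcol
    have hMJ : M * J = (k : ℤ) • J := mul_J hrow
    have hMtJ : Mᵀ * J = (k : ℤ) • J := mul_J (M := Mᵀ) hcol
    have hJJ := J_mul_J (Ω := Ω)
    have e1 : (q : ℤ) + l * Fintype.card Ω = k * k := by
      have h1 : M * Mᵀ * J = M * (Mᵀ * J) := Matrix.mul_assoc _ _ _
      rw [hMMt, hMtJ, Matrix.mul_smul, hMJ, Matrix.add_mul, Matrix.smul_mul, Matrix.smul_mul, Matrix.one_mul, hJJ, smul_smul,
        smul_smul, ← add_smul] at h1
      have h2 := congrFun (congrFun h1 o) o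
      simpa [J] using h2
    have e1' : (q' : ℤ) + l' * Fintype.card Ω = k * k := by
      have h1 : Mᵀ * M * J = Mᵀ * (M * J) := Matrix.mul_assoc _ _ _
      rw [hMtM, hMJ, Matrix.mul_smul, hMtJ, Matrix.add_mul, Matrix.smul_mul, Matrix.smul_mul, Matrix.one_mul, hJJ, smul_smul,
        smul_smul, ← add_smul] at h1
      have h2 := congrFun (congrFun h1 o) o
      simpa [J] using h2
    have e2 : q + l = (k : ℤ) := by
      have h1 := congrFun (congrFun hMMt o) o
      simp only [Matrix.mul_apply, Matrix.transpose_apply] at h1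
      rw [← hrow o]
      have h2 : ∀ c, M o c * M o c = M o c := fun c => by simp [M]
      simp only [h2] at h1
      rw [span_apply, if_pos rfl] at h1
      exact h1.symm
    have e2' : q' + l' = (k : ℤ) := by
      have h1 := congrFun (congrFun hMtM o) o
      simp only [Matrix.mul_apply, Matrix.transpose_apply] at h1
      rw [← hcol o]
      have h2 : ∀ c, M c o * M c o = M c o := fun c => by simp [M]
      simp only [h2] at h1
      rw [span_apply, if_pos rfl] at h1
      exact h1.symm
    have hll : l = l' := by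
      have h1 : (l - l') * ((Fintype.card Ω : ℤ) - 1) = 0 := by linear_combination e1 - e1' - (e2 - e2')
      rcases mul_eq_zero.1 h1 with h | h
      · exact sub_eq_zero.1 h
      · exact absurd h (by omega)
    have hcomm : Commute M Mᵀ := by
      show M * Mᵀ = Mᵀ * M
      rw [hMMt, hMtM, hll, show q = q' by linear_combination e2 - e2' - hll]
    have hm := pow_orderOf_eq_one α
    obtain ⟨a, b, hab⟩ := exists_span h2 (N := M ^ orderOf α) (fun x a b => by
      have := hpowinv (orderOf α) x a b
      rwa [hm] at this)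
    have hpows : ∀ i : ℕ, ∃ c : ℤ, (q • (1 : Matrix Ω Ω ℤ) + l • J) ^ i =
        q ^ i • (1 : Matrix Ω Ω ℤ) + c • J := by
      intro i
      induction i with
      | zero => exact ⟨0, by simp⟩
      | succ i ih =>
        obtain ⟨c, hc⟩ := ih
        exact ⟨_, by rw [pow_succ, hc, span_mul, ← pow_succ]⟩
    obtain ⟨c, hc⟩ := hpows (orderOf α)
    have hqa : q ^ orderOf α = a ^ 2 := by
      have h1 : (M * Mᵀ) ^ orderOf α = M ^ orderOf α * (M ^ orderOf α)ᵀ := by
        rw [hcomm.mul_pow, Matrix.transpose_pow]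
      rw [hMMt, hc, hab, Matrix.transpose_add, Matrix.transpose_smul, Matrix.transpose_smul,
        Matrix.transpose_one, show (J : Matrix Ω Ω ℤ)ᵀ = J from rfl, span_mul] at h1
      rw [(span_inj hn2 h1).1]; ring
    have hrowm : ∀ i : ℕ, M ^ i * J = (k : ℤ) ^ i • J := by
      intro i
      induction i with
      | zero => simp
      | succ i ih => rw [pow_succ, Matrix.mul_assoc, hMJ, Matrix.mul_smul, ih, smul_smul, pow_succ']
    have e3 : (k : ℤ) ^ orderOf α = a + b * Fintype.card Ω := by
      have h1 := hrowm (orderOf α)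
      rw [hab, Matrix.add_mul, Matrix.smul_mul, Matrix.smul_mul, Matrix.one_mul, hJJ, smul_smul, ← add_smul] at h1
      have h2 := congrFun (congrFun h1 o) o
      simpa [J] using h2.symm
    exact endgame (n := Fintype.card Ω) hα (by omega) hklt hk
      (by linear_combination (Fintype.card Ω : ℤ) * e2 - e1) ⟨l, e1⟩ hqa e3

end CfsgLib.Perm.OddAut
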