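import Mathlib

/-!
# Two involutions have a common third one with both products of odd order

For two involutive functions with equally many fixed points on a finite invariant set `S`,
either there is a third involution on `S` with equally many fixed points such that all cycles
of both products are odd, or `S` consists of four points on which the two generate a
four-group.
-/

set_option autoImplicit false

namespace CfsgLib.OddProd

open Function

variable {α : Type*}

/-- All points of `S` lie in cycles of odd length of `g`. -/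
def OddOn (g : α → α) (S : Set α) : Prop := ∀ v ∈ S, ∃ N, Odd N ∧ g^[N] v = v

theorem iterate_congr_on {f g : α → α} {D : Set α} (hf : Set.MapsTo f D D)
    (hg : ∀ v ∈ D, g v = f v) {v : α} (hv : v ∈ D) : ∀ n, g^[n] v = f^[n] v
  | 0 => rfl
  | n + 1 => by
      rw [iterate_succ_apply', iterate_succ_apply', iterate_congr_on hf hg hv n,
        hg _ (hf.iterate n hv)]

theorem chain {f g : α → α} {u₀ u : α} {M : ℕ} (h0 : g u₀ = f u)
    (h : ∀ j, 1 ≤ j → j < M → g (f^[j] u) = f^[j + 1] u) :
    ∀ j, 1 ≤ j → j ≤ M → g^[j] u₀ = f^[j] u := by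
  intro j h1 hM
  induction j, h1 using Nat.le_induction with
  | base => simpa using h0
  | succ j h1 ih => rw [iterate_succ_apply', ih (by omega), h j h1 (by omega)]

theorem odd_cycle {g : α → α} {p : α} {N : ℕ} (hN : Odd N) (hp : g^[N] p = p) (i : ℕ) :
    ∃ N, Odd N ∧ g^[N] (g^[i] p) = g^[i] p :=
  ⟨N, hN, by rw [← iterate_add_apply, add_comm, iterate_add_apply, hp]⟩

theorem minimalPeriod_pos' [Finite α] {f : α → α} (hf : Injective f) (v : α) :
    0 < minimalPeriod f v :=
  minimalPeriod_pos_of_mem_periodicPts (hf.mem_periodicPts v)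

theorem oddOn_iff {f : α → α} [Finite α] (hf : Injective f) {S : Set α} :
    OddOn f S ↔ ∀ v ∈ S, Odd (minimalPeriod f v) := by
  refine ⟨fun h v hv => ?_, fun h v hv => ⟨_, h v hv, iterate_minimalPeriod⟩⟩
  obtain ⟨N, hN, he⟩ := h v hv
  exact Odd.of_dvd_nat hN (IsPeriodicPt.minimalPeriod_dvd he)

/-- Inserting an even number of points after `p` keeps all cycles odd. -/
theorem oddOn_insert {f g : α → α} {D : Set α}
    (hD : Set.MapsTo f D D) (ho : OddOn f D) {p : α} (hp : p ∈ D) {k : ℕ} (hk : Even k)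
    (hcr : g^[k + 1] p = f p) (hg : ∀ v ∈ D, v ≠ p → g v = f v) :
    OddOn g (D ∪ Set.range fun i => g^[i] p) := by
  set N := minimalPeriod f p with hN
  obtain ⟨N₀, hN₀, hpN⟩ := ho p hp
  have hNo : Odd N := hN₀.of_dvd_nat (IsPeriodicPt.minimalPeriod_dvd hpN)
  have hN0 : 0 < N := hNo.pos
  have h1 : ∀ j, j < N → g^[k + (j + 1)] p = f^[j + 1] p := by
    intro j hj
    induction j with
    | zero => simpa using hcr
    | succ j ih =>
      rw [show k + (j + 1 + 1) = k + (j + 1) + 1 from rfl, iterate_succ_apply', ih (by omega),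
        hg _ (hD.iterate _ hp), ← iterate_succ_apply' f]
      intro he
      exact absurd (iterate_eq_iterate_iff_of_lt_minimalPeriod (f := f) (x := p) (by omega : j + 1 < N)
        hN0 |>.1 he) (by omega)
  have hper : g^[k + N] p = p := by
    have := h1 (N - 1) (by omega)
    rwa [show N - 1 + 1 = N by omega, iterate_minimalPeriod] at this
  have hodd : Odd (k + N) := hk.add_odd hNo
  rintro v (hv | ⟨i, rfl⟩)
  swap
  · exact odd_cycle hodd hper i
  by_cases hex : ∃ i, f^[i] v = p
  · obtain ⟨i, hi⟩ := hex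
    -- `v` is an iterate of `p`
    have hv' : ∃ m, m < N ∧ f^[m + 1] p = v := by
      obtain ⟨M, hM, hMv⟩ := ho v hv
      have hM0 : 0 < M := hM.pos
      have hback : f^[i * M - i] p = v := by
        rw [← hi, ← iterate_add_apply, Nat.sub_add_cancel (Nat.le_mul_of_pos_right i hM0)]
        exact (IsPeriodicPt.const_mul (f := f) (show IsPeriodicPt f M v from hMv) i)
      set r := (i * M - i) % N with hr
      have hr' : f^[r] p = v := by rw [hr, hN, iterate_mod_minimalPeriod_eq]; exact hback
      rcases Nat.eq_zero_or_pos r with h0 | h0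
      · refine ⟨N - 1, by omega, ?_⟩
        rw [show N - 1 + 1 = N by omega, iterate_minimalPeriod, ← hr', h0]; rfl
      · refine ⟨r - 1, ?_, by rw [show r - 1 + 1 = r by omega]; exact hr'⟩
        have : r < N := Nat.mod_lt _ hN0
        omega
    obtain ⟨m, hm, rfl⟩ := hv'
    rw [← h1 m hm]
    exact odd_cycle hodd hper _
  · push Not at hex
    obtain ⟨M, hM, hMv⟩ := ho v hv
    refine ⟨M, hM, ?_⟩
    have hD' : Set.MapsTo f {w | w ∈ D ∧ ∀ i, f^[i] w ≠ p} {w | w ∈ D ∧ ∀ i, f^[i] w ≠ p} :=
      fun w hw => ⟨hD hw.1, fun i => by rw [← iterate_succ_apply]; exact hw.2 _⟩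
    rw [iterate_congr_on hD' (fun w hw => hg w hw.1 (hw.2 0)) ⟨hv, hex⟩ M, hMv]

/-- Inserting two points after `e` and two after `e'`. -/
theorem oddOn_edge {f g : α → α} {D : Set α} (hD : Set.MapsTo f D D) (ho : OddOn f D)
    {e e' p₁ p₂ q₁ q₂ : α} (he : e ∈ D) (he' : e' ∈ D) (hne : e ≠ e') (hp₁ : p₁ ∉ D) (hp₂ : p₂ ∉ D)
    (h1 : g e = p₁) (h2 : g p₁ = p₂) (h3 : g p₂ = f e)
    (h4 : g e' = q₁) (h5 : g q₁ = q₂) (h6 : g q₂ = f e')
    (hg : ∀ v ∈ D, v ≠ e → v ≠ e' → g v = f v) : OddOn g (D ∪ {p₁, p₂, q₁, q₂}) := by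
  classical
  let g₁ : α → α := fun v => if v = e' then f e' else g v
  have g1o : ∀ v, v ≠ e' → g₁ v = g v := fun v h => if_neg h
  have g1f : g₁ e' = f e' := if_pos rfl
  have hp₁' : p₁ ≠ e' := fun h => hp₁ (h ▸ he')
  have hp₂' : p₂ ≠ e' := fun h => hp₂ (h ▸ he')
  have key₁ := oddOn_insert (g := g₁) hD ho (p := e) he (k := 2) (by decide)
    (by simp [iterate_succ_apply', g1o, hne, hp₁', hp₂', h1, h2, h3])
    (fun v hv hve => by
      rcases eq_or_ne v e' with rfl | hvf
      · exact g1f
      · rw [g1o v hvf, hg v hv hve hvf])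
  have hmaps : Set.MapsTo g₁ (D ∪ {p₁, p₂}) (D ∪ {p₁, p₂}) := by
    rintro v (hv | rfl | rfl)
    · rcases eq_or_ne v e' with rfl | hvf
      · rw [g1f]; exact Or.inl (hD he')
      · rcases eq_or_ne v e with rfl | hve
        · rw [g1o _ hvf, h1]; exact Or.inr (Or.inl rfl)
        · rw [g1o v hvf, hg v hv hve hvf]; exact Or.inl (hD hv)
    · rw [g1o _ hp₁', h2]; exact Or.inr (Or.inr rfl)
    · rw [g1o _ hp₂', h3]; exact Or.inl (hD he)
  have hodd : OddOn g₁ (D ∪ {p₁, p₂}) := by
    rintro v (hv | rfl | rfl)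
    · exact key₁ v (Or.inl hv)
    · exact key₁ _ (Or.inr ⟨1, by simp [g1o, hne, h1]⟩)
    · exact key₁ _ (Or.inr ⟨2, by simp [iterate_succ_apply', g1o, hne, hp₁', h1, h2]⟩)
  have key₂ := oddOn_insert (g := g) hmaps hodd (p := e') (Or.inl he') (k := 2) (by decide)
    (by simp [iterate_succ_apply', g1f, h4, h5, h6])
    (fun v _ hvf => (g1o v hvf).symm)
  rintro v (hv | rfl | rfl | rfl | rfl)
  · exact key₂ v (Or.inl (Or.inl hv))
  · exact key₂ _ (Or.inl (Or.inr (Or.inl rfl)))
  · exact key₂ _ (Or.inl (Or.inr (Or.inr rfl)))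
  · exact key₂ _ (Or.inr ⟨1, by simp [h4]⟩)
  · exact key₂ _ (Or.inr ⟨2, by simp [iterate_succ_apply', h4, h5]⟩)

variable [Fintype α] [DecidableEq α]

/-- A common partner of `x` and `y` on `S`. -/
def Good (x y : α → α) (S : Finset α) : Prop :=
  ∃ z : α → α, Involutive z ∧ (∀ v, v ∉ S → z v = v) ∧
    (S.filter fun v => z v = v).card = (S.filter fun v => x v = v).card ∧
    OddOn (x ∘ z) S ∧ OddOn (y ∘ z) S

/-- Four points on which `x` and `y` generate a regular four-group. -/
def IsSquare (x y : α → α) (S : Finset α) : Prop :=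
  ∃ a b c d : α, a ≠ b ∧ a ≠ c ∧ a ≠ d ∧ b ≠ c ∧ b ≠ d ∧ c ≠ d ∧ S = {a, b, c, d} ∧
    x a = b ∧ x c = d ∧ y a = c ∧ y b = d

theorem mapsTo_z {z : α → α} {S : Finset α} (hz : Involutive z) (hout : ∀ v, v ∉ S → z v = v) :
    ∀ v ∈ S, z v ∈ S := fun v hv => by
  by_contra h
  exact h (by rw [← hout _ h, hz v]; exact hv)

theorem good_empty (x y : α → α) : Good x y ∅ :=
  ⟨id, fun _ => rfl, fun _ _ => rfl, by simp, fun v hv => by simp at hv, fun v hv => by simp at hv⟩

theorem Good.union {x y : α → α} {S T : Finset α}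
    (hxS : ∀ v ∈ S, x v ∈ S) (hyS : ∀ v ∈ S, y v ∈ S)
    (hxT : ∀ v ∈ T, x v ∈ T) (hyT : ∀ v ∈ T, y v ∈ T)
    (hd : Disjoint S T) (hS : Good x y S) (hT : Good x y T) : Good x y (S ∪ T) := by
  obtain ⟨z, hz, hzo, hzc, hzx, hzy⟩ := hS
  obtain ⟨w, hw, hwo, hwc, hwx, hwy⟩ := hT
  let u : α → α := fun v => if v ∈ S then z v else w v
  have huS : ∀ v ∈ S, u v = z v := fun v hv => if_pos hv
  have huT : ∀ v ∈ T, u v = w v := fun v hv => if_neg (Finset.disjoint_right.1 hd hv)
  refine ⟨u, ?_, ?_, ?_, ?_, ?_⟩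
  · intro v
    by_cases hv : v ∈ S
    · rw [huS v hv, huS _ (mapsTo_z hz hzo v hv), hz v]
    · have : u v = w v := if_neg hv
      by_cases hvT : v ∈ T
      · rw [this, huT _ (mapsTo_z hw hwo v hvT), hw v]
      · rw [this, hwo v hvT, this, hwo v hvT]
  · intro v hv
    rw [Finset.mem_union, not_or] at hv
    exact (if_neg hv.1).trans (hwo v hv.2)
  · rw [Finset.filter_union, Finset.filter_union,
      Finset.card_union_of_disjoint (Finset.disjoint_filter_filter hd),
      Finset.card_union_of_disjoint (Finset.disjoint_filter_filter hd), ← hzc, ← hwc]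
    congr 2 <;> exact Finset.filter_congr fun v hv => by first | rw [huS v hv] | rw [huT v hv]
  all_goals
    intro v hv
    rw [Finset.coe_union] at hv
    rcases hv with hv | hv
  · obtain ⟨N, hN, he⟩ := hzx v hv
    refine ⟨N, hN, ?_⟩
    rwa [iterate_congr_on (f := x ∘ z) (g := x ∘ u) (D := S) (fun t ht => hxS _ (mapsTo_z hz hzo t ht))
      (fun t ht => congrArg x (huS t ht)) hv N]
  · obtain ⟨N, hN, he⟩ := hwx v hv
    refine ⟨N, hN, ?_⟩
    rwa [iterate_congr_on (f := x ∘ w) (g := x ∘ u) (D := T) (fun t ht => hxT _ (mapsTo_z hw hwo t ht))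
      (fun t ht => congrArg x (huT t ht)) hv N]
  · obtain ⟨N, hN, he⟩ := hzy v hv
    refine ⟨N, hN, ?_⟩
    rwa [iterate_congr_on (f := y ∘ z) (g := y ∘ u) (D := S) (fun t ht => hyS _ (mapsTo_z hz hzo t ht))
      (fun t ht => congrArg y (huS t ht)) hv N]
  · obtain ⟨N, hN, he⟩ := hwy v hv
    refine ⟨N, hN, ?_⟩
    rwa [iterate_congr_on (f := y ∘ w) (g := y ∘ u) (D := T) (fun t ht => hyT _ (mapsTo_z hw hwo t ht))
      (fun t ht => congrArg y (huT t ht)) hv N]

/-- Inserting one square into a good set. -/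
theorem Good.insert_square {x y : α → α} (hx : Involutive x) (hy : Involutive y) {R T : Finset α}
    (hxR : ∀ v ∈ R, x v ∈ R) (hyR : ∀ v ∈ R, y v ∈ R)
    (hd : Disjoint R T) (hR : Good x y R) (hne : R.Nonempty) (hT : IsSquare x y T) :
    Good x y (R ∪ T) := by
  obtain ⟨z, hz, hzo, hzc, hzx, hzy⟩ := hR
  obtain ⟨a, b, c, d, hab, hac, had, hbc, hbd, hcd, rfl, xa, xc, ya, yb⟩ := hT
  obtain ⟨e, he⟩ := hne
  have xb : x b = a := by rw [← xa, hx a]
  have xd : x d = c := by rw [← xc, hx c]
  have yc : y c = a := by rw [← ya, hy a]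
  have yd : y d = b := by rw [← yb, hy b]
  have hxT : (({a, b, c, d} : Finset α).filter fun v => x v = v) = ∅ := by
    rw [Finset.filter_eq_empty_iff]
    intro v hv
    simp only [Finset.mem_insert, Finset.mem_singleton] at hv
    rcases hv with rfl | rfl | rfl | rfl
    · rw [xa]; exact hab.symm
    · rw [xb]; exact hab
    · rw [xc]; exact hcd.symm
    · rw [xd]; exact hcd
  have hout : ∀ v ∈ R, v ≠ a ∧ v ≠ b ∧ v ≠ c ∧ v ≠ d := fun v hv => by
    have := Finset.disjoint_left.1 hd hv
    simpa [Finset.mem_insert, Finset.mem_singleton, not_or] using this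
  have hTout : ∀ v, v = a ∨ v = b ∨ v = c ∨ v = d → v ∉ R := fun v hv hvR => by
    obtain ⟨h1, h2, h3, h4⟩ := hout v hvR
    tauto
  have he' : z e ∈ R := mapsTo_z hz hzo e he
  obtain ⟨ea, eb, ec, ed⟩ := hout e he
  obtain ⟨fa, fb, fc, fd⟩ := hout _ he'
  have hcardx : ((R ∪ {a, b, c, d}).filter fun v => x v = v).card
      = (R.filter fun v => x v = v).card := by
    rw [Finset.filter_union, hxT, Finset.union_empty]
  rcases eq_or_ne (z e) e with hee | hee
  · -- `e` is a fixed point of `z`
    let u : α → α := fun v => if v = e then a else if v = a then e else if v = b then c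
      else if v = c then b else z v
    have ue : u e = a := if_pos rfl
    have ua : u a = e := by simp [u, ea.symm]
    have ub : u b = c := by simp [u, eb.symm, hab.symm]
    have uc : u c = b := by simp [u, ec.symm, hac.symm, hbc.symm]
    have ud : u d = d := by
      simp [u, ed.symm, had.symm, hbd.symm, hcd.symm, hzo d (hTout d (by tauto))]
    have uo : ∀ v, v ≠ e → v ≠ a → v ≠ b → v ≠ c → u v = z v := fun v h1 h2 h3 h4 => by
      simp [u, h1, h2, h3, h4]
    have uR : ∀ v ∈ R, v ≠ e → u v = z v := fun v hv h =>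
      uo v h (hout v hv).1 (hout v hv).2.1 (hout v hv).2.2.1
    refine ⟨u, ?_, ?_, ?_, ?_, ?_⟩
    · intro v
      by_cases h1 : v = e; · subst h1; rw [ue, ua]
      by_cases h2 : v = a; · subst h2; rw [ua, ue]
      by_cases h3 : v = b; · subst h3; rw [ub, uc]
      by_cases h4 : v = c; · subst h4; rw [uc, ub]
      rw [uo v h1 h2 h3 h4]
      by_cases hv : v ∈ R
      · rw [uR _ (mapsTo_z hz hzo v hv) fun h => h1 (by rw [← hz v, h, hee]), hz v]
      · rw [hzo v hv, uo v h1 h2 h3 h4, hzo v hv]
    · intro v hv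
      simp only [Finset.mem_union, Finset.mem_insert, Finset.mem_singleton, not_or] at hv
      rw [uo v (fun h => hv.1 (h ▸ he)) hv.2.1 hv.2.2.1 hv.2.2.2.1, hzo v hv.1]
    · rw [hcardx, ← hzc]
      have : ((R ∪ {a, b, c, d}).filter fun v => u v = v)
          = insert d ((R.filter fun v => z v = v).erase e) := by
        ext v
        simp only [Finset.mem_filter, Finset.mem_union, Finset.mem_insert, Finset.mem_singleton,
          Finset.mem_erase]
        constructor
        · rintro ⟨hv | rfl | rfl | rfl | rfl, huv⟩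
          · rcases eq_or_ne v e with rfl | hve
            · rw [ue] at huv; exact absurd huv.symm ea
            · exact Or.inr ⟨hve, hv, by rwa [← uR v hv hve]⟩
          · rw [ua] at huv; exact absurd huv ea
          · rw [ub] at huv; exact absurd huv hbc.symm
          · rw [uc] at huv; exact absurd huv hbc
          · exact Or.inl rfl
        · rintro (rfl | ⟨hve, hv, hzv⟩)
          · exact ⟨by tauto, ud⟩
          · exact ⟨Or.inl hv, by rw [uR v hv hve, hzv]⟩
      have hem : e ∈ R.filter fun v => z v = v := Finset.mem_filter.2 ⟨he, hee⟩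
      rw [this, Finset.card_insert_of_notMem, Finset.card_erase_of_mem hem]
      · have := Finset.card_pos.2 ⟨e, hem⟩; omega
      · simp only [Finset.mem_erase, Finset.mem_filter, not_and]
        exact fun _ h => absurd h (hTout d (by tauto))
    · have key := oddOn_insert (g := x ∘ u) (f := x ∘ z) (D := R)
        (fun t ht => hxR _ (mapsTo_z hz hzo t ht)) hzx (p := e) he (k := 4) (by decide)
        (by simp [iterate_succ_apply', ue, ua, ub, uc, ud, xa, xb, xc, xd, hee])
        (fun v hv hve => congrArg x (uR v hv hve))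
      intro v hv
      rw [Finset.coe_union] at hv
      rcases hv with hv | hv
      · exact key v (Or.inl hv)
      · refine key v (Or.inr ?_)
        simp only [Finset.coe_insert, Finset.coe_singleton, Set.mem_insert_iff,
          Set.mem_singleton_iff] at hv
        rcases hv with rfl | rfl | rfl | rfl
        · exact ⟨4, by simp [iterate_succ_apply', ue, ua, ub, uc, ud, xa, xb, xc, xd]⟩
        · exact ⟨1, by simp [iterate_succ_apply', ue, ua, ub, uc, ud, xa, xb, xc, xd]⟩
        · exact ⟨3, by simp [iterate_succ_apply', ue, ua, ub, uc, ud, xa, xb, xc, xd]⟩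
        · exact ⟨2, by simp [iterate_succ_apply', ue, ua, ub, uc, ud, xa, xb, xc, xd]⟩
    · have key := oddOn_insert (g := y ∘ u) (f := y ∘ z) (D := R)
        (fun t ht => hyR _ (mapsTo_z hz hzo t ht)) hzy (p := e) he (k := 4) (by decide)
        (by simp [iterate_succ_apply', ue, ua, ub, uc, ud, ya, yb, yc, yd, hee])
        (fun v hv hve => congrArg y (uR v hv hve))
      intro v hv
      rw [Finset.coe_union] at hv
      rcases hv with hv | hv
      · exact key v (Or.inl hv)
      · refine key v (Or.inr ?_)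
        simp only [Finset.coe_insert, Finset.coe_singleton, Set.mem_insert_iff,
          Set.mem_singleton_iff] at hv
        rcases hv with rfl | rfl | rfl | rfl
        · exact ⟨4, by simp [iterate_succ_apply', ue, ua, ub, uc, ud, ya, yb, yc, yd]⟩
        · exact ⟨3, by simp [iterate_succ_apply', ue, ua, ub, uc, ud, ya, yb, yc, yd]⟩
        · exact ⟨1, by simp [iterate_succ_apply', ue, ua, ub, uc, ud, ya, yb, yc, yd]⟩
        · exact ⟨2, by simp [iterate_succ_apply', ue, ua, ub, uc, ud, ya, yb, yc, yd]⟩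
  · -- `e` and `z e` are interchanged by `z`
    let u : α → α := fun v => if v = e then a else if v = a then e else if v = b then c
      else if v = c then b else if v = d then z e else if v = z e then d else z v
    have ue : u e = a := if_pos rfl
    have ua : u a = e := by simp [u, ea.symm]
    have ub : u b = c := by simp [u, eb.symm, hab.symm]
    have uc : u c = b := by simp [u, ec.symm, hac.symm, hbc.symm]
    have ud : u d = z e := by simp [u, ed.symm, had.symm, hbd.symm, hcd.symm]
    have uf : u (z e) = d := by simp [u, hee, fa, fb, fc, fd]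
    have uo : ∀ v, v ≠ e → v ≠ a → v ≠ b → v ≠ c → v ≠ d → v ≠ z e → u v = z v :=
      fun v h1 h2 h3 h4 h5 h6 => by simp [u, h1, h2, h3, h4, h5, h6]
    have uR : ∀ v ∈ R, v ≠ e → v ≠ z e → u v = z v := fun v hv h h' =>
      uo v h (hout v hv).1 (hout v hv).2.1 (hout v hv).2.2.1 (hout v hv).2.2.2 h'
    refine ⟨u, ?_, ?_, ?_, ?_, ?_⟩
    · intro v
      by_cases h1 : v = e; · subst h1; rw [ue, ua]
      by_cases h2 : v = a; · subst h2; rw [ua, ue]
      by_cases h3 : v = b; · subst h3; rw [ub, uc]
      by_cases h4 : v = c; · subst h4; rw [uc, ub]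
      by_cases h5 : v = d; · subst h5; rw [ud, uf]
      by_cases h6 : v = z e; · subst h6; rw [uf, ud]
      rw [uo v h1 h2 h3 h4 h5 h6]
      by_cases hv : v ∈ R
      · rw [uR _ (mapsTo_z hz hzo v hv) (fun h => h6 (by rw [← hz v, h]))
          (fun h => h1 (hz.injective h)), hz v]
      · rw [hzo v hv, uo v h1 h2 h3 h4 h5 h6, hzo v hv]
    · intro v hv
      simp only [Finset.mem_union, Finset.mem_insert, Finset.mem_singleton, not_or] at hv
      rw [uo v (fun h => hv.1 (h ▸ he)) hv.2.1 hv.2.2.1 hv.2.2.2.1 hv.2.2.2.2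
        (fun h => hv.1 (h ▸ he')), hzo v hv.1]
    · rw [hcardx, ← hzc]
      congr 1
      ext v
      simp only [Finset.mem_filter, Finset.mem_union, Finset.mem_insert, Finset.mem_singleton]
      constructor
      · rintro ⟨hv | rfl | rfl | rfl | rfl, huv⟩
        · rcases eq_or_ne v e with rfl | hve
          · rw [ue] at huv; exact absurd huv.symm ea
          · rcases eq_or_ne v (z e) with rfl | hvf
            · rw [uf] at huv; exact absurd huv.symm fd
            · exact ⟨hv, by rwa [← uR v hv hve hvf]⟩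
        · rw [ua] at huv; exact absurd huv ea
        · rw [ub] at huv; exact absurd huv hbc.symm
        · rw [uc] at huv; exact absurd huv hbc
        · rw [ud] at huv; exact absurd huv fd
      · rintro ⟨hv, hzv⟩
        refine ⟨Or.inl hv, ?_⟩
        rw [uR v hv (fun h => hee (h ▸ hzv)) (fun h => hee (by rw [h, hz e] at hzv; exact hzv.symm)),
          hzv]
    · intro v hv
      refine oddOn_edge (f := x ∘ z) (g := x ∘ u) (D := R) (e := e) (e' := z e) (p₁ := b) (p₂ := d)
        (q₁ := c) (q₂ := a) (fun t ht => hxR _ (mapsTo_z hz hzo t ht)) hzx he he' hee.symm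
        (hTout b (by tauto)) (hTout d (by tauto)) ?_ ?_ ?_ ?_ ?_ ?_
        (fun t ht h h' => congrArg x (uR t ht h h')) v ?_
      all_goals first
        | (simp [ue, ua, ub, uc, ud, uf, xa, xb, xc, xd, hz e]; done)
        | (simp only [Finset.coe_union, Finset.coe_insert, Finset.coe_singleton, Set.mem_union,
            Set.mem_insert_iff, Set.mem_singleton_iff] at hv ⊢; tauto)
    · intro v hv
      refine oddOn_edge (f := y ∘ z) (g := y ∘ u) (D := R) (e := e) (e' := z e) (p₁ := c) (p₂ := d)
        (q₁ := b) (q₂ := a) (fun t ht => hyR _ (mapsTo_z hz hzo t ht)) hzy he he' hee.symm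
        (hTout c (by tauto)) (hTout d (by tauto)) ?_ ?_ ?_ ?_ ?_ ?_
        (fun t ht h h' => congrArg y (uR t ht h h')) v ?_
      all_goals first
        | (simp [ue, ua, ub, uc, ud, uf, ya, yb, yc, yd, hz e]; done)
        | (simp only [Finset.coe_union, Finset.coe_insert, Finset.coe_singleton, Set.mem_union,
            Set.mem_insert_iff, Set.mem_singleton_iff] at hv ⊢; tauto)

/-- Two squares. -/
theorem good_two_squares {x y : α → α} (hx : Involutive x) (hy : Involutive y) {R T : Finset α}
    (hd : Disjoint R T) (hR : IsSquare x y R) (hT : IsSquare x y T) : Good x y (R ∪ T) := by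
  obtain ⟨a, b, c, d, hab, hac, had, hbc, hbd, hcd, rfl, xa, xc, ya, yb⟩ := hR
  obtain ⟨a', b', c', d', hab', hac', had', hbc', hbd', hcd', rfl, xa', xc', ya', yb'⟩ := hT
  have xb : x b = a := by rw [← xa, hx a]
  have xd : x d = c := by rw [← xc, hx c]
  have yc : y c = a := by rw [← ya, hy a]
  have yd : y d = b := by rw [← yb, hy b]
  have xb' : x b' = a' := by rw [← xa', hx a']
  have xd' : x d' = c' := by rw [← xc', hx c']
  have yc' : y c' = a' := by rw [← ya', hy a']
  have yd' : y d' = b' := by rw [← yb', hy b']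
  simp only [Finset.disjoint_insert_left, Finset.disjoint_singleton_left, Finset.mem_insert,
    Finset.mem_singleton, not_or] at hd
  simp only [← ne_eq] at hd
  obtain ⟨⟨aa, ab, ac, ad⟩, ⟨ba, bb, bc, bd⟩, ⟨ca, cb, cc, cd⟩, da, db, dc, dd⟩ := hd
  let u : α → α := fun v => if v = b then d else if v = d then b else if v = c then b'
    else if v = b' then c else if v = a then a' else if v = a' then a
    else if v = c' then d' else if v = d' then c' else v
  have ub : u b = d := if_pos rfl
  have ud : u d = b := by simp [u, hbd.symm]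
  have uc : u c = b' := by simp [u, hbc.symm, hcd]
  have ub' : u b' = c := by simp [u, bb.symm, db.symm, cb.symm]
  have ua : u a = a' := by simp [u, hab, had, hac, ab]
  have ua' : u a' = a := by simp [u, ba.symm, da.symm, ca.symm, hab', aa.symm]
  have uc' : u c' = d' := by simp [u, bc.symm, dc.symm, cc.symm, hbc'.symm, ac.symm, hac'.symm]
  have ud' : u d' = c' := by
    simp [u, bd.symm, dd.symm, cd.symm, hbd'.symm, ad.symm, had'.symm, hcd'.symm]
  have uo : ∀ v, v ≠ a → v ≠ b → v ≠ c → v ≠ d → v ≠ a' → v ≠ b' → v ≠ c' → v ≠ d' → u v = v :=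
    fun v h1 h2 h3 h4 h5 h6 h7 h8 => by simp [u, h1, h2, h3, h4, h5, h6, h7, h8]
  refine ⟨u, ?_, ?_, ?_, ?_, ?_⟩
  · intro v
    by_cases h1 : v = a; · subst h1; rw [ua, ua']
    by_cases h2 : v = b; · subst h2; rw [ub, ud]
    by_cases h3 : v = c; · subst h3; rw [uc, ub']
    by_cases h4 : v = d; · subst h4; rw [ud, ub]
    by_cases h5 : v = a'; · subst h5; rw [ua', ua]
    by_cases h6 : v = b'; · subst h6; rw [ub', uc]
    by_cases h7 : v = c'; · subst h7; rw [uc', ud']
    by_cases h8 : v = d'; · subst h8; rw [ud', uc']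
    rw [uo v h1 h2 h3 h4 h5 h6 h7 h8, uo v h1 h2 h3 h4 h5 h6 h7 h8]
  · intro v hv
    simp only [Finset.mem_union, Finset.mem_insert, Finset.mem_singleton, not_or] at hv
    exact uo v hv.1.1 hv.1.2.1 hv.1.2.2.1 hv.1.2.2.2 hv.2.1 hv.2.2.1 hv.2.2.2.1 hv.2.2.2.2
  · congr 1
    refine Finset.filter_congr fun v hv => ?_
    simp only [Finset.mem_union, Finset.mem_insert, Finset.mem_singleton] at hv
    rcases hv with (rfl | rfl | rfl | rfl) | (rfl | rfl | rfl | rfl) <;>
      simp [ua, ub, uc, ud, ua', ub', uc', ud', xa, xb, xc, xd, xa', xb', xc', xd', aa.symm,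
        hab.symm, hcd.symm, hab'.symm, hcd'.symm, hbd.symm, cb.symm, hab, hcd, hab', hcd', hbd, cb, aa]
  · intro v hv
    simp only [Finset.coe_union, Finset.coe_insert, Finset.coe_singleton, Set.mem_union,
      Set.mem_insert_iff, Set.mem_singleton_iff] at hv
    rcases hv with (rfl | rfl | rfl | rfl) | (rfl | rfl | rfl | rfl) <;>
      first
        | (refine ⟨1, odd_one, ?_⟩; simp [uc', ud', xc', xd']; done)
        | exact ⟨3, by decide, by simp [iterate_succ_apply', ua, ub, uc, ud, ua', ub', xa, xb, xc, xd,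
            xa', xb']⟩
  · intro v hv
    simp only [Finset.coe_union, Finset.coe_insert, Finset.coe_singleton, Set.mem_union,
      Set.mem_insert_iff, Set.mem_singleton_iff] at hv
    rcases hv with (rfl | rfl | rfl | rfl) | (rfl | rfl | rfl | rfl) <;>
      first
        | (refine ⟨1, odd_one, ?_⟩; simp [ub, ud, yd, yb]; done)
        | exact ⟨3, by decide, by simp [iterate_succ_apply', ua, ub, uc, ud, ua', ub', uc', ud', ya, yb,
            yc, yd, ya', yb', yc', yd']⟩

section Main

variable {x y : α → α}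

theorem rev (hx : Involutive x) (hy : Involutive y) (v : α) :
    ∀ i, (y ∘ x)^[i] (x ((y ∘ x)^[i] v)) = x v
  | 0 => rfl
  | i + 1 => by
      rw [iterate_succ_apply (y ∘ x) i, iterate_succ_apply' (y ∘ x) i v]
      simp only [comp_apply]
      rw [hx, hy, rev hx hy v i]

omit [DecidableEq α] in
theorem yx_injective (hx : Involutive x) (hy : Involutive y) : Injective (y ∘ x) :=
  hy.injective.comp hx.injective

theorem period_x (hx : Involutive x) (hy : Involutive y) (v : α) :
    minimalPeriod (y ∘ x) (x v) = minimalPeriod (y ∘ x) v := by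
  have h : ∀ w, IsPeriodicPt (y ∘ x) (minimalPeriod (y ∘ x) w) (x w) := fun w => by
    have := rev hx hy w (minimalPeriod (y ∘ x) w)
    rwa [iterate_minimalPeriod] at this
  refine Nat.dvd_antisymm (h v).minimalPeriod_dvd ?_
  have := h (x v)
  rw [hx v] at this
  exact this.minimalPeriod_dvd

theorem period_iterate (hx : Involutive x) (hy : Involutive y) (v : α) (i : ℕ) :
    minimalPeriod (y ∘ x) ((y ∘ x)^[i] v) = minimalPeriod (y ∘ x) v :=
  minimalPeriod_apply_iterate ((yx_injective hx hy).mem_periodicPts v) i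

theorem period_swap (hx : Involutive x) (hy : Involutive y) (v : α) :
    minimalPeriod (x ∘ y) v = minimalPeriod (y ∘ x) v := by
  have key : ∀ n w, x ((y ∘ x)^[n] w) = (x ∘ y)^[n] (x w) := by
    intro n
    induction n with
    | zero => exact fun w => rfl
    | succ n ih =>
      intro w
      rw [iterate_succ_apply' (y ∘ x), iterate_succ_apply' (x ∘ y), ← ih]; simp [hx _]
  rw [← period_x hx hy v]
  refine Nat.dvd_antisymm (IsPeriodicPt.minimalPeriod_dvd ?_) (IsPeriodicPt.minimalPeriod_dvd ?_)
  · have := key (minimalPeriod (y ∘ x) (x v)) (x v)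
    rw [iterate_minimalPeriod, hx v] at this
    exact this.symm
  · have := key (minimalPeriod (x ∘ y) v) (x v)
    rw [hx v, iterate_minimalPeriod] at this
    exact hx.injective (by rw [this, hx v])

/-- The points of the cycle of `y ∘ x` through `v`. -/
noncomputable def orb (x y : α → α) (v : α) : Finset α :=
  (Finset.range (minimalPeriod (y ∘ x) v)).image fun i => (y ∘ x)^[i] v

theorem mem_orb (hx : Involutive x) (hy : Involutive y) {v w : α} :
    w ∈ orb x y v ↔ ∃ i, (y ∘ x)^[i] v = w := by
  refine ⟨fun h => ?_, fun ⟨i, hi⟩ => ?_⟩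
  · obtain ⟨i, -, hi⟩ := Finset.mem_image.1 h; exact ⟨i, hi⟩
  · refine Finset.mem_image.2 ⟨i % minimalPeriod (y ∘ x) v, Finset.mem_range.2 (Nat.mod_lt _
      (minimalPeriod_pos' (yx_injective hx hy) v)), ?_⟩
    rw [iterate_mod_minimalPeriod_eq, hi]

theorem orb_closed_f (hx : Involutive x) (hy : Involutive y) {v w : α} (h : w ∈ orb x y v) :
    y (x w) ∈ orb x y v := by
  obtain ⟨i, rfl⟩ := (mem_orb hx hy).1 h
  exact (mem_orb hx hy).2 ⟨i + 1, iterate_succ_apply' _ _ _⟩

theorem back_mem_orb (hx : Involutive x) (hy : Involutive y) {v w : α} {i : ℕ}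
    (h : (y ∘ x)^[i] w ∈ orb x y v) : w ∈ orb x y v := by
  obtain ⟨j, hj⟩ := (mem_orb hx hy).1 h
  have hM : 0 < minimalPeriod (y ∘ x) w := minimalPeriod_pos' (yx_injective hx hy) w
  refine (mem_orb hx hy).2 ⟨minimalPeriod (y ∘ x) w * i - i + j, ?_⟩
  rw [iterate_add_apply, hj, ← iterate_add_apply, Nat.sub_add_cancel (Nat.le_mul_of_pos_left i hM)]
  exact (isPeriodicPt_minimalPeriod _ w).mul_const i

/-- The image under `x` of the cycle through `v` is the cycle through `x v`. -/
theorem x_mem_orb (hx : Involutive x) (hy : Involutive y) {v w : α} (h : w ∈ orb x y v) :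
    x w ∈ orb x y (x v) := by
  obtain ⟨i, rfl⟩ := (mem_orb hx hy).1 h
  refine back_mem_orb hx hy (i := i) ?_
  rw [rev hx hy v i]
  exact (mem_orb hx hy).2 ⟨0, rfl⟩

theorem orb_eq_of_mem (hx : Involutive x) (hy : Involutive y) {v w : α} (h : w ∈ orb x y v) :
    orb x y w = orb x y v := by
  obtain ⟨i, rfl⟩ := (mem_orb hx hy).1 h
  ext u
  constructor
  · intro hu
    obtain ⟨j, rfl⟩ := (mem_orb hx hy).1 hu
    rw [← iterate_add_apply]; exact (mem_orb hx hy).2 ⟨_, rfl⟩
  · intro hu
    obtain ⟨j, rfl⟩ := (mem_orb hx hy).1 hu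
    have hv : v ∈ orb x y ((y ∘ x)^[i] v) :=
      back_mem_orb hx hy (i := i) ((mem_orb hx hy).2 ⟨0, rfl⟩)
    obtain ⟨k, hk⟩ := (mem_orb hx hy).1 hv
    refine (mem_orb hx hy).2 ⟨j + k, ?_⟩
    rw [iterate_add_apply, hk]

/-- Distinct exponents below the period give distinct points. -/
theorem iterate_ne (v : α) {i j : ℕ} (hi : i < minimalPeriod (y ∘ x) v)
    (hj : j < minimalPeriod (y ∘ x) v) (h : i ≠ j) : (y ∘ x)^[i] v ≠ (y ∘ x)^[j] v :=
  fun e => h ((iterate_eq_iterate_iff_of_lt_minimalPeriod hi hj).1 e)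

/-- Counting: even cycles through fixed points of `x` and of `y` occur together. -/
theorem exists_y_end (hx : Involutive x) (hy : Involutive y) {S : Finset α}
    (hxS : ∀ v ∈ S, x v ∈ S) (hyS : ∀ v ∈ S, y v ∈ S)
    (hc : (S.filter fun v => y v = v).card = (S.filter fun v => x v = v).card)
    {p : α} (hp : p ∈ S) (hxp : x p = p) (hpe : Even (minimalPeriod (y ∘ x) p)) :
    ∃ q ∈ S, y q = q ∧ Even (minimalPeriod (y ∘ x) q) := by
  by_contra hne
  push Not at hne
  have hodd : ∀ q ∈ S.filter fun v => y v = v, Odd (minimalPeriod (y ∘ x) q) := fun q hq =>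
    Nat.not_even_iff_odd.1 fun h => hne q (Finset.mem_filter.1 hq).1 (Finset.mem_filter.1 hq).2 h
  let φ : α → α := fun q => (y ∘ x)^[(minimalPeriod (y ∘ x) q - 1) / 2] q
  have hsub : ∀ q ∈ S.filter fun v => y v = v, φ q ∈ (S.filter fun v => x v = v).erase p := by
    intro q hq
    obtain ⟨m, hm⟩ := hodd q hq
    obtain ⟨hqS, hqy⟩ := Finset.mem_filter.1 hq
    have hφ : φ q = (y ∘ x)^[m] q := by simp only [φ, hm]; congr 1; omega
    refine Finset.mem_erase.2 ⟨fun e => ?_, Finset.mem_filter.2 ⟨?_, ?_⟩⟩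
    · rw [hφ] at e
      rw [← e, period_iterate hx hy, hm] at hpe
      exact absurd hpe (by simp [Nat.even_add_one])
    · rw [hφ]
      have hS : Set.MapsTo (y ∘ x) (S : Set α) S := fun t ht => hyS _ (hxS _ ht)
      exact hS.iterate m hqS
    · rw [hφ]
      have h1 : x q = (y ∘ x)^[2 * m] q := by
        apply yx_injective hx hy
        rw [← iterate_succ_apply' (y ∘ x)]
        show y (x (x q)) = _
        rw [hx q, hqy, show (2 * m).succ = minimalPeriod (y ∘ x) q by omega, iterate_minimalPeriod]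
      have h2 := rev hx hy q m
      rw [h1, two_mul, iterate_add_apply] at h2
      exact (yx_injective hx hy).iterate m h2
  have hle : (S.filter fun v => y v = v).card ≤ ((S.filter fun v => x v = v).erase p).card := by
    refine Finset.card_le_card_of_injOn φ hsub ?_
    intro q hq q' hq' e
    have e' : minimalPeriod (y ∘ x) q = minimalPeriod (y ∘ x) q' := by
      rw [← period_iterate hx hy q ((minimalPeriod (y ∘ x) q - 1) / 2),
        ← period_iterate hx hy q' ((minimalPeriod (y ∘ x) q' - 1) / 2)]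
      exact congrArg (minimalPeriod (y ∘ x)) e
    simp only [φ, e'] at e
    exact (yx_injective hx hy).iterate _ e
  have hmem : p ∈ S.filter fun v => x v = v := Finset.mem_filter.2 ⟨hp, hxp⟩
  rw [Finset.card_erase_of_mem hmem, hc] at hle
  have := Finset.card_pos.2 ⟨p, hmem⟩
  omega

theorem exists_x_end (hx : Involutive x) (hy : Involutive y) {S : Finset α}
    (hxS : ∀ v ∈ S, x v ∈ S) (hyS : ∀ v ∈ S, y v ∈ S)
    (hc : (S.filter fun v => y v = v).card = (S.filter fun v => x v = v).card)
    {q : α} (hq : q ∈ S) (hyq : y q = q) (hqe : Even (minimalPeriod (y ∘ x) q)) :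
    ∃ p ∈ S, x p = p ∧ Even (minimalPeriod (y ∘ x) p) := by
  obtain ⟨p, h1, h2, h3⟩ := exists_y_end hy hx hyS hxS hc.symm hq hyq
    (by rwa [period_swap hx hy])
  exact ⟨p, h1, h2, by rwa [period_swap hx hy] at h3⟩

theorem iterate_eq_iff_mod (hx : Involutive x) (hy : Involutive y) (v : α) (m n : ℕ) :
    (y ∘ x)^[m] v = (y ∘ x)^[n] v ↔
      m % minimalPeriod (y ∘ x) v = n % minimalPeriod (y ∘ x) v := by
  have h0 := minimalPeriod_pos' (yx_injective hx hy) v
  rw [← iterate_mod_minimalPeriod_eq (n := m), ← iterate_mod_minimalPeriod_eq (n := n),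
    iterate_eq_iterate_iff_of_lt_minimalPeriod (Nat.mod_lt _ h0) (Nat.mod_lt _ h0)]

theorem x_fix_iff (hx : Involutive x) (hy : Involutive y) {v : α} {c : ℕ}
    (hc : x v = (y ∘ x)^[c] v) (i : ℕ) :
    x ((y ∘ x)^[i] v) = (y ∘ x)^[i] v ↔ (y ∘ x)^[i + i] v = (y ∘ x)^[c] v := by
  have h1 := rev hx hy v i
  rw [hc] at h1
  constructor
  · intro h
    rwa [h, ← iterate_add_apply] at h1
  · intro h
    refine (yx_injective hx hy).iterate i ?_
    rw [h1, ← h, ← iterate_add_apply]

theorem y_fix_iff (hx : Involutive x) (hy : Involutive y) {v : α} {c : ℕ}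
    (hc : x v = (y ∘ x)^[c] v) (i : ℕ) :
    y ((y ∘ x)^[i] v) = (y ∘ x)^[i] v ↔ (y ∘ x)^[i + i] v = (y ∘ x)^[c + 1] v := by
  have hw : ∀ w, y w = (y ∘ x) (x w) := fun w => by simp [hx w]
  have h1 := rev hx hy v i
  rw [hc] at h1
  have h2 : (y ∘ x)^[i] ((y ∘ x) (x ((y ∘ x)^[i] v))) = (y ∘ x)^[c + 1] v := by
    rw [← iterate_succ_apply (y ∘ x), iterate_succ_apply', h1, iterate_succ_apply']
  constructor
  · intro h
    rw [hw] at h
    rwa [h, ← iterate_add_apply] at h2
  · intro h
    refine (yx_injective hx hy).iterate i ?_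
    rw [hw, h2, ← h, ← iterate_add_apply]

/-- A path ending in two `y`-edges joined with one ending in two `x`-edges. -/
theorem pair_step (hx : Involutive x) (hy : Involutive y) {p q : α} (hxp : x p = p)
    (hpe : Even (minimalPeriod (y ∘ x) p)) (hyq : y q = q)
    (hqe : Even (minimalPeriod (y ∘ x) q)) :
    let U := orb x y p ∪ orb x y q
    (∀ v ∈ U, x v ∈ U) ∧ (∀ v ∈ U, y v ∈ U) ∧ p ∈ U ∧
      (U.filter fun v => y v = v).card = (U.filter fun v => x v = v).card ∧ Good x y U := by
  intro U
  set f := y ∘ x with hf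
  set A := minimalPeriod f p with hA
  set B := minimalPeriod f q with hB
  have hfi : Injective f := yx_injective hx hy
  have hA0 : 0 < A := minimalPeriod_pos' hfi p
  have hB0 : 0 < B := minimalPeriod_pos' hfi q
  have hxq : x q = f^[B - 1] q := by
    apply hfi
    rw [← iterate_succ_apply' f, show (B - 1).succ = B by omega, iterate_minimalPeriod]
    show y (x (x q)) = q
    rw [hx q, hyq]
  have hxqO : x q ∈ orb x y q := (mem_orb hx hy).2 ⟨_, hxq.symm⟩
  have hpU : p ∈ U := Finset.mem_union_left _ ((mem_orb hx hy).2 ⟨0, rfl⟩)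
  have hxU : ∀ v ∈ U, x v ∈ U := by
    intro v hv
    rcases Finset.mem_union.1 hv with hv | hv
    · exact Finset.mem_union_left _ (by have := x_mem_orb hx hy hv; rwa [hxp] at this)
    · exact Finset.mem_union_right _ (orb_eq_of_mem hx hy hxqO ▸ x_mem_orb hx hy hv)
  have hfU : ∀ v ∈ U, f v ∈ U := fun v hv => by
    rcases Finset.mem_union.1 hv with hv | hv
    · exact Finset.mem_union_left _ (orb_closed_f hx hy hv)
    · exact Finset.mem_union_right _ (orb_closed_f hx hy hv)
  have hyU : ∀ v ∈ U, y v ∈ U := fun v hv => by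
    have h : y (x (x v)) ∈ U := hfU _ (hxU v hv)
    rwa [hx v] at h
  -- the two cycles are different
  have hpq : p ∉ orb x y q := by
    intro h
    obtain ⟨i, hi⟩ := (mem_orb hx hy).1 h
    have h1 := rev hx hy q i
    rw [← hf, hi, hxp, ← hi, ← iterate_add_apply] at h1
    have h2 : IsPeriodicPt f (i + i + 1) q := by
      show f^[i + i + 1] q = q
      rw [iterate_succ_apply', h1]
      show y (x (x q)) = q
      rw [hx q, hyq]
    have h3 := h2.minimalPeriod_dvd
    obtain ⟨k, hk⟩ := hqe
    have h4 : 2 ∣ i + i + 1 := Dvd.dvd.trans ⟨k, by omega⟩ h3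
    omega
  have hpne : ∀ i, f^[i] q ≠ p := fun i h => hpq ((mem_orb hx hy).2 ⟨i, h⟩)
  have hqne : ∀ i, f^[i] p ≠ q := fun i h => by
    have : p ∈ orb x y q := back_mem_orb hx hy (i := i) (h ▸ (mem_orb hx hy).2 ⟨0, rfl⟩)
    exact hpq this
  have hq0 : q ≠ p := hpne 0
  have hxq0 : x q ≠ p := hxq ▸ hpne _
  have hxqq : x q ≠ q := by
    intro h
    have : IsPeriodicPt f 1 q := by
      show y (x q) = q
      rw [h, hyq]
    have h1 : B = 1 := Nat.dvd_one.1 this.minimalPeriod_dvd
    rw [h1] at hqe
    exact absurd hqe (by decide)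
  let u : α → α := fun v => if v = q then q else if v = x q then p else if v = p then x q else x v
  have uq : u q = q := if_pos rfl
  have uxq : u (x q) = p := by simp [u, hxqq]
  have up : u p = x q := by simp [u, hq0.symm, hxq0.symm]
  have uo : ∀ v, v ≠ q → v ≠ x q → v ≠ p → u v = x v := fun v h1 h2 h3 => by simp [u, h1, h2, h3]
  refine ⟨hxU, hyU, hpU, ?_, ?_⟩
  · -- fixed points
    obtain ⟨a, ha⟩ := hpe
    obtain ⟨b, hb⟩ := hqe
    have hcp : x p = f^[0] p := hxp
    have hnd : Disjoint (orb x y p) (orb x y q) := by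
      rw [Finset.disjoint_left]
      intro r hr hr'
      obtain ⟨i, rfl⟩ := (mem_orb hx hy).1 hr
      exact hpq (back_mem_orb hx hy hr')
    have key : ∀ (g : α → α) (v : α) (T : Finset ℕ), (∀ i ∈ T, i < minimalPeriod f v) →
        (∀ i, i < minimalPeriod f v → (g (f^[i] v) = f^[i] v ↔ i ∈ T)) →
        ((orb x y v).filter fun r => g r = r).card = T.card := by
      intro g v T hT hg
      have : ((orb x y v).filter fun r => g r = r) = T.image fun i => f^[i] v := by
        ext r
        simp only [Finset.mem_filter, Finset.mem_image, orb, Finset.mem_range]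
        constructor
        · rintro ⟨⟨i, hi, rfl⟩, hgi⟩; exact ⟨i, (hg i hi).1 hgi, rfl⟩
        · rintro ⟨i, hi, rfl⟩; exact ⟨⟨i, hT i hi, rfl⟩, (hg i (hT i hi)).2 hi⟩
      rw [this, Finset.card_image_of_injOn]
      intro i hi j hj e
      exact (iterate_eq_iterate_iff_of_lt_minimalPeriod (hT i hi) (hT j hj)).1 e
    have hmod : ∀ L i : ℕ, i < L → (i + i) % L = if i + i < L then i + i else i + i - L := by
      intro L i hi
      split_ifs with h
      · exact Nat.mod_eq_of_lt h
      · rw [Nat.mod_eq_sub_mod (by omega), Nat.mod_eq_of_lt (by omega)]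
    rw [Finset.filter_union, Finset.filter_union,
      Finset.card_union_of_disjoint (Finset.disjoint_filter_filter hnd),
      Finset.card_union_of_disjoint (Finset.disjoint_filter_filter hnd),
      key y p ∅ (by simp) ?_, key y q {0, b} ?_ ?_, key x p {0, a} ?_ ?_, key x q ∅ (by simp) ?_]
    · rw [Finset.card_empty, Nat.zero_add, Nat.add_zero, Finset.card_pair (by omega),
        Finset.card_pair (by omega)]
    all_goals intro i hi
    all_goals first
      | (simp only [Finset.mem_insert, Finset.mem_singleton] at hi; omega)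
      | (rw [y_fix_iff hx hy hcp, iterate_eq_iff_mod hx hy, ← hf, hmod _ _ hi,
            Nat.mod_eq_of_lt (show 0 + 1 < minimalPeriod f p by omega)]
         simp only [Finset.notMem_empty, iff_false]
         split_ifs <;> omega)
      | (rw [y_fix_iff hx hy hxq, iterate_eq_iff_mod hx hy, ← hf, hmod _ _ hi,
            show B - 1 + 1 = minimalPeriod f q by omega, Nat.mod_self]
         simp only [Finset.mem_insert, Finset.mem_singleton]
         split_ifs <;> omega)
      | (rw [x_fix_iff hx hy hcp, iterate_eq_iff_mod hx hy, ← hf, hmod _ _ hi, Nat.zero_mod]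
         simp only [Finset.mem_insert, Finset.mem_singleton]
         split_ifs <;> omega)
      | (rw [x_fix_iff hx hy hxq, iterate_eq_iff_mod hx hy, ← hf, hmod _ _ hi,
            Nat.mod_eq_of_lt (show B - 1 < minimalPeriod f q by omega)]
         simp only [Finset.notMem_empty, iff_false]
         split_ifs <;> omega)
  · -- the common partner
    have hout : ∀ v, v ∉ U → v ≠ q ∧ v ≠ x q ∧ v ≠ p := fun v hv =>
      ⟨fun e => hv (e ▸ Finset.mem_union_right _ ((mem_orb hx hy).2 ⟨0, rfl⟩)),
        fun e => hv (e ▸ Finset.mem_union_right _ hxqO), fun e => hv (e ▸ hpU)⟩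
    let z : α → α := fun v => if v ∈ U then u v else v
    have zU : ∀ v ∈ U, z v = u v := fun v hv => if_pos hv
    have zo : ∀ v, v ∉ U → z v = v := fun v hv => if_neg hv
    have hqU : q ∈ U := Finset.mem_union_right _ ((mem_orb hx hy).2 ⟨0, rfl⟩)
    have hxqU : x q ∈ U := hxU q hqU
    have huU : ∀ v ∈ U, u v ∈ U ∧ u (u v) = v := by
      intro v hv
      by_cases h1 : v = q; · subst h1; rw [uq, uq]; exact ⟨hqU, rfl⟩
      by_cases h2 : v = x q; · subst h2; rw [uxq, up]; exact ⟨hpU, rfl⟩
      by_cases h3 : v = p; · subst h3; rw [up, uxq]; exact ⟨hxqU, rfl⟩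
      rw [uo v h1 h2 h3, uo (x v) (fun e => h2 (by rw [← hx v, e]))
        (fun e => h1 (hx.injective e)) (fun e => h3 (by rw [← hx v, e, hxp])), hx v]
      exact ⟨hxU v hv, rfl⟩
    refine ⟨z, ?_, zo, ?_, ?_, ?_⟩
    · intro v
      by_cases hv : v ∈ U
      · rw [zU v hv, zU _ (huU v hv).1, (huU v hv).2]
      · rw [zo v hv, zo v hv]
    · -- exchanging the fixed points `p` and `q`
      have : (U.filter fun v => z v = v) = insert q ((U.filter fun v => x v = v).erase p) := by
        ext v
        simp only [Finset.mem_filter, Finset.mem_insert, Finset.mem_erase]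
        constructor
        · rintro ⟨hv, hzv⟩
          rw [zU v hv] at hzv
          by_cases h1 : v = q; · exact Or.inl h1
          by_cases h2 : v = x q; · subst h2; rw [uxq] at hzv; exact absurd hzv.symm hxq0
          by_cases h3 : v = p; · subst h3; rw [up] at hzv; exact absurd hzv hxq0
          exact Or.inr ⟨h3, hv, by rwa [uo v h1 h2 h3] at hzv⟩
        · rintro (rfl | ⟨h3, hv, hxv⟩)
          · exact ⟨hqU, (zU _ hqU).trans uq⟩
          · refine ⟨hv, ?_⟩
            rw [zU v hv, uo v (fun e => hxqq (by rw [← e, hxv]))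
              (fun e => hxqq (by rw [e, hx q] at hxv; exact hxv.symm)) h3, hxv]
      have hem : p ∈ U.filter fun v => x v = v := Finset.mem_filter.2 ⟨hpU, hxp⟩
      rw [this, Finset.card_insert_of_notMem, Finset.card_erase_of_mem hem]
      · have := Finset.card_pos.2 ⟨p, hem⟩; omega
      · simp only [Finset.mem_erase, Finset.mem_filter, not_and]
        exact fun _ _ => hxqq
    · intro v hv
      by_cases h1 : v = q ∨ v = x q ∨ v = p
      · refine ⟨3, by decide, ?_⟩
        rcases h1 with rfl | rfl | rfl <;>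
          simp [iterate_succ_apply', zU _ hqU, zU _ hxqU, zU _ hpU, uq, uxq, up, hxp, hx _]
      · push Not at h1
        refine ⟨1, odd_one, ?_⟩
        simp [zU v hv, uo v h1.1 h1.2.1 h1.2.2, hx v]
    · set g := y ∘ z with hg
      have gq : g q = q := by simp [hg, zU _ hqU, uq, hyq]
      have gxq : g (x q) = f p := by simp [hg, hf, zU _ hxqU, uxq, hxp]
      have gp : g p = f q := by simp [hg, hf, zU _ hpU, up]
      have go : ∀ v ∈ U, v ≠ q → v ≠ x q → v ≠ p → g v = f v := fun v hv h1 h2 h3 => by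
        simp [hg, hf, zU v hv, uo v h1 h2 h3]
      have hfn : ∀ v ∈ U, ∀ n, f^[n] v ∈ U := fun v hv n =>
        (show Set.MapsTo f (U : Set α) U from fun t ht => hfU t ht).iterate n hv
      have c1 := chain (f := f) (g := g) (u₀ := x q) (u := p) (M := A) gxq fun j hj hjA => by
        rw [iterate_succ_apply' f]
        refine go _ (hfn p hpU j) (hqne j) ?_ ?_
        · intro e
          obtain ⟨i, hi⟩ := (mem_orb hx hy).1 hxqO
          refine hpq (back_mem_orb hx hy (i := j) ?_)
          rw [← hf, e]; exact hxqO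
        · exact iterate_ne (x := x) (y := y) p hjA hA0 (by omega)
      have c2 := chain (f := f) (g := g) (u₀ := p) (u := q) (M := B - 1) gp fun j hj hjB => by
        rw [iterate_succ_apply' f]
        refine go _ (hfn q hqU j) (iterate_ne (x := x) (y := y) q (i := j) (j := 0)
          (show j < B by omega) hB0 (by omega)) ?_ (hpne j)
        rw [hxq]
        exact iterate_ne (x := x) (y := y) q (show j < B by omega) (show B - 1 < B by omega) (by omega)
      have hAp : g^[A] (x q) = p := by rw [c1 A (by omega) le_rfl, iterate_minimalPeriod]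
      have hB2 : 2 ≤ B := by
        obtain ⟨k, hk⟩ := hqe; omega
      have hBq : g^[B - 1] p = x q := by rw [c2 (B - 1) (by omega) le_rfl, hxq]
      have hper : g^[A + (B - 1)] p = p := by rw [iterate_add_apply, hBq, hAp]
      have hodd : Odd (A + (B - 1)) := by
        obtain ⟨k, hk⟩ := hpe
        obtain ⟨l, hl⟩ := hqe
        exact ⟨k + l - 1, by omega⟩
      intro v hv
      rcases Finset.mem_union.1 hv with hv | hv
      · obtain ⟨i, hi, rfl⟩ := Finset.mem_image.1 hv
        rw [Finset.mem_range] at hi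
        rcases Nat.eq_zero_or_pos i with rfl | h0
        · exact ⟨_, hodd, hper⟩
        · rw [← hf, ← c1 i (by omega) (le_of_lt hi), ← hBq, ← iterate_add_apply]
          exact odd_cycle hodd hper _
      · obtain ⟨i, hi, rfl⟩ := Finset.mem_image.1 hv
        rw [Finset.mem_range] at hi
        rcases Nat.eq_zero_or_pos i with rfl | h0
        · exact ⟨1, odd_one, gq⟩
        · rw [← hf, ← c2 i (by omega) (Nat.le_sub_one_of_lt hi)]
          exact odd_cycle hodd hper _

/-- A cycle of `x` and `y` of even half-length at least three. -/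
theorem cycle_step (hx : Involutive x) (hy : Involutive y) {a : α}
    (hL : Even (minimalPeriod (y ∘ x) a)) (hL2 : minimalPeriod (y ∘ x) a ≠ 2)
    (hfree : x a ∉ orb x y a) :
    let U := orb x y a ∪ orb x y (x a)
    (∀ v ∈ U, x v ∈ U) ∧ (∀ v ∈ U, y v ∈ U) ∧ a ∈ U ∧
      (U.filter fun v => y v = v).card = (U.filter fun v => x v = v).card ∧ Good x y U := by
  intro U
  set f := y ∘ x with hf
  set L := minimalPeriod f a with hLdef
  have hfi : Injective f := yx_injective hx hy
  have hL0 : 0 < L := minimalPeriod_pos' hfi a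
  have hL3 : 4 ≤ L := by obtain ⟨k, hk⟩ := hL; omega
  have haU : a ∈ U := Finset.mem_union_left _ ((mem_orb hx hy).2 ⟨0, rfl⟩)
  have hxU : ∀ v ∈ U, x v ∈ U := by
    intro v hv
    rcases Finset.mem_union.1 hv with hv | hv
    · exact Finset.mem_union_right _ (x_mem_orb hx hy hv)
    · exact Finset.mem_union_left _ (by have := x_mem_orb hx hy hv; rwa [hx a] at this)
  have hfU : ∀ v ∈ U, f v ∈ U := fun v hv => by
    rcases Finset.mem_union.1 hv with hv | hv
    · exact Finset.mem_union_left _ (orb_closed_f hx hy hv)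
    · exact Finset.mem_union_right _ (orb_closed_f hx hy hv)
  have hyU : ∀ v ∈ U, y v ∈ U := fun v hv => by
    have h : y (x (x v)) ∈ U := hfU _ (hxU v hv)
    rwa [hx v] at h
  -- `x` interchanges the two cycles
  have hsep : ∀ r ∈ orb x y a, r ∉ orb x y (x a) := fun r hr hr' => by
    refine hfree ?_
    rw [← orb_eq_of_mem hx hy hr, orb_eq_of_mem hx hy hr']
    exact (mem_orb hx hy).2 ⟨0, rfl⟩
  have hnox : ∀ v ∈ U, x v ≠ v := fun v hv e => by
    rcases Finset.mem_union.1 hv with hv | hv <;> have h := x_mem_orb hx hy hv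
    · rw [e] at h; exact hsep v hv h
    · rw [hx a, e] at h; exact hsep v h hv
  have hnoy : ∀ v ∈ U, y v ≠ v := fun v hv e => by
    have h1 : f (x v) = v := by simp [hf, hx v, e]
    rcases Finset.mem_union.1 hv with hv | hv <;> have h := orb_closed_f hx hy (x_mem_orb hx hy hv)
    · exact hsep v hv (by rwa [← show y (x (x v)) = v from h1])
    · rw [hx a] at h
      exact hsep v (by rwa [← show y (x (x v)) = v from h1]) hv
  -- the six points
  set a' := f a with ha'
  set a'' := f a' with ha''
  set b := x a'' with hb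
  set b' := x a' with hb'
  set b'' := x a with hb''
  have hfx : ∀ v, f (x (f v)) = x v := fun v => rev hx hy v 1
  have fb : f b = b' := hfx a'
  have fb' : f b' = b'' := hfx a
  have hOa : a ∈ orb x y a := (mem_orb hx hy).2 ⟨0, rfl⟩
  have hOa' : a' ∈ orb x y a := orb_closed_f hx hy hOa
  have hOa'' : a'' ∈ orb x y a := orb_closed_f hx hy hOa'
  have hOb : b ∈ orb x y (x a) := x_mem_orb hx hy hOa''
  have hOb' : b' ∈ orb x y (x a) := x_mem_orb hx hy hOa'
  have hOb'' : b'' ∈ orb x y (x a) := x_mem_orb hx hy hOa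
  have i01 : a ≠ a' := iterate_ne (x := x) (y := y) a (i := 0) (j := 1) (show 0 < L by omega) (show 1 < L by omega) (by omega)
  have i02 : a ≠ a'' := iterate_ne (x := x) (y := y) a (i := 0) (j := 2) (show 0 < L by omega) (show 2 < L by omega) (by omega)
  have i12 : a' ≠ a'' := iterate_ne (x := x) (y := y) a (i := 1) (j := 2) (show 1 < L by omega) (show 2 < L by omega) (by omega)
  have j01 : b'' ≠ b' := fun e => i01 (hx.injective e)
  have j02 : b'' ≠ b := fun e => i02 (hx.injective e)
  have j12 : b' ≠ b := fun e => i12 (hx.injective e)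
  have ne : ∀ {r t : α}, r ∈ orb x y a → t ∈ orb x y (x a) → r ≠ t :=
    fun hr ht e => hsep _ hr (e ▸ ht)
  let u : α → α := fun v => if v = a then a'' else if v = a'' then a else if v = b then b'
    else if v = b' then b else if v = a' then b'' else if v = b'' then a' else x v
  have ua : u a = a'' := if_pos rfl
  have ua'' : u a'' = a := by simp [u, i02.symm]
  have ub : u b = b' := by simp [u, (ne hOa hOb).symm, (ne hOa'' hOb).symm]
  have ub' : u b' = b := by simp [u, (ne hOa hOb').symm, (ne hOa'' hOb').symm, j12]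
  have ua' : u a' = b'' := by simp [u, i01.symm, i12, ne hOa' hOb, ne hOa' hOb']
  have ub'' : u b'' = a' := by
    simp [u, (ne hOa hOb'').symm, (ne hOa'' hOb'').symm, j02, j01, (ne hOa' hOb'').symm]
  have uo : ∀ v, v ≠ a → v ≠ a'' → v ≠ b → v ≠ b' → v ≠ a' → v ≠ b'' → u v = x v :=
    fun v h1 h2 h3 h4 h5 h6 => by simp [u, h1, h2, h3, h4, h5, h6]
  let z : α → α := fun v => if v ∈ U then u v else v
  have zU : ∀ v ∈ U, z v = u v := fun v hv => if_pos hv
  have zo : ∀ v, v ∉ U → z v = v := fun v hv => if_neg hv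
  have mA : ∀ {r}, r ∈ orb x y a → r ∈ U := fun h => Finset.mem_union_left _ h
  have mB : ∀ {r}, r ∈ orb x y (x a) → r ∈ U := fun h => Finset.mem_union_right _ h
  have za : z a = a'' := (zU _ haU).trans ua
  have za' : z a' = b'' := (zU _ (mA hOa')).trans ua'
  have za'' : z a'' = a := (zU _ (mA hOa'')).trans ua''
  have zb : z b = b' := (zU _ (mB hOb)).trans ub
  have zb' : z b' = b := (zU _ (mB hOb')).trans ub'
  have zb'' : z b'' = a' := (zU _ (mB hOb'')).trans ub''
  refine ⟨hxU, hyU, haU, ?_, z, ?_, zo, ?_, ?_, ?_⟩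
  · rw [Finset.filter_eq_empty_iff.2 hnox, Finset.filter_eq_empty_iff.2 hnoy]
  · intro v
    by_cases hv : v ∈ U
    swap; · rw [zo v hv, zo v hv]
    by_cases h1 : v = a; · rw [h1, za, za'']
    by_cases h2 : v = a''; · rw [h2, za'', za]
    by_cases h3 : v = b; · rw [h3, zb, zb']
    by_cases h4 : v = b'; · rw [h4, zb', zb]
    by_cases h5 : v = a'; · rw [h5, za', zb'']
    by_cases h6 : v = b''; · rw [h6, zb'', za']
    rw [zU v hv, uo v h1 h2 h3 h4 h5 h6, zU _ (hxU v hv),
      uo (x v) (fun e => h6 (by rw [← hx v, e])) (fun e => h3 (by rw [← hx v, e]))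
        (fun e => h2 (hx.injective e)) (fun e => h5 (hx.injective e))
        (fun e => h4 (by rw [← hx v, e])) (fun e => h1 (hx.injective e)), hx v]
  · congr 1
    refine Finset.filter_congr fun v hv => ?_
    refine iff_of_false ?_ (hnox v hv)
    by_cases h1 : v = a; · rw [h1, za]; exact i02.symm
    by_cases h2 : v = a''; · rw [h2, za'']; exact i02
    by_cases h3 : v = b; · rw [h3, zb]; exact j12
    by_cases h4 : v = b'; · rw [h4, zb']; exact j12.symm
    by_cases h5 : v = a'; · rw [h5, za']; exact (ne hOa' hOb'').symm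
    by_cases h6 : v = b''; · rw [h6, zb'']; exact ne hOa' hOb''
    rw [zU v hv, uo v h1 h2 h3 h4 h5 h6]
    exact hnox v hv
  · intro v hv
    have x1 : x b = a'' := hx a''
    have x2 : x b' = a' := hx a'
    have x3 : x b'' = a := hx a
    by_cases h1 : v = a ∨ v = a'' ∨ v = b ∨ v = b' ∨ v = a' ∨ v = b''
    · refine ⟨3, by decide, ?_⟩
      rcases h1 with rfl | rfl | rfl | rfl | rfl | rfl <;>
        simp [iterate_succ_apply', za, za', za'', zb, zb', zb'', x1, x2, x3, ← hb, ← hb', ← hb'']
    · push Not at h1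
      obtain ⟨h1, h2, h3, h4, h5, h6⟩ := h1
      refine ⟨1, odd_one, ?_⟩
      simp [zU v hv, uo v h1 h2 h3 h4 h5 h6, hx v]
  · set g := y ∘ z with hg
    have hy' : ∀ v, y v = f (x v) := fun v => by simp [hf, hx v]
    have ga : g a = b' := by
      show y (z a) = b'
      rw [za, hy', ← hb, fb]
    have ga' : g a' = a' := by
      show y (z a') = a'
      rw [za', hy', hb'', hx a]
    have ga'' : g a'' = f (f (f b)) := by
      show y (z a'') = _
      rw [za'', hy', ← hb'', fb, fb']
    have gb : g b = a'' := by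
      show y (z b) = a''
      rw [zb, hy', hb', hx a']
    have gb' : g b' = f a'' := by
      show y (z b') = f a''
      rw [zb', hy', hb, hx a'']
    have gb'' : g b'' = b'' := by
      show y (z b'') = b''
      rw [zb'', hy', ← hb', fb']
    have go : ∀ v ∈ U, v ≠ a → v ≠ a'' → v ≠ b → v ≠ b' → v ≠ a' → v ≠ b'' → g v = f v := by
      intro v hv h1 h2 h3 h4 h5 h6
      show y (z v) = y (x v)
      rw [zU v hv, uo v h1 h2 h3 h4 h5 h6]
    have hodd : Odd (L - 1) := by obtain ⟨k, hk⟩ := hL; exact ⟨k - 1, by omega⟩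
    -- the cycle through `a`
    have c1 := chain (f := f) (g := g) (u₀ := b') (u := a'') (M := L - 2) gb' fun j hj hjL => by
      rw [iterate_succ_apply' f]
      have hmem : f^[j] a'' ∈ orb x y a := (mem_orb hx hy).2 ⟨j + 2, iterate_add_apply f j 2 a⟩
      have e2 : f^[j + 2] a = f^[j] a'' := iterate_add_apply f j 2 a
      refine go _ (mA hmem) ?_ ?_ (ne hmem hOb) (ne hmem hOb') ?_ (ne hmem hOb'')
      · rw [← e2]; exact iterate_ne (x := x) (y := y) a (j := 0) (show j + 2 < L by omega) (show 0 < L by omega) (by omega)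
      · rw [← e2]; exact iterate_ne (x := x) (y := y) a (j := 2) (show j + 2 < L by omega) (show 2 < L by omega) (by omega)
      · rw [← e2]; exact iterate_ne (x := x) (y := y) a (j := 1) (show j + 2 < L by omega) (show 1 < L by omega) (by omega)
    have hpa : g^[L - 1] a = a := by
      rw [show L - 1 = (L - 2) + 1 by omega, iterate_succ_apply, ga, c1 _ (by omega) le_rfl,
        show a'' = f^[2] a from rfl, ← iterate_add_apply, show L - 2 + 2 = L by omega,
        iterate_minimalPeriod]
    -- the cycle through `b`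
    have hbper : minimalPeriod f b = L := by
      rw [hb, period_x hx hy, show a'' = f^[2] a from rfl, period_iterate hx hy]
    have hbO : ∀ j, f^[j] b ∈ orb x y (x a) := fun j => by
      obtain ⟨i, hi⟩ := (mem_orb hx hy).1 hOb
      exact (mem_orb hx hy).2 ⟨j + i, by rw [iterate_add_apply, hi]⟩
    have eb'' : b'' = f^[2] b := by
      show b'' = f (f b)
      rw [fb, fb']
    have c2 := chain (f := f) (g := g) (u₀ := a'') (u := f^[2] b) (M := L - 2) ga'' fun j hj hjL => by
      refine Eq.trans ?_ (iterate_succ_apply' f j (f^[2] b)).symm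
      have e2 : f^[j + 2] b = f^[j] (f^[2] b) := iterate_add_apply f j 2 b
      have hmem : f^[j] (f^[2] b) ∈ orb x y (x a) := e2 ▸ hbO _
      refine go _ (mB hmem) (ne hOa hmem).symm (ne hOa'' hmem).symm ?_ ?_ (ne hOa' hmem).symm ?_
      · rw [← e2]; exact iterate_ne (x := x) (y := y) b (j := 0) (show j + 2 < _ by rw [hbper]; omega) (show 0 < _ by rw [hbper]; omega) (by omega)
      · rw [← e2, ← fb]; exact iterate_ne (x := x) (y := y) b (j := 1) (show j + 2 < _ by rw [hbper]; omega) (show 1 < _ by rw [hbper]; omega) (by omega)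
      · rw [← e2, eb'']; exact iterate_ne (x := x) (y := y) b (j := 2) (show j + 2 < _ by rw [hbper]; omega) (show 2 < _ by rw [hbper]; omega) (by omega)
    have hpb : g^[L - 1] b = b := by
      rw [show L - 1 = (L - 2) + 1 by omega, iterate_succ_apply, gb, c2 _ (by omega) le_rfl,
        ← iterate_add_apply, show L - 2 + 2 = minimalPeriod f b by rw [hbper]; omega,
        iterate_minimalPeriod]
    intro v hv
    rcases Finset.mem_union.1 hv with hv | hv
    · obtain ⟨i, hi, rfl⟩ := Finset.mem_image.1 hv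
      rw [Finset.mem_range] at hi
      match i with
      | 0 => exact ⟨_, hodd, hpa⟩
      | 1 => exact ⟨1, odd_one, ga'⟩
      | 2 =>
        have h := odd_cycle hodd hpb 1
        rw [iterate_one, gb] at h
        exact h
      | i + 3 =>
        have hiL : i + 3 < L := hi
        have e : g^[i + 2] a = f^[i + 3] a := by
          rw [iterate_succ_apply, ga, c1 (i + 1) (by omega) (by omega),
            show a'' = f^[2] a from rfl, ← iterate_add_apply]
        rw [← hf, ← e]
        exact odd_cycle hodd hpa _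
    · have hv' : v ∈ orb x y b := by rwa [orb_eq_of_mem hx hy hOb]
      obtain ⟨i, hi, rfl⟩ := Finset.mem_image.1 hv'
      rw [Finset.mem_range, ← hf, hbper] at hi
      match i with
      | 0 => exact ⟨_, hodd, hpb⟩
      | 1 =>
        refine ⟨_, hodd, ?_⟩
        show g^[L - 1] (f b) = f b
        rw [fb]
        obtain ⟨N, hN, h⟩ := odd_cycle hodd hpa 1
        rw [← ga]
        calc g^[L - 1] (g a) = g (g^[L - 1] a) := by rw [← iterate_succ_apply, iterate_succ_apply']
          _ = g a := by rw [hpa]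
      | 2 => exact ⟨1, odd_one, by show g (f^[2] b) = f^[2] b; rw [← eb'']; exact gb''⟩
      | i + 3 =>
        have e : g^[i + 2] b = f^[i + 3] b := by
          rw [iterate_succ_apply, gb, c2 (i + 1) (by omega) (by omega), ← iterate_add_apply]
        rw [← hf, ← e]
        exact odd_cycle hodd hpb _

/-- The four points of a cycle of half-length two. -/
theorem square_step (hx : Involutive x) (hy : Involutive y) {a : α}
    (hL2 : minimalPeriod (y ∘ x) a = 2) (hxa : x a ≠ a) (hya : y a ≠ a) :
    ∃ T : Finset α, a ∈ T ∧ (∀ v ∈ T, x v ∈ T) ∧ (∀ v ∈ T, y v ∈ T) ∧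
      (T.filter fun v => y v = v).card = (T.filter fun v => x v = v).card ∧ IsSquare x y T := by
  have h2 : y (x (y (x a))) = a := by
    have : (y ∘ x)^[2] a = a := hL2 ▸ iterate_minimalPeriod
    exact this
  have hd : x (y a) = y (x a) := by
    have h := congrArg y h2
    rw [hy] at h
    -- `x (y (x a)) = y a`
    rw [← h, hx]
  have had : a ≠ y (x a) := fun e => by
    have : IsPeriodicPt (y ∘ x) 1 a := e.symm
    have := this.minimalPeriod_dvd
    rw [hL2] at this
    exact absurd (Nat.le_of_dvd one_pos this) (by decide)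
  have hbc : x a ≠ y a := fun e => had (by rw [e, hy])
  have hbd : x a ≠ y (x a) := fun e => by
    have := congrArg x e
    rw [hx, ← hd, hx] at this
    exact hya this.symm
  have hcd : y a ≠ y (x a) := fun e => hxa (hy.injective e).symm
  refine ⟨{a, x a, y a, y (x a)}, by simp, ?_, ?_, ?_, a, x a, y a, y (x a), hxa.symm, hya.symm, had,
    hbc, hbd, hcd, rfl, rfl, hd, rfl, rfl⟩
  · intro v hv
    simp only [Finset.mem_insert, Finset.mem_singleton] at hv ⊢
    rcases hv with rfl | rfl | rfl | rfl
    · exact Or.inr (Or.inl rfl)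
    · exact Or.inl (hx a)
    · exact Or.inr (Or.inr (Or.inr hd))
    · exact Or.inr (Or.inr (Or.inl (by rw [← hd, hx])))
  · intro v hv
    simp only [Finset.mem_insert, Finset.mem_singleton] at hv ⊢
    rcases hv with rfl | rfl | rfl | rfl
    · exact Or.inr (Or.inr (Or.inl rfl))
    · exact Or.inr (Or.inr (Or.inr rfl))
    · exact Or.inl (hy a)
    · exact Or.inr (Or.inl (hy _))
  · congr 1
    refine Finset.filter_congr fun v hv => iff_of_false ?_ ?_
    all_goals simp only [Finset.mem_insert, Finset.mem_singleton] at hv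
    all_goals rcases hv with rfl | rfl | rfl | rfl
    · exact hya
    · exact hbd.symm
    · rw [hy a]; exact hya.symm
    · rw [hy]; exact hbd
    · exact hxa
    · rw [hx a]; exact hxa.symm
    · rw [hd]; exact hcd.symm
    · rw [← hd, hx, hd]; exact hcd

theorem IsSquare.card_eq {S : Finset α} (h : IsSquare x y S) : S.card = 4 := by
  obtain ⟨a, b, c, d, hab, hac, had, hbc, hbd, hcd, rfl, -⟩ := h
  rw [Finset.card_insert_of_notMem (by simp [hab, hac, had]),
    Finset.card_insert_of_notMem (by simp [hbc, hbd]), Finset.card_pair hcd]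

theorem good_or_square (hx : Involutive x) (hy : Involutive y) (S : Finset α)
    (hxS : ∀ v ∈ S, x v ∈ S) (hyS : ∀ v ∈ S, y v ∈ S)
    (hc : (S.filter fun v => y v = v).card = (S.filter fun v => x v = v).card) :
    Good x y S ∨ IsSquare x y S := by
  induction S using Finset.strongInduction with
  | _ S ih =>
  by_cases hodd : ∀ v ∈ S, Odd (minimalPeriod (y ∘ x) v)
  · left
    let z : α → α := fun v => if v ∈ S then x v else v
    have zS : ∀ v ∈ S, z v = x v := fun v hv => if_pos hv
    refine ⟨z, ?_, fun v hv => if_neg hv, ?_, ?_, ?_⟩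
    · intro v
      by_cases hv : v ∈ S
      · rw [zS v hv, zS _ (hxS v hv), hx v]
      · simp [z, hv]
    · congr 1; exact Finset.filter_congr fun v hv => by rw [zS v hv]
    · intro v hv
      exact ⟨1, odd_one, by simp [zS v hv, hx v]⟩
    · intro v hv
      refine ⟨_, hodd v hv, ?_⟩
      rw [iterate_congr_on (f := y ∘ x) (g := y ∘ z) (D := S) (fun t ht => hyS _ (hxS _ ht))
        (fun t ht => congrArg y (zS t ht)) hv]
      exact iterate_minimalPeriod
  push Not at hodd
  obtain ⟨v, hv, hev⟩ := hodd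
  rw [Nat.not_odd_iff_even] at hev
  -- a part `U` of `S` with an even cycle
  have hsub : ∀ w ∈ S, orb x y w ⊆ S := fun w hw r hr => by
    obtain ⟨i, rfl⟩ := (mem_orb hx hy).1 hr
    exact (show Set.MapsTo (y ∘ x) (S : Set α) S from fun t ht => hyS _ (hxS _ ht)).iterate i hw
  have key : ∃ U : Finset α, U ⊆ S ∧ U.Nonempty ∧ (∀ v ∈ U, x v ∈ U) ∧ (∀ v ∈ U, y v ∈ U) ∧
      (U.filter fun v => y v = v).card = (U.filter fun v => x v = v).card ∧
      (Good x y U ∨ IsSquare x y U) := by
    by_cases hend : ∃ w ∈ S, Even (minimalPeriod (y ∘ x) w) ∧ (x w = w ∨ y w = w)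
    · obtain ⟨w, hw, hwe, hwf⟩ := hend
      obtain ⟨p, hp, hxp, hpe⟩ : ∃ p ∈ S, x p = p ∧ Even (minimalPeriod (y ∘ x) p) := by
        rcases hwf with h | h
        · exact ⟨w, hw, h, hwe⟩
        · exact exists_x_end hx hy hxS hyS hc hw h hwe
      obtain ⟨q, hq, hyq, hqe⟩ := exists_y_end hx hy hxS hyS hc hp hxp hpe
      obtain ⟨h1, h2, h3, h4, h5⟩ := pair_step hx hy hxp hpe hyq hqe
      exact ⟨_, Finset.union_subset (hsub p hp) (hsub q hq), ⟨p, h3⟩, h1, h2, h4, Or.inl h5⟩
    · push Not at hend
      have hfree : x v ∉ orb x y v := by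
        intro h
        obtain ⟨i, hi⟩ := (mem_orb hx hy).1 h
        rcases Nat.even_or_odd i with ⟨j, rfl⟩ | ⟨j, rfl⟩
        · refine (hend _ (hsub v hv ((mem_orb hx hy).2 ⟨j, rfl⟩)) (by rw [period_iterate hx hy]; exact hev)).1 ?_
          exact (x_fix_iff hx hy hi.symm j).2 rfl
        · refine (hend _ (hsub v hv ((mem_orb hx hy).2 ⟨j + 1, rfl⟩)) (by rw [period_iterate hx hy]; exact hev)).2 ?_
          refine (y_fix_iff hx hy hi.symm (j + 1)).2 ?_
          rw [show j + 1 + (j + 1) = 2 * j + 1 + 1 by omega]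
      by_cases h2 : minimalPeriod (y ∘ x) v = 2
      · obtain ⟨T, haT, h1, h2', h3, hT⟩ := square_step hx hy h2 (hend v hv hev).1 (hend v hv hev).2
        refine ⟨T, ?_, ⟨v, haT⟩, h1, h2', h3, Or.inr hT⟩
        obtain ⟨a, b, c, d, hab, hac, had, hbc, hbd, hcd, rfl, xa, xc, ya, yb⟩ := hT
        have xb : x b = a := by rw [← xa, hx a]
        have xd : x d = c := by rw [← xc, hx c]
        have yc : y c = a := by rw [← ya, hy a]
        have yd : y d = b := by rw [← yb, hy b]
        have haS : a ∈ S := by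
          simp only [Finset.mem_insert, Finset.mem_singleton] at haT
          rcases haT with rfl | rfl | rfl | rfl
          · exact hv
          · exact xb ▸ hxS _ hv
          · exact yc ▸ hyS _ hv
          · exact yc ▸ hyS _ (xd ▸ hxS _ hv)
        have hbS : b ∈ S := xa ▸ hxS a haS
        have hcS : c ∈ S := ya ▸ hyS a haS
        intro r hr
        simp only [Finset.mem_insert, Finset.mem_singleton] at hr
        rcases hr with rfl | rfl | rfl | rfl
        · exact haS
        · exact hbS
        · exact hcS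
        · exact yb ▸ hyS b hbS
      · obtain ⟨h1, h2', h3, h4, h5⟩ := cycle_step hx hy hev h2 hfree
        exact ⟨_, Finset.union_subset (hsub v hv) (hsub _ (hxS v hv)), ⟨v, h3⟩, h1, h2', h4, Or.inl h5⟩
  obtain ⟨U, hUS, hUne, hxU, hyU, hUc, hU⟩ := key
  set R := S \ U with hR
  have hRS : R ⊂ S := Finset.sdiff_ssubset hUS hUne
  have hxR : ∀ v ∈ R, x v ∈ R := fun r hr => by
    rw [hR, Finset.mem_sdiff] at hr ⊢
    exact ⟨hxS r hr.1, fun h => hr.2 (hx r ▸ hxU _ h)⟩
  have hyR : ∀ v ∈ R, y v ∈ R := fun r hr => by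
    rw [hR, Finset.mem_sdiff] at hr ⊢
    exact ⟨hyS r hr.1, fun h => hr.2 (hy r ▸ hyU _ h)⟩
  have hd : Disjoint R U := Finset.sdiff_disjoint
  have hSe : R ∪ U = S := Finset.sdiff_union_of_subset hUS
  have hRc : (R.filter fun v => y v = v).card = (R.filter fun v => x v = v).card := by
    rw [← hSe, Finset.filter_union, Finset.filter_union,
      Finset.card_union_of_disjoint (Finset.disjoint_filter_filter hd),
      Finset.card_union_of_disjoint (Finset.disjoint_filter_filter hd), hUc] at hc
    omega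
  rcases R.eq_empty_or_nonempty with hRe | hRne
  · rw [← hSe, hRe, Finset.empty_union]; exact hU
  left
  rw [← hSe]
  rcases ih R hRS hxR hyR hRc with hRg | hRsq <;> rcases hU with hUg | hUsq
  · exact hRg.union hxR hyR hxU hyU hd hUg
  · exact hRg.insert_square hx hy hxR hyR hd hRne hUsq
  · rw [Finset.union_comm]; exact hUg.insert_square hx hy hxU hyU hd.symm hUne hRsq
  · exact good_two_squares hx hy hd hRsq hUsq

end Main

end CfsgLib.OddProd
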