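import Cfsg.Agent.Lib.Perm.OddProduct

/-!
# Graphs of diameter two; conjugacy of involutive permutations
-/

set_option autoImplicit false

namespace CfsgLib.OddProd

theorem diam_two_of {V : Type*} (G : SimpleGraph V)
    (h : ∀ u v, u ≠ v → ¬ G.Adj u v → ∃ w, G.Adj u w ∧ G.Adj w v)
    (hne : ∃ u v, u ≠ v ∧ ¬ G.Adj u v) : G.Connected ∧ G.diam = 2 := by
  have hle : ∀ u v, G.edist u v ≤ 2 := by
    intro u v
    rcases eq_or_ne u v with rfl | huv
    · simp
    by_cases ha : G.Adj u v
    · exact (SimpleGraph.edist_le (SimpleGraph.Walk.cons ha .nil)).trans (by simp)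
    · obtain ⟨w, h1, h2⟩ := h u v huv ha
      exact (SimpleGraph.edist_le (SimpleGraph.Walk.cons h1 (SimpleGraph.Walk.cons h2 .nil))).trans
        (by simp)
  obtain ⟨u, v, huv, hna⟩ := hne
  have hconn : G.Connected := by
    rw [SimpleGraph.connected_iff_exists_forall_reachable]
    exact ⟨u, fun w => SimpleGraph.edist_ne_top_iff_reachable.1
      (ne_top_of_le_ne_top (ENat.coe_ne_top 2) (hle u w))⟩
  refine ⟨hconn, ?_⟩
  have h1 : G.ediam ≤ 2 := SimpleGraph.ediam_le_of_edist_le hle
  have h2 : 2 ≤ G.edist u v := by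
    have h0 : G.edist u v ≠ 0 := fun e => huv (SimpleGraph.edist_eq_zero_iff.1 e)
    have h01 : G.edist u v ≠ 1 := fun e => hna (SimpleGraph.edist_eq_one_iff_adj.1 e)
    generalize G.edist u v = e at h0 h01
    cases e with
    | top => exact le_top
    | coe k =>
      norm_cast at h0 h01 ⊢
      omega
  rw [SimpleGraph.diam, le_antisymm h1 (h2.trans G.edist_le_ediam)]
  rfl

variable {α : Type*} [Fintype α] [DecidableEq α]

open Equiv.Perm in
theorem isConj_of_fix {σ τ : Equiv.Perm α} (hσ : orderOf σ = 2) (hτ : Function.Involutive τ)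
    (h : (Finset.univ.filter fun v => τ v = v).card = (Finset.univ.filter fun v => σ v = v).card) :
    IsConj σ τ := by
  have hs : σ.support.card = τ.support.card := by
    have e : ∀ π : Equiv.Perm α, π.support = (Finset.univ.filter fun v => π v = v)ᶜ := fun π => by
      ext v; simp
    rw [e, e, Finset.card_compl, Finset.card_compl, h]
  have hτ2 : orderOf τ = 2 := by
    refine orderOf_eq_prime ?_ fun h1 => ?_
    · ext v; simp [pow_two, hτ v]
    · rw [h1, support_one, Finset.card_empty, Finset.card_eq_zero, support_eq_empty_iff] at hs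
      rw [hs, orderOf_one] at hσ
      exact absurd hσ (by decide)
  obtain ⟨a, ha⟩ := cycleType_prime_order (σ := σ) (by rw [hσ]; exact Nat.prime_two)
  obtain ⟨b, hb⟩ := cycleType_prime_order (σ := τ) (by rw [hτ2]; exact Nat.prime_two)
  rw [hσ] at ha
  rw [hτ2] at hb
  have h1 := sum_cycleType σ
  have h2 := sum_cycleType τ
  rw [ha, Multiset.sum_replicate, smul_eq_mul] at h1
  rw [hb, Multiset.sum_replicate, smul_eq_mul] at h2
  rw [isConj_iff_cycleType_eq, ha, hb]
  congr 1
  omega

omit [DecidableEq α] in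
theorem odd_orderOf_of_oddOn {π : Equiv.Perm α} (h : ∀ v, ∃ N, Odd N ∧ (⇑π)^[N] v = v) :
    Odd (orderOf π) := by
  classical
  choose N hN he using h
  have hp : π ^ (∏ v, N v) = 1 := by
    ext v
    rw [Equiv.Perm.coe_one, id_eq, ← Equiv.Perm.iterate_eq_pow]
    obtain ⟨k, hk⟩ := Finset.dvd_prod_of_mem N (Finset.mem_univ v)
    rw [hk]
    exact Function.IsPeriodicPt.mul_const (he v) k
  refine Odd.of_dvd_nat ?_ (orderOf_dvd_of_pow_eq_one hp)
  exact Finset.prod_induction N Odd (fun a b ha hb => ha.mul hb) odd_one fun v _ => hN v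

theorem involutive_of_conj {σ τ : Equiv.Perm α} (hσ : orderOf σ = 2) (h : IsConj σ τ) :
    Function.Involutive τ := by
  obtain ⟨g, rfl⟩ := isConj_iff.1 h
  intro v
  have : σ * σ = 1 := by rw [← pow_two, ← hσ, pow_orderOf_eq_one]
  have e : (g * σ * g⁻¹) * (g * σ * g⁻¹) = 1 := by
    rw [show (g * σ * g⁻¹) * (g * σ * g⁻¹) = g * (σ * σ) * g⁻¹ by group, this, mul_one, mul_inv_cancel]
  exact Equiv.Perm.ext_iff.1 e v

theorem card_fix_of_conj {σ τ : Equiv.Perm α} (h : IsConj σ τ) :
    (Finset.univ.filter fun v => τ v = v).card = (Finset.univ.filter fun v => σ v = v).card := by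
  obtain ⟨g, rfl⟩ := isConj_iff.1 h
  exact Finset.card_equiv g.symm fun v => by
    rw [Finset.mem_filter, Finset.mem_filter]
    simp only [Finset.mem_univ, true_and, Equiv.Perm.mul_apply, Equiv.Perm.inv_def]
    exact (Equiv.eq_symm_apply g).symm

/-- Two conjugate involutions have a common partner in their class, unless there are four points. -/
theorem exists_common {t x y : Equiv.Perm α} (ht : orderOf t = 2) (hx : IsConj t x) (hy : IsConj t y)
    (hn : Fintype.card α ≠ 4) :
    ∃ z, IsConj t z ∧ Odd (orderOf (x * z)) ∧ Odd (orderOf (y * z)) := by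
  have hc : (Finset.univ.filter fun v => y v = v).card = (Finset.univ.filter fun v => x v = v).card :=
    (card_fix_of_conj hy).trans (card_fix_of_conj hx).symm
  rcases good_or_square (involutive_of_conj ht hx) (involutive_of_conj ht hy) Finset.univ
    (fun _ _ => Finset.mem_univ _) (fun _ _ => Finset.mem_univ _) hc with hg | hs
  · obtain ⟨z, hz, -, hzc, hzx, hzy⟩ := hg
    refine ⟨hz.toPerm, isConj_of_fix ht hz (hzc.trans (card_fix_of_conj hx)),
      odd_orderOf_of_oddOn fun v => ?_, odd_orderOf_of_oddOn fun v => ?_⟩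
    · exact hzx v (Finset.mem_coe.2 (Finset.mem_univ v))
    · exact hzy v (Finset.mem_coe.2 (Finset.mem_univ v))
  · exact absurd hs.card_eq hn

/-- Some other member of the class commutes with `t`. -/
theorem exists_commuting {t : Equiv.Perm α} (ht : orderOf t = 2) (hn : 5 ≤ Fintype.card α) :
    ∃ s, IsConj t s ∧ s ≠ t ∧ Commute t s := by
  have hi : Function.Involutive t := involutive_of_conj ht (IsConj.refl t)
  obtain ⟨a, ha⟩ : ∃ a, t a ≠ a := by
    by_contra h
    push Not at h
    rw [show t = 1 from Equiv.ext h, orderOf_one] at ht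
    exact absurd ht (by decide)
  suffices ∃ g : Equiv.Perm α, g * t * g⁻¹ ≠ t ∧ Commute t (g * t * g⁻¹) by
    obtain ⟨g, h1, h2⟩ := this
    exact ⟨_, isConj_iff.2 ⟨g, rfl⟩, h1, h2⟩
  by_cases h2 : ∃ c, c ≠ a ∧ c ≠ t a ∧ t c ≠ c
  · obtain ⟨c, hca, hcb, hc⟩ := h2
    -- exchange `t a` and `c`
    set b := t a
    have hba : b ≠ a := ha
    have hd : t c ≠ a ∧ t c ≠ b := ⟨fun e => hcb (by rw [← hi c, e]), fun e => hca (hi.injective e)⟩
    have htb : t b = a := hi a
    set d := t c with hd'
    have htd : t d = c := hi c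
    refine ⟨Equiv.swap b c, fun e => ?_, Equiv.ext fun v => ?_⟩
    · have h1 := Equiv.Perm.ext_iff.1 e a
      simp only [Equiv.Perm.mul_apply, Equiv.swap_inv] at h1
      rw [Equiv.swap_apply_of_ne_of_ne hba.symm hca.symm] at h1
      rw [show t a = b from rfl, Equiv.swap_apply_left] at h1
      exact hcb h1
    · simp only [Equiv.Perm.mul_apply, Equiv.swap_inv, Equiv.swap_apply_def]
      have key : ∀ w, w ≠ a → w ≠ b → w ≠ c → w ≠ d → t w ≠ a ∧ t w ≠ b ∧ t w ≠ c ∧ t w ≠ d :=
        fun w h1 h2 h3 h4 => ⟨fun e => h2 (by rw [← hi w, e]), fun e => h1 (hi.injective e),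
          fun e => h4 (by rw [← hi w, e, ← hd']), fun e => h3 (hi.injective e)⟩
      by_cases v1 : v = a; · subst v1; simp [b, d, hca, hca.symm, hcb, hcb.symm, hba, hba.symm, hd.1, hd.2, hd.1.symm, hd.2.symm, hc, hc.symm, htb, htd, hi _]
      by_cases v2 : v = b; · subst v2; simp [hca, hca.symm, hcb, hcb.symm, hba, hba.symm, hd.1, hd.2, hd.1.symm, hd.2.symm, hc, hc.symm, htb, htd, ← hd', show t a = b from rfl]
      by_cases v3 : v = c; · subst v3; simp [hca, hca.symm, hcb, hcb.symm, hba, hba.symm, hd.1, hd.2, hd.1.symm, hd.2.symm, hc, hc.symm, htb, htd, ← hd', show t a = b from rfl]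
      by_cases v4 : v = d; · subst v4; simp [hca, hca.symm, hcb, hcb.symm, hba, hba.symm, hd.1, hd.2, hd.1.symm, hd.2.symm, hc, hc.symm, htb, htd, ← hd', show t a = b from rfl]
      obtain ⟨k1, k2, k3, k4⟩ := key v v1 v2 v3 v4
      simp [v1, v2, v3, v4, k1, k2, k3, k4, hi _]
  · push Not at h2
    set b := t a
    have hba : b ≠ a := ha
    have htb : t b = a := hi a
    obtain ⟨c, d, hcd, hc1, hc2, hd1, hd2⟩ : ∃ c d : α, c ≠ d ∧ c ≠ a ∧ c ≠ b ∧ d ≠ a ∧ d ≠ b := by
      have h : 3 ≤ (({a, b} : Finset α)ᶜ).card := by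
        rw [Finset.card_compl]
        have := Finset.card_insert_le a ({b} : Finset α)
        simp only [Finset.card_singleton] at this
        omega
      obtain ⟨c, hc, d, hd, hcd⟩ := Finset.one_lt_card.1 (show 1 < (({a, b} : Finset α)ᶜ).card by omega)
      simp only [Finset.mem_compl, Finset.mem_insert, Finset.mem_singleton, not_or] at hc hd
      exact ⟨c, d, hcd, hc.1, hc.2, hd.1, hd.2⟩
    have htc : t c = c := h2 c hc1 hc2
    have htd : t d = d := h2 d hd1 hd2
    have hteq : t = Equiv.swap a b := by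
      refine Equiv.ext fun v => ?_
      by_cases v1 : v = a
      · subst v1; rw [Equiv.swap_apply_left]
      by_cases v2 : v = b
      · subst v2; rw [Equiv.swap_apply_right, htb]
      rw [Equiv.swap_apply_of_ne_of_ne v1 v2, h2 v v1 v2]
    set g := Equiv.swap a c * Equiv.swap b d with hg
    have ga : g a = c := by
      rw [hg, Equiv.Perm.mul_apply, Equiv.swap_apply_of_ne_of_ne hba.symm hd1.symm, Equiv.swap_apply_left]
    have gb : g b = d := by
      rw [hg, Equiv.Perm.mul_apply, Equiv.swap_apply_left, Equiv.swap_apply_of_ne_of_ne hd1 hcd.symm]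
    have hconj : g * t * g⁻¹ = Equiv.swap c d := by
      rw [hteq, ← Equiv.swap_apply_apply, ga, gb]
    refine ⟨g, fun e => ?_, ?_⟩
    · rw [hconj] at e
      have h1 := Equiv.Perm.ext_iff.1 e a
      rw [Equiv.swap_apply_of_ne_of_ne hc1.symm hd1.symm] at h1
      exact ha h1.symm
    · rw [hconj, hteq]
      refine Equiv.Perm.Disjoint.commute fun v => ?_
      by_cases v1 : v = a
      · subst v1; exact Or.inr (Equiv.swap_apply_of_ne_of_ne hc1.symm hd1.symm)
      by_cases v2 : v = b
      · subst v2; exact Or.inr (Equiv.swap_apply_of_ne_of_ne hc2.symm hd2.symm)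
      exact Or.inl (Equiv.swap_apply_of_ne_of_ne v1 v2)

end CfsgLib.OddProd
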