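import Mathlib.GroupTheory.Sylow
import Mathlib.GroupTheory.Perm.Sign
import Mathlib.GroupTheory.SpecificGroups.Alternating
import Mathlib.GroupTheory.Abelianization.Defs
import Mathlib.NumberTheory.Padics.PadicVal.Basic
import Mathlib.Data.Nat.Factorization.Basic
import Mathlib.Data.ZMod.Basic

/-!
# Sylow subgroups of symmetric and alternating groups are generated by elements of order `p`
-/

set_option autoImplicit false

namespace CfsgLib.PermSylowGen

open Equiv

variable {G H : Type*} [Group G] [Group H]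

/-- A subgroup generated by its elements of exponent `p`. -/
def Gen (p : ℕ) (K : Subgroup G) : Prop :=
  K ≤ Subgroup.closure {y | y ∈ K ∧ y ^ p = 1}

theorem gen_bot (p : ℕ) : Gen p (⊥ : Subgroup G) := bot_le

theorem Gen.map {p : ℕ} {K : Subgroup G} (h : Gen p K) (f : G →* H) : Gen p (K.map f) := by
  refine (Subgroup.map_mono h).trans ?_
  rw [MonoidHom.map_closure]
  refine Subgroup.closure_mono ?_
  rintro _ ⟨y, ⟨hy, hy1⟩, rfl⟩
  exact ⟨Subgroup.mem_map_of_mem f hy, by rw [← map_pow, hy1, map_one]⟩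

theorem Gen.pow_mem_commutator {p : ℕ} {K : Subgroup G} (h : Gen p K) (x : K) :
    x ^ p ∈ commutator K := by
  refine (QuotientGroup.eq_one_iff _).1 ?_
  show Abelianization.of (x ^ p) = (1 : Abelianization K)
  have hle : Subgroup.closure {y | y ∈ K ∧ y ^ p = 1} ≤
      ((powMonoidHom p).comp (Abelianization.of (G := K))).ker.map K.subtype := by
    rw [Subgroup.closure_le]
    rintro y ⟨hy, hy1⟩
    refine ⟨⟨y, hy⟩, ?_, rfl⟩
    show Abelianization.of (⟨y, hy⟩ : K) ^ p = 1
    rw [← map_pow, show (⟨y, hy⟩ : K) ^ p = 1 from Subtype.ext hy1, map_one]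
  obtain ⟨x', hx', e⟩ := hle (h x.2)
  rw [← Subtype.ext e, map_pow]
  exact hx'

section Wreath

variable {ι : Type*} [Fintype ι] [DecidableEq ι] {p : ℕ} [Fact p.Prime]

/-- Shifts on the fibres. -/
def base : Multiplicative (ι → ZMod p) →* Perm (ι × ZMod p) where
  toFun f := Equiv.prodCongrRight fun i => Equiv.addRight (Multiplicative.toAdd f i)
  map_one' := by ext x <;> simp
  map_mul' a b := by
    ext x
    · simp
    · simp [add_comm, add_left_comm]

/-- The action on the fibres. -/
def lift : Perm ι →* Perm (ι × ZMod p) where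
  toFun s := Equiv.prodCongrLeft fun _ => s
  map_one' := by ext x <;> simp
  map_mul' a b := by ext x <;> simp

theorem lift_conj_base (s : Perm ι) (f : Multiplicative (ι → ZMod p)) :
    lift s * base f = base (Multiplicative.ofAdd fun i => Multiplicative.toAdd f (s.symm i)) * lift (p := p) s := by
  ext x <;> simp [base, lift]

theorem base_pow_prime (f : Multiplicative (ι → ZMod p)) : base f ^ p = 1 := by
  rw [← map_pow]
  convert map_one (base (ι := ι) (p := p))
  apply Multiplicative.toAdd.injective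
  funext i
  simp

/-- The wreath product with `Q`. -/
def wreath (Q : Subgroup (Perm ι)) : Subgroup (Perm (ι × ZMod p)) where
  carrier := Set.range fun e : Multiplicative (ι → ZMod p) × Q => base e.1 * lift (e.2 : Perm ι)
  one_mem' := ⟨(1, 1), by simp⟩
  mul_mem' := by
    rintro _ _ ⟨⟨f, s⟩, rfl⟩ ⟨⟨g, t⟩, rfl⟩
    refine ⟨(f * Multiplicative.ofAdd (fun i => Multiplicative.toAdd g ((s : Perm ι).symm i)), s * t), ?_⟩
    simp only [Subgroup.coe_mul, map_mul]
    rw [mul_assoc, ← mul_assoc _ (lift (s : Perm ι)) _, ← lift_conj_base, mul_assoc, mul_assoc]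
  inv_mem' := by
    rintro _ ⟨⟨f, s⟩, rfl⟩
    refine ⟨(Multiplicative.ofAdd (fun i => Multiplicative.toAdd f⁻¹ (((s⁻¹ : Q) : Perm ι).symm i)), s⁻¹), ?_⟩
    simp only [mul_inv_rev, ← map_inv, Subgroup.coe_inv]
    rw [← lift_conj_base]

theorem base_mem_wreath (Q : Subgroup (Perm ι)) (f : Multiplicative (ι → ZMod p)) :
    base f ∈ wreath (p := p) Q := ⟨(f, 1), by simp⟩

theorem lift_mem_wreath (Q : Subgroup (Perm ι)) {s : Perm ι} (hs : s ∈ Q) :
    lift s ∈ wreath (p := p) Q := ⟨(1, ⟨s, hs⟩), by simp⟩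

theorem card_wreath (Q : Subgroup (Perm ι)) :
    Nat.card (wreath (p := p) Q) = p ^ Fintype.card ι * Nat.card Q := by
  have hinj : Function.Injective
      fun e : Multiplicative (ι → ZMod p) × Q => base e.1 * lift (e.2 : Perm ι) := by
    rintro ⟨f, s⟩ ⟨g, t⟩ e
    have h1 : ∀ (i : ι) (a : ZMod p),
        (base f * lift (p := p) (s : Perm ι)) (i, a) = (base g * lift (p := p) (t : Perm ι)) (i, a) :=
      fun i a => DFunLike.congr_fun (show base f * lift (p := p) (s : Perm ι) = base g * lift (t : Perm ι) from e) (i, a)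
    have hst : s = t := by
      refine Subtype.ext (Equiv.ext fun i => ?_)
      simpa [base, lift] using congrArg Prod.fst (h1 i 0)
    subst hst
    refine Prod.ext (Multiplicative.toAdd.injective (funext fun i => ?_)) rfl
    simpa [base, lift] using congrArg Prod.snd (h1 ((s : Perm ι).symm i) 0)
  show Nat.card (Set.range _) = _
  rw [Nat.card_range_of_injective hinj, Nat.card_prod, Nat.card_congr Multiplicative.toAdd,
    Nat.card_fun, Nat.card_zmod, Nat.card_eq_fintype_card (α := ι)]

theorem gen_wreath {Q : Subgroup (Perm ι)} (hQ : Gen p Q) : Gen p (wreath (p := p) Q) := by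
  rintro _ ⟨⟨f, s⟩, rfl⟩
  refine Subgroup.mul_mem _ (Subgroup.subset_closure ⟨base_mem_wreath Q f, base_pow_prime f⟩) ?_
  have h1 := (hQ.map (lift (p := p))) (Subgroup.mem_map_of_mem _ s.2)
  refine Subgroup.closure_mono ?_ h1
  rintro y ⟨⟨z, hz, rfl⟩, hy⟩
  exact ⟨lift_mem_wreath Q hz, hy⟩

theorem sign_lift_two (s : Perm ι) : Perm.sign (lift (p := 2) s) = 1 := by
  show Perm.sign (Equiv.prodCongrLeft fun _ : ZMod 2 => s) = 1
  rw [Equiv.Perm.sign_prodCongrLeft, Finset.prod_const, Finset.card_univ, ZMod.card, sq]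
  exact Int.units_mul_self _

theorem sign_base_single (i : ι) :
    Perm.sign (base (p := 2) (Multiplicative.ofAdd (Pi.single i 1) : Multiplicative (ι → ZMod 2))) = -1 := by
  show Perm.sign (Equiv.prodCongrRight fun j => Equiv.addRight ((Pi.single i 1 : ι → ZMod 2) j)) = -1
  rw [Equiv.Perm.sign_prodCongrRight, Finset.prod_eq_single i]
  · rw [Pi.single_eq_same]
    decide
  · intro j _ hj
    rw [Pi.single_eq_of_ne hj]
    decide
  · simp

/-- The even part for `p = 2`. -/
theorem gen_wreath_even {Q : Subgroup (Perm ι)} (hQ : Gen 2 Q) :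
    Gen 2 (wreath (p := 2) Q ⊓ (Perm.sign : Perm (ι × ZMod 2) →* ℤˣ).ker) := by
  set K := wreath (p := 2) Q ⊓ (Perm.sign : Perm (ι × ZMod 2) →* ℤˣ).ker with hK
  set C := Subgroup.closure {y | y ∈ K ∧ y ^ 2 = 1} with hC
  intro x hx
  obtain ⟨⟨f, s⟩, rfl⟩ := hx.1
  have hl : lift (s : Perm ι) ∈ C := by
    have h1 := (hQ.map (lift (p := 2))) (Subgroup.mem_map_of_mem _ s.2)
    refine Subgroup.closure_mono ?_ h1
    rintro y ⟨⟨z, hz, rfl⟩, hy⟩
    exact ⟨⟨lift_mem_wreath Q hz, sign_lift_two z⟩, hy⟩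
  refine C.mul_mem ?_ hl
  have hfs : Perm.sign (base f) = 1 := by
    have := MonoidHom.mem_ker.1 hx.2
    simp only [map_mul, sign_lift_two, mul_one] at this
    exact this
  rcases isEmpty_or_nonempty ι with hι | ⟨⟨o⟩⟩
  · rw [Subsingleton.elim f 1, map_one]
    exact C.one_mem
  -- sums of pairs
  let a : ι → Multiplicative (ι → ZMod 2) := fun i =>
    Multiplicative.ofAdd (Pi.single i 1) * Multiplicative.ofAdd (Pi.single o 1)
  have ha : ∀ i, base (a i) ∈ C := fun i => Subgroup.subset_closure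
    ⟨⟨base_mem_wreath Q _, MonoidHom.mem_ker.2 (by
      rw [map_mul, map_mul, sign_base_single, sign_base_single]
      decide)⟩, base_pow_prime _⟩
  set g := ∏ i, a i ^ (Multiplicative.toAdd f i).val
  have hg : base g ∈ C :=
    (C.comap base).prod_mem fun i _ => (C.comap base).pow_mem (show a i ∈ C.comap base from ha i) _
  have hker : ∀ y ∈ C, Perm.sign y = 1 := fun y hy =>
    MonoidHom.mem_ker.1 ((Subgroup.closure_le _).2 (fun z hz => hz.1.2) hy)
  have h2 : ∀ b : ι → ZMod 2, b + b = 0 := fun b => funext fun i => by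
    show b i + b i = 0
    generalize b i = c
    revert c
    decide
  have hdiff : f = g * Multiplicative.ofAdd (Pi.single o 1) ^ (∑ i, (Multiplicative.toAdd f i).val) := by
    apply Multiplicative.toAdd.injective
    simp only [g, a, toAdd_mul, toAdd_prod, toAdd_pow, toAdd_ofAdd, Finset.sum_smul, smul_add,
      Finset.sum_add_distrib]
    rw [add_assoc, h2, add_zero]
    funext j
    rw [Finset.sum_apply, Finset.sum_eq_single j]
    · simp [ZMod.natCast_zmod_val]
    · intro i _ hij
      simp [Pi.single_eq_of_ne hij.symm]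
    · simp
  have he : Multiplicative.ofAdd (Pi.single o 1 : ι → ZMod 2) ^ (∑ i, (Multiplicative.toAdd f i).val) = 1 := by
    set c := ∑ i, (Multiplicative.toAdd f i).val
    have h3 : Perm.sign (base (Multiplicative.ofAdd (Pi.single o 1 : ι → ZMod 2) ^ c)) = 1 := by
      have := hfs
      rw [hdiff, map_mul, map_mul, hker _ hg, one_mul] at this
      exact this
    rw [map_pow, map_pow, sign_base_single] at h3
    obtain ⟨d, hd⟩ : Even c := by
      rcases Nat.even_or_odd c with h | h
      · exact h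
      · rw [h.neg_one_pow] at h3
        exact absurd h3 (by decide)
    rw [hd, pow_add]
    apply Multiplicative.toAdd.injective
    rw [toAdd_mul, toAdd_one]
    exact h2 _
  rw [hdiff, he, mul_one]
  exact hg

end Wreath

section Sum

variable {X Y Z : Type*}

/-- Extension by fixed points. -/
def extend (e : X ⊕ Y ≃ Z) : Perm X →* Perm Z where
  toFun s := e.permCongr (Equiv.sumCongr s (Equiv.refl Y))
  map_one' := by ext z; simp [Equiv.permCongr_apply]
  map_mul' a b := by
    ext z
    simp only [Equiv.permCongr_apply, Perm.mul_apply, Equiv.symm_apply_apply]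
    rcases e.symm z with x | y <;> simp

theorem extend_injective (e : X ⊕ Y ≃ Z) : Function.Injective (extend e) := by
  intro a b h
  ext x
  simpa [extend, Equiv.permCongr_apply] using congrArg e.symm (congrFun (congrArg (fun s : Perm Z => ⇑s) h) (e (Sum.inl x)))

theorem sign_extend [Fintype X] [DecidableEq X] [Fintype Y] [DecidableEq Y] [Fintype Z] [DecidableEq Z]
    (e : X ⊕ Y ≃ Z) (s : Perm X) : Perm.sign (extend e s) = Perm.sign s := by
  show Perm.sign (e.permCongr (Equiv.sumCongr s (Equiv.refl Y))) = _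
  rw [Perm.sign_permCongr, Perm.sign_sumCongr, Perm.sign_refl, mul_one]

end Sum

/-- A Sylow subgroup generated by elements of order `p`, whose even part is too. -/
theorem exists_gen (p : ℕ) [hp : Fact p.Prime] : ∀ n : ℕ, ∃ W : Subgroup (Perm (Fin n)),
    Nat.card W = p ^ (n.factorial).factorization p ∧ Gen p W ∧
      Gen p (W ⊓ (Perm.sign : Perm (Fin n) →* ℤˣ).ker) := by
  intro n
  induction n using Nat.strong_induction_on with
  | _ n ih =>
  rcases Nat.eq_zero_or_pos n with hn | hn
  · subst hn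
    refine ⟨⊥, by simp, gen_bot p, ?_⟩
    rw [bot_inf_eq]
    exact gen_bot p
  obtain ⟨Q, hQc, hQ, -⟩ := ih (n / p) (Nat.div_lt_self hn hp.out.one_lt)
  have hn' : p * (n / p) + n % p = n := Nat.div_add_mod n p
  let e : (Fin (n / p) × ZMod p) ⊕ Fin (n % p) ≃ Fin n := Fintype.equivFinOfCardEq (by
    simp only [Fintype.card_sum, Fintype.card_prod, Fintype.card_fin, ZMod.card]
    linarith)
  have hfac : (n.factorial).factorization p = n / p + ((n / p).factorial).factorization p := by
    rw [Nat.factorization_def _ hp.out, Nat.factorization_def _ hp.out]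
    conv_lhs => rw [← hn']
    rw [padicValNat_factorial_mul_add _ (Nat.mod_lt _ hp.out.pos), padicValNat_factorial_mul, add_comm]
  have hgen := (gen_wreath (p := p) hQ).map (extend e)
  refine ⟨(wreath (p := p) Q).map (extend e), ?_, hgen, ?_⟩
  · rw [Subgroup.card_map_of_injective (extend_injective e), card_wreath, hQc, Fintype.card_fin, hfac,
      pow_add]
  · rcases hp.out.eq_two_or_odd' with rfl | hodd
    · have := (gen_wreath_even hQ).map (extend e)
      rw [Subgroup.map_inf _ _ _ (extend_injective e)] at this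
      have heq : (wreath (p := 2) Q).map (extend e) ⊓ (Perm.sign : Perm (Fin n) →* ℤˣ).ker =
          (wreath (p := 2) Q).map (extend e) ⊓
            (Perm.sign : Perm (Fin (n / 2) × ZMod 2) →* ℤˣ).ker.map (extend e) := by
        refine le_antisymm ?_ ?_
        · rintro _ ⟨⟨y, hy, rfl⟩, hs⟩
          refine ⟨⟨y, hy, rfl⟩, y, MonoidHom.mem_ker.2 ?_, rfl⟩
          exact (sign_extend e y).symm.trans (MonoidHom.mem_ker.1 hs)
        · rintro _ ⟨h1, y, hy, rfl⟩
          exact ⟨h1, MonoidHom.mem_ker.2 ((sign_extend e y).trans (MonoidHom.mem_ker.1 hy))⟩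
      rw [heq]
      exact this
    · rw [inf_eq_left.2]
      · exact hgen
      refine hgen.trans ((Subgroup.closure_le _).2 ?_)
      rintro y ⟨-, hy⟩
      rw [SetLike.mem_coe, MonoidHom.mem_ker]
      rcases Int.units_eq_one_or (Perm.sign y) with h | h
      · exact h
      · have := congrArg Perm.sign hy
        rw [map_pow, h, hodd.neg_one_pow, map_one] at this
        exact absurd this (by decide)

theorem gen_sylow (p : ℕ) [Fact p.Prime] (n : ℕ) (P : Sylow p (Perm (Fin n))) :
    Gen p (P : Subgroup (Perm (Fin n))) := by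
  obtain ⟨W, hWc, hW, -⟩ := exists_gen p n
  let W' : Sylow p (Perm (Fin n)) := Sylow.ofCard W (by
    rw [hWc, Nat.card_perm, Nat.card_fin])
  obtain ⟨g, hg⟩ := MulAction.exists_smul_eq (Perm (Fin n)) W' P
  rw [← hg, Sylow.coe_subgroup_smul]
  exact hW.map _

theorem gen_sylow_alternating (p : ℕ) [Fact p.Prime] (n : ℕ) (Q : Sylow p (alternatingGroup (Fin n))) :
    Gen p (Q : Subgroup (alternatingGroup (Fin n))) := by
  obtain ⟨W, hWc, -, hWA⟩ := exists_gen p n
  let W' : Sylow p (Perm (Fin n)) := Sylow.ofCard W (by rw [hWc, Nat.card_perm, Nat.card_fin])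
  obtain ⟨P, hP⟩ := (Q.isPGroup'.map (alternatingGroup (Fin n)).subtype).exists_le_sylow
  obtain ⟨g, hg⟩ := MulAction.exists_smul_eq (Perm (Fin n)) W' P
  have hQP : (Q : Subgroup (alternatingGroup (Fin n))) = (P : Subgroup (Perm (Fin n))).comap
      (alternatingGroup (Fin n)).subtype :=
    (Q.is_maximal' (P.isPGroup'.comap_of_injective _ Subtype.val_injective)
      (Subgroup.map_le_iff_le_comap.1 hP)).symm
  let c : alternatingGroup (Fin n) →* Perm (Fin n) :=
    (MulAut.conj g⁻¹).toMonoidHom.comp (alternatingGroup (Fin n)).subtype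
  have hQc : (Q : Subgroup (alternatingGroup (Fin n))).map c = W ⊓ (Perm.sign : Perm (Fin n) →* ℤˣ).ker := by
    rw [hQP, ← hg, Sylow.coe_subgroup_smul]
    ext y
    constructor
    · rintro ⟨z, hz, rfl⟩
      obtain ⟨w, hw, e⟩ := hz
      refine ⟨?_, ?_⟩
      · have e' : g * w * g⁻¹ = (z : Perm (Fin n)) := e
        show g⁻¹ * (z : Perm (Fin n)) * g⁻¹⁻¹ ∈ W
        rw [← e', show g⁻¹ * (g * w * g⁻¹) * g⁻¹⁻¹ = w by group]
        exact hw
      · refine MonoidHom.mem_ker.2 ?_
        show Perm.sign (g⁻¹ * (z : Perm (Fin n)) * g⁻¹⁻¹) = 1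
        rw [map_mul, map_mul, Perm.mem_alternatingGroup.1 z.2, map_inv, map_inv]
        simp
    · rintro ⟨hyW, hys⟩
      replace hys : Perm.sign y = 1 := MonoidHom.mem_ker.1 hys
      refine ⟨⟨g * y * g⁻¹, Perm.mem_alternatingGroup.2 ?_⟩, ⟨y, hyW, rfl⟩, ?_⟩
      · rw [map_mul, map_mul, hys, map_inv]
        simp
      · show g⁻¹ * (g * y * g⁻¹) * g⁻¹⁻¹ = y
        group
  have hcinj : Function.Injective c := (MulAut.conj g⁻¹).injective.comp Subtype.val_injective
  intro x hx
  have h1 : c x ∈ Subgroup.closure {y | y ∈ W ⊓ (Perm.sign : Perm (Fin n) →* ℤˣ).ker ∧ y ^ p = 1} :=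
    hWA (hQc ▸ Subgroup.mem_map_of_mem c hx)
  refine (Subgroup.mem_map_iff_mem hcinj).1 ?_
  rw [MonoidHom.map_closure]
  refine Subgroup.closure_mono ?_ h1
  rintro y ⟨hy, hy1⟩
  rw [← hQc] at hy
  obtain ⟨z, hz, rfl⟩ := hy
  exact ⟨z, ⟨hz, hcinj (by rw [map_pow, hy1, map_one])⟩, rfl⟩

end CfsgLib.PermSylowGen
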