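import Mathlib.GroupTheory.Sylow
import Mathlib.Algebra.Group.Pointwise.Set.Card
import Mathlib.GroupTheory.PGroup
import Mathlib.GroupTheory.GroupAction.Quotient
import Mathlib.GroupTheory.GroupAction.FixingSubgroup
import Mathlib.Combinatorics.Enumerative.DoubleCounting
import Mathlib.Tactic.Linarith

/-!
Orbits of a Sylow subgroup of a transitive group.

For a transitive action of degree `n` on which the prime `p` acts non-trivially a Sylow
`p`-subgroup fixes at most `(p-1) n / (2p-1)` points.  Write `slack = (p-1) n - (2p-1) f`.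
In a minimal counterexample the slack is negative; fixing a point adds `p` to it, and as long
as it is less than `(p-1) p` every suborbit has a fixed point of some Sylow subgroup.
Hence any `p` points are fixed by a common Sylow subgroup, which is absurd for the points of
an orbit of length `p` of a `p`-element.
-/

set_option autoImplicit false

open MulAction
open scoped Classical Pointwise

namespace CfsgLib.Perm.SylowOrbits

universe u v w

variable {p : ℕ} {G : Type u} [Group G] {X : Type v} [MulAction G X]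

/-- `Q` fixes the point `x`. -/
def Fx (Q : Sylow p G) (x : X) : Prop := (Q : Subgroup G) ≤ stabilizer G x

/-- The Sylow subgroups fixing a point. -/
def Sy (p : ℕ) (G : Type u) [Group G] {X : Type v} [MulAction G X] (x : X) : Set (Sylow p G) :=
  {Q | Fx Q x}

theorem fx_smul (Q : Sylow p G) (g : G) (x : X) : Fx (g • Q) (g • x) ↔ Fx Q x := by
  constructor
  · intro h a ha
    have h1 : g * a * g⁻¹ ∈ ((g • Q : Sylow p G) : Subgroup G) := by
      rw [Sylow.coe_subgroup_smul]
      exact Subgroup.smul_mem_pointwise_smul a (MulAut.conj g) _ ha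
    have h2 := mem_stabilizer_iff.1 (h h1)
    rw [mem_stabilizer_iff]
    apply MulAction.injective g
    simpa [mul_smul] using h2
  · intro h b hb
    rw [Sylow.coe_subgroup_smul] at hb
    obtain ⟨a, ha, rfl⟩ := hb
    have h2 : a • x = x := mem_stabilizer_iff.1 (h ha)
    rw [mem_stabilizer_iff]
    simp [mul_smul, h2]

theorem fx_smul' (Q : Sylow p G) (g : G) (x : X) : Fx Q (g • x) ↔ Fx (g⁻¹ • Q) x := by
  rw [← fx_smul (g⁻¹ • Q) g x, smul_inv_smul]

theorem sy_smul (g : G) (x : X) : Sy p G (g • x) = g • Sy p G x := by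
  ext Q
  rw [Set.mem_smul_set_iff_inv_smul_mem]
  exact fx_smul' Q g x

theorem fx_map {W : Type w} [MulAction G W] (φ : X → W)
    (hφ : ∀ (g : G) (x : X), φ (g • x) = g • φ x) (Q : Sylow p G) (x : X) (h : Fx Q x) :
    Fx Q (φ x) := by
  intro a ha
  rw [mem_stabilizer_iff, ← hφ, mem_stabilizer_iff.1 (h ha)]

/-- A Sylow subgroup fixing the set of Sylow subgroups of a point fixes the point. -/
theorem fx_of_fx_sy [Finite G] [Fact p.Prime] (Q : Sylow p G) (x : X)
    (hne : (Sy p G x).Nonempty) (h : Fx Q (Sy p G x)) : Fx Q x := by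
  obtain ⟨R, hR⟩ := hne
  have hR' : (R : Subgroup G) ≤ stabilizer G (Sy p G x) :=
    fx_map (fun y : X => Sy p G y) (fun g y => sy_smul g y) R x hR
  obtain ⟨a, ha⟩ := exists_smul_eq (stabilizer G (Sy p G x)) (R.subtype hR') (Q.subtype h)
  rw [Sylow.smul_subtype] at ha
  have h1 : (a : G) • R = Q := Sylow.subtype_injective ha
  have h2 : (a : G) • R ∈ (a : G) • Sy p G x := Set.smul_mem_smul_set hR
  rw [h1, mem_stabilizer_iff.1 a.2] at h2
  exact h2

/-- The slack of a finite set of points. -/
noncomputable def slack (P : Sylow p G) (s : Finset X) : ℤ :=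
  ((p : ℤ) - 1) * s.card - (2 * (p : ℤ) - 1) * (s.filter (Fx P)).card

/-- Invariance of a finite set of points. -/
def Inv (G : Type u) [Group G] {X : Type v} [MulAction G X] (s : Finset X) : Prop :=
  ∀ g : G, ∀ x ∈ s, g • x ∈ s

/-- No point is fixed by all Sylow subgroups. -/
def NoUniv (p : ℕ) (G : Type u) [Group G] {X : Type v} [MulAction G X] (s : Finset X) : Prop :=
  ∀ x ∈ s, ∃ Q : Sylow p G, ¬ Fx Q x

/-- All orbits in `s` have fewer than `n` points. -/
def Small (n : ℕ) (G : Type u) [Group G] {X : Type v} [MulAction G X] (s : Finset X) : Prop :=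
  ∀ x ∈ s, (orbit G x).ncard < n

/-- The bound for transitive actions of degree less than `n`. -/
def Hyp (p n : ℕ) : Prop :=
  ∀ (G : Type u) [Group G] [Finite G] (X : Type u) [Fintype X] [MulAction G X]
    [IsPretransitive G X], Fintype.card X < n → NoUniv p G (Finset.univ : Finset X) →
      ∀ P : Sylow p G, 0 ≤ slack P (Finset.univ : Finset X)

theorem card_filter_fx [Finite G] [Fact p.Prime] (P Q : Sylow p G) (s : Finset X)
    (hs : Inv G s) : (s.filter (Fx P)).card = (s.filter (Fx Q)).card := by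
  obtain ⟨g, hg⟩ := exists_smul_eq G P Q
  refine Finset.card_bij (fun x _ => g • x) ?_ ?_ ?_
  · intro x hx
    rw [Finset.mem_filter] at hx ⊢
    exact ⟨hs g x hx.1, hg ▸ (fx_smul P g x).2 hx.2⟩
  · intro x _ y _ h
    exact MulAction.injective g h
  · intro y hy
    rw [Finset.mem_filter] at hy
    refine ⟨g⁻¹ • y, ?_, smul_inv_smul g y⟩
    rw [Finset.mem_filter, ← fx_smul P g, smul_inv_smul, hg]
    exact ⟨hs _ y hy.1, hy.2⟩

theorem slack_add (P : Sylow p G) (s t : Finset X) (h : t ⊆ s) :
    slack P s = slack P t + slack P (s \ t) := by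
  have h1 := Finset.card_sdiff_add_card_eq_card h
  have h2 : ((s \ t).filter (Fx P)).card + (t.filter (Fx P)).card = (s.filter (Fx P)).card := by
    rw [← Finset.card_union_of_disjoint (Finset.disjoint_filter_filter Finset.sdiff_disjoint),
      ← Finset.filter_union, Finset.sdiff_union_of_subset h]
  simp only [slack]
  rw [← h1, ← h2]
  push_cast
  ring

theorem Inv.sdiff {s t : Finset X} (hs : Inv G s) (ht : Inv G t) : Inv G (s \ t) := by
  intro g x hx
  rw [Finset.mem_sdiff] at hx ⊢
  refine ⟨hs g x hx.1, fun h => hx.2 ?_⟩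
  have := ht g⁻¹ _ h
  rwa [inv_smul_smul] at this

theorem NoUniv.mono {s t : Finset X} (h : t ⊆ s) (hs : NoUniv p G s) : NoUniv p G t :=
  fun x hx => hs x (h hx)

theorem Small.mono {n : ℕ} {s t : Finset X} (h : t ⊆ s) (hs : Small n G s) : Small n G t :=
  fun x hx => hs x (h hx)

theorem inv_filter_orbit {s : Finset X} (hs : Inv G s) (x : X) :
    Inv G (s.filter (fun y => y ∈ orbit G x)) := by
  intro g y hy
  rw [Finset.mem_filter] at hy ⊢
  obtain ⟨a, ha⟩ := hy.2
  refine ⟨hs g y hy.1, ⟨g * a, ?_⟩⟩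
  simp only at ha ⊢
  rw [mul_smul, ha]

/-- A single orbit of fewer than `n` points has non-negative slack. -/
theorem slack_orbit [Finite G] [Fact p.Prime] {n : ℕ} (hyp : Hyp.{u} p n) (P : Sylow p G)
    {s : Finset X} (hs : Inv G s) {x : X} (hx : x ∈ s) (hU : NoUniv p G s) (hS : Small n G s) :
    0 ≤ slack P (s.filter (fun y => y ∈ orbit G x)) := by
  set O := s.filter (fun y => y ∈ orbit G x)
  let f : G ⧸ stabilizer G x → X := ofQuotientStabilizer G x
  have hf : Function.Injective f := injective_ofQuotientStabilizer G x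
  have hfe : ∀ (g : G) (q : G ⧸ stabilizer G x), f (g • q) = g • f q :=
    fun g q => ofQuotientStabilizer_smul G x g q
  haveI : Fintype (G ⧸ stabilizer G x) := Fintype.ofFinite _
  have hO : O = (Finset.univ : Finset (G ⧸ stabilizer G x)).image f := by
    ext y
    simp only [O, Finset.mem_filter, Finset.mem_image, Finset.mem_univ, true_and]
    constructor
    · rintro ⟨_, g, rfl⟩
      exact ⟨(g : G ⧸ stabilizer G x), ofQuotientStabilizer_mk G x g⟩
    · rintro ⟨q, rfl⟩
      refine QuotientGroup.induction_on q fun g => ?_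
      have : f (g : G ⧸ stabilizer G x) = g • x := ofQuotientStabilizer_mk G x g
      rw [this]
      exact ⟨hs g x hx, ⟨g, rfl⟩⟩
  have hfix : ∀ (Q : Sylow p G) (q : G ⧸ stabilizer G x), Fx Q q ↔ Fx Q (f q) := by
    intro Q q
    refine ⟨fx_map f hfe Q q, fun h a ha => ?_⟩
    rw [mem_stabilizer_iff]
    apply hf
    rw [hfe, mem_stabilizer_iff.1 (h ha)]
  have hn : Fintype.card (G ⧸ stabilizer G x) < n := by
    have h1 := hS x hx
    rw [← Nat.card_eq_fintype_card, ← Subgroup.index_eq_card, index_stabilizer]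
    exact h1
  have hNU : NoUniv p G (Finset.univ : Finset (G ⧸ stabilizer G x)) := by
    intro q _
    have hq : f q ∈ s := by
      have : f q ∈ O := by
        rw [hO]
        exact Finset.mem_image_of_mem f (Finset.mem_univ q)
      exact (Finset.mem_filter.1 this).1
    obtain ⟨Q, hQ⟩ := hU _ hq
    exact ⟨Q, fun h => hQ ((hfix Q q).1 h)⟩
  have h := hyp G (G ⧸ stabilizer G x) hn hNU P
  have hc : (O.filter (Fx P)).card
      = ((Finset.univ : Finset (G ⧸ stabilizer G x)).filter (Fx P)).card := by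
    rw [hO, Finset.filter_image, Finset.card_image_of_injective _ hf]
    congr 1
    ext q
    simp only [Finset.mem_filter, Finset.mem_univ, true_and]
    exact (hfix P q).symm
  simp only [slack] at h ⊢
  rw [hc, hO, Finset.card_image_of_injective _ hf]
  exact h

theorem slack_nonneg [Finite G] [Fact p.Prime] {n : ℕ} (hyp : Hyp.{u} p n) (P : Sylow p G)
    (s : Finset X) : Inv G s → NoUniv p G s → Small n G s → 0 ≤ slack P s := by
  induction s using Finset.strongInduction with
  | H s ih =>
    intro hs hU hS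
    rcases s.eq_empty_or_nonempty with rfl | ⟨x, hx⟩
    · simp [slack]
    · set O := s.filter (fun y => y ∈ orbit G x)
      have hOs : O ⊆ s := Finset.filter_subset _ _
      have hxO : x ∈ O := Finset.mem_filter.2 ⟨hx, mem_orbit_self x⟩
      have h1 : s \ O ⊂ s := Finset.sdiff_ssubset hOs ⟨x, hxO⟩
      have h2 := ih _ h1 (hs.sdiff (inv_filter_orbit hs x)) (hU.mono Finset.sdiff_subset)
        (hS.mono Finset.sdiff_subset)
      have h3 := slack_orbit hyp P hs hx hU hS
      rw [slack_add P s O hOs]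
      exact add_nonneg h3 h2

theorem slack_mono [Finite G] [Fact p.Prime] {n : ℕ} (hyp : Hyp.{u} p n) (P : Sylow p G)
    {s t : Finset X} (h : t ⊆ s) (hs : Inv G s) (ht : Inv G t) (hU : NoUniv p G s)
    (hS : Small n G s) : slack P t ≤ slack P s := by
  rw [slack_add P s t h]
  have := slack_nonneg hyp P (s \ t) (hs.sdiff ht) (hU.mono Finset.sdiff_subset)
    (hS.mono Finset.sdiff_subset)
  linarith

theorem inv_image {W : Type w} [MulAction G W] (φ : X → W)
    (hφ : ∀ (g : G) (x : X), φ (g • x) = g • φ x) {s : Finset X} (hs : Inv G s) :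
    Inv G (s.image φ) := by
  intro g w hw
  obtain ⟨x, hx, rfl⟩ := Finset.mem_image.1 hw
  exact Finset.mem_image.2 ⟨g • x, hs g x hx, hφ g x⟩

theorem noUniv_image {W : Type w} [MulAction G W] (φ : X → W) {s : Finset X}
    (hfix : ∀ (Q : Sylow p G), ∀ x ∈ s, Fx Q (φ x) → Fx Q x) (hU : NoUniv p G s) :
    NoUniv p G (s.image φ) := by
  intro w hw
  obtain ⟨x, hx, rfl⟩ := Finset.mem_image.1 hw
  obtain ⟨Q, hQ⟩ := hU x hx
  exact ⟨Q, fun h => hQ (hfix Q x hx h)⟩

theorem orbit_ncard_map_le [Finite G] {W : Type w} [MulAction G W] (φ : X → W)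
    (hφ : ∀ (g : G) (x : X), φ (g • x) = g • φ x) (x : X) :
    (orbit G (φ x)).ncard ≤ (orbit G x).ncard := by
  have h : orbit G (φ x) = φ '' orbit G x := by
    ext w
    constructor
    · rintro ⟨g, rfl⟩
      exact ⟨g • x, ⟨g, rfl⟩, hφ g x⟩
    · rintro ⟨_, ⟨g, rfl⟩, rfl⟩
      exact ⟨g, (hφ g x).symm⟩
  rw [h]
  exact Set.ncard_image_le (Finite.finite_mulAction_orbit x)

theorem slack_image [Finite G] [Fact p.Prime] {n : ℕ} (hyp : Hyp.{u} p n) (P : Sylow p G)
    {W : Type w} [MulAction G W] (φ : X → W) (hφ : ∀ (g : G) (x : X), φ (g • x) = g • φ x)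
    (s : Finset X) :
    Inv G s → (∀ (Q : Sylow p G), ∀ x ∈ s, Fx Q (φ x) → Fx Q x) → NoUniv p G s →
      Small n G (s.image φ) → slack P (s.image φ) ≤ slack P s := by
  induction s using Finset.strongInduction with
  | H s ih =>
    intro hs hfix hU hS
    rcases s.eq_empty_or_nonempty with rfl | ⟨x, hx⟩
    · simp [slack]
    · have hsi := inv_image φ hφ hs
      set O := (s.image φ).filter (fun w => w ∈ orbit G (φ x))
      have hOi : Inv G O := inv_filter_orbit hsi _
      set Y := s.filter (fun y => φ y ∈ O)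
      have hYs : Y ⊆ s := Finset.filter_subset _ _
      have hYi : Inv G Y := by
        intro g y hy
        rw [Finset.mem_filter] at hy ⊢
        exact ⟨hs g y hy.1, (hφ g y).symm ▸ hOi g _ hy.2⟩
      have hxO : φ x ∈ O :=
        Finset.mem_filter.2 ⟨Finset.mem_image_of_mem φ hx, mem_orbit_self _⟩
      have hxY : x ∈ Y := Finset.mem_filter.2 ⟨hx, hxO⟩
      -- the fibres over the orbit all have the same size
      set c := (Y.filter (fun y => φ y = φ x)).card
      have hcpos : 1 ≤ c := Finset.card_pos.2 ⟨x, Finset.mem_filter.2 ⟨hxY, rfl⟩⟩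
      have hfib : ∀ w ∈ O, (Y.filter (fun y => φ y = w)).card = c := by
        intro w hw
        obtain ⟨g, hg⟩ := (Finset.mem_filter.1 hw).2
        simp only at hg
        symm
        refine Finset.card_bij (fun y _ => g • y) ?_ ?_ ?_
        · intro y hy
          rw [Finset.mem_filter] at hy ⊢
          exact ⟨hYi g y hy.1, by rw [hφ, hy.2, hg]⟩
        · intro y _ z _ h
          exact MulAction.injective g h
        · intro z hz
          rw [Finset.mem_filter] at hz
          refine ⟨g⁻¹ • z, Finset.mem_filter.2 ⟨hYi _ z hz.1, ?_⟩, smul_inv_smul g z⟩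
          rw [hφ, hz.2, ← hg, inv_smul_smul]
      have hYc : Y.card = c * O.card := by
        rw [Finset.card_eq_sum_card_fiberwise (f := φ) (s := Y) (t := O)
          (fun y hy => (Finset.mem_filter.1 hy).2)]
        rw [Finset.sum_congr rfl hfib, Finset.sum_const, smul_eq_mul, mul_comm]
      have hYf : (Y.filter (Fx P)).card = c * (O.filter (Fx P)).card := by
        rw [Finset.card_eq_sum_card_fiberwise (f := φ) (s := Y.filter (Fx P))
          (t := O.filter (Fx P)) (fun y hy => by
            simp only [Finset.coe_filter, Set.mem_setOf_eq] at hy ⊢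
            exact ⟨(Finset.mem_filter.1 hy.1).2, fx_map φ hφ P y hy.2⟩)]
        rw [Finset.sum_congr rfl (g := fun _ => c), Finset.sum_const, smul_eq_mul, mul_comm]
        intro w hw
        rw [Finset.mem_filter] at hw
        rw [← hfib w hw.1, Finset.filter_filter]
        congr 1
        apply Finset.filter_congr
        intro y hy
        constructor
        · exact fun h => h.2
        · intro h
          exact ⟨hfix P y (hYs hy) (h ▸ hw.2), h⟩
      have hO0 : 0 ≤ slack P O :=
        slack_orbit hyp P hsi (Finset.mem_image_of_mem φ hx) (noUniv_image φ hfix hU) hS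
      have hY : slack P O ≤ slack P Y := by
        have h1 : slack P Y = (c : ℤ) * slack P O := by
          simp only [slack]
          rw [hYc, hYf]
          push_cast
          ring
        rw [h1]
        exact le_mul_of_one_le_left hO0 (by exact_mod_cast hcpos)
      -- the rest
      have hrest : (s \ Y).image φ = s.image φ \ O := by
        ext w
        simp only [Y, Finset.mem_image, Finset.mem_sdiff, Finset.mem_filter]
        constructor
        · rintro ⟨y, ⟨hy, hn⟩, rfl⟩
          exact ⟨⟨y, hy, rfl⟩, fun h => hn ⟨hy, h⟩⟩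
        · rintro ⟨⟨y, hy, rfl⟩, hn⟩
          exact ⟨y, ⟨hy, fun h => hn h.2⟩, rfl⟩
      have h1 : s \ Y ⊂ s := Finset.sdiff_ssubset hYs ⟨x, hxY⟩
      have h2 := ih _ h1 (hs.sdiff hYi) (fun Q y hy => hfix Q y (Finset.sdiff_subset hy))
        (hU.mono Finset.sdiff_subset) (hS.mono (Finset.image_subset_image Finset.sdiff_subset))
      rw [hrest] at h2
      rw [slack_add P s Y hYs, slack_add P (s.image φ) O (Finset.filter_subset _ _)]
      linarith

/-- Passing to a subgroup that contains a Sylow subgroup. -/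
theorem exists_sylow_subtype [Finite G] [Fact p.Prime] {H : Subgroup G} (R : Sylow p G)
    (hR : (R : Subgroup G) ≤ H) (Q' : Sylow p H) :
    ∃ (Q : Sylow p G) (hQ : (Q : Subgroup G) ≤ H), Q.subtype hQ = Q' := by
  obtain ⟨a, ha⟩ := exists_smul_eq H (R.subtype hR) Q'
  rw [Sylow.smul_subtype] at ha
  exact ⟨_, _, ha⟩

theorem fx_subtype {H : Subgroup G} (Q : Sylow p G) (hQ : (Q : Subgroup G) ≤ H) (x : X) :
    Fx (Q.subtype hQ) x ↔ Fx Q x := by
  constructor
  · intro h a ha
    have h1 : (⟨a, hQ ha⟩ : H) ∈ ((Q.subtype hQ : Sylow p H) : Subgroup H) := by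
      rw [Sylow.coe_subtype]
      exact Subgroup.mem_subgroupOf.2 ha
    exact mem_stabilizer_iff.1 (h h1)
  · intro h a ha
    rw [Sylow.coe_subtype] at ha
    exact mem_stabilizer_iff.1 (h (Subgroup.mem_subgroupOf.1 ha))

/-- Removing a point fixed by `R` and passing to its stabilizer adds `p` to the slack. -/
theorem slack_erase (P : Sylow p G) {s : Finset X} {x : X} (hx : x ∈ s) (hP : Fx P x) :
    slack (P.subtype hP) (s.erase x) = slack P s + p := by
  have h1 : (((s.erase x).filter (Fx (P.subtype hP))).card : ℤ)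
      = (s.filter (Fx P)).card - 1 := by
    have h2 : (s.erase x).filter (Fx (P.subtype hP)) = (s.filter (Fx P)).erase x := by
      rw [← Finset.filter_erase]
      exact Finset.filter_congr fun y _ => fx_subtype P hP y
    rw [h2, Finset.card_erase_of_mem (Finset.mem_filter.2 ⟨hx, hP⟩),
      Nat.cast_sub (Finset.card_pos.2 ⟨x, Finset.mem_filter.2 ⟨hx, hP⟩⟩ : 1 ≤ _)]
    simp
  have h3 : ((s.erase x).card : ℤ) = s.card - 1 := by
    rw [Finset.card_erase_of_mem hx,
      Nat.cast_sub (Finset.card_pos.2 ⟨x, hx⟩ : 1 ≤ _)]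
    simp
  simp only [slack]
  rw [h1, h3]
  ring

theorem inv_erase {s : Finset X} (hs : Inv G s) (x : X) : Inv (stabilizer G x) (s.erase x) := by
  intro g y hy
  rw [Finset.mem_erase] at hy ⊢
  refine ⟨fun h => hy.1 ?_, hs g y hy.2⟩
  apply MulAction.injective (g : G)
  exact h.trans (mem_stabilizer_iff.1 g.2).symm

theorem orbit_subgroup_ncard_le [Finite G] (H : Subgroup G) (x : X) :
    (orbit H x).ncard ≤ (orbit G x).ncard := by
  refine Set.ncard_le_ncard ?_ (Finite.finite_mulAction_orbit x)
  rintro y ⟨g, rfl⟩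
  exact ⟨(g : G), rfl⟩

/-- An orbit with no fixed point of a Sylow subgroup. -/
theorem le_slack_of_no_fixed [Finite G] [Fact p.Prime] (P : Sylow p G) {s : Finset X}
    (hs : Inv G s) {x : X} (hx : x ∈ s) (hno : ∀ Q : Sylow p G, ¬ Fx Q x) :
    ((p : ℤ) - 1) * p ≤ slack P (s.filter (fun y => y ∈ orbit G x)) := by
  set O := s.filter (fun y => y ∈ orbit G x)
  have h0 : O.filter (Fx P) = ∅ := by
    rw [Finset.filter_eq_empty_iff]
    intro y hy h
    obtain ⟨g, rfl⟩ := (Finset.mem_filter.1 hy).2
    exact hno _ ((fx_smul' P g x).1 h)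
  have hp : p ≤ O.card := by
    let t : SubMulAction (P : Subgroup G) X :=
      { carrier := (O : Set X)
        smul_mem' := fun a y hy => inv_filter_orbit hs x (a : G) y hy }
    haveI : Finite t := (Finset.finite_toSet O).to_subtype
    have hdvd : p ∣ Nat.card t := by
      have h1 := P.isPGroup'.card_modEq_card_fixedPoints t
      have h2 : fixedPoints (P : Subgroup G) t = ∅ := by
        rw [Set.eq_empty_iff_forall_notMem]
        intro y hy
        have : (y : X) ∈ O.filter (Fx P) := by
          refine Finset.mem_filter.2 ⟨y.2, fun a ha => ?_⟩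
          exact congrArg Subtype.val (hy ⟨a, ha⟩)
        rw [h0] at this
        exact absurd this (Finset.notMem_empty _)
      rw [h2] at h1
      simp only [Nat.card_of_isEmpty] at h1
      exact Nat.modEq_zero_iff_dvd.1 h1
    have hc : Nat.card t = O.card := Nat.card_eq_finsetCard O
    rw [hc] at hdvd
    exact Nat.le_of_dvd (Finset.card_pos.2 ⟨x, Finset.mem_filter.2 ⟨hx, mem_orbit_self x⟩⟩) hdvd
  simp only [slack]
  rw [h0, Finset.card_empty]
  have h1 : (1 : ℤ) ≤ p := by exact_mod_cast (Fact.out : p.Prime).one_le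
  have h2 : (p : ℤ) ≤ O.card := by exact_mod_cast hp
  have h3 := mul_le_mul_of_nonneg_left h2 (sub_nonneg.2 h1)
  push_cast
  linarith

/-- No Sylow subgroup fixes all points of a `p`-cycle of a `p`-element. -/
theorem not_fixed_cycle [Finite G] [Fact p.Prime] (P : Sylow p G) {g : G}
    (hg : g ∈ (P : Subgroup G)) {x₀ : X} (hgp : g ^ p • x₀ = x₀) (hgx : g • x₀ ≠ x₀)
    (Q : Sylow p G) (hQ : ∀ i < p, Fx Q (g ^ i • x₀)) : False := by
  have hp1 : 1 ≤ p := (Fact.out : p.Prime).one_le
  set Γ := (Finset.range p).image (fun i => g ^ i • x₀)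
  have hx₀Γ : x₀ ∈ Γ :=
    Finset.mem_image.2 ⟨0, Finset.mem_range.2 hp1, by rw [pow_zero, one_smul]⟩
  set M := fixingSubgroup G (Γ : Set X)
  have hQM : (Q : Subgroup G) ≤ M := by
    intro a ha
    rw [mem_fixingSubgroup_iff]
    intro y hy
    obtain ⟨i, hi, rfl⟩ := Finset.mem_image.1 hy
    exact mem_stabilizer_iff.1 (hQ i (Finset.mem_range.1 hi) ha)
  have hgΓ : ∀ i : ℕ, g ^ i • x₀ ∈ Γ := by
    intro i
    refine Finset.mem_image.2 ⟨i % p, Finset.mem_range.2 (Nat.mod_lt _ hp1), ?_⟩
    have h1 : ∀ k : ℕ, g ^ (p * k) • x₀ = x₀ := by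
      intro k
      induction k with
      | zero => rw [Nat.mul_zero, pow_zero, one_smul]
      | succ k ihk => rw [Nat.mul_succ, pow_add, mul_smul, hgp, ihk]
    conv_rhs => rw [← Nat.mod_add_div i p, pow_add, mul_smul, h1]
  have hin : ∀ y ∈ Γ, g • y ∈ Γ ∧ g⁻¹ • y ∈ Γ := by
    intro y hy
    obtain ⟨i, -, rfl⟩ := Finset.mem_image.1 hy
    constructor
    · rw [smul_smul, ← pow_succ']
      exact hgΓ _
    · have : g⁻¹ • g ^ i • x₀ = g ^ (i + (p - 1)) • x₀ := by
        rw [inv_smul_eq_iff, smul_smul, ← pow_succ', add_assoc, Nat.sub_add_cancel hp1, pow_add,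
          mul_smul, hgp]
      rw [this]
      exact hgΓ _
  have hgN : g ∈ Subgroup.normalizer (M : Set G) := by
    rw [Subgroup.mem_normalizer_iff]
    intro a
    simp only [M, mem_fixingSubgroup_iff]
    constructor
    · intro ha y hy
      rw [mul_smul, mul_smul, ha _ (hin y hy).2, smul_inv_smul]
    · intro ha y hy
      have := ha _ (hin y hy).1
      rw [mul_smul, mul_smul, inv_smul_smul] at this
      exact MulAction.injective g this
  have hpK : IsPGroup p (Subgroup.zpowers (⟨g, hgN⟩ : Subgroup.normalizer (M : Set G))) := by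
    intro a
    obtain ⟨i, hi⟩ := Subgroup.mem_zpowers_iff.1 a.2
    have haP : ((a : Subgroup.normalizer (M : Set G)) : G) ∈ (P : Subgroup G) := by
      rw [← hi]
      push_cast
      exact zpow_mem hg i
    obtain ⟨k, hk⟩ := P.isPGroup' ⟨_, haP⟩
    refine ⟨k, Subtype.ext (Subtype.ext ?_)⟩
    have hk' := congrArg Subtype.val hk
    simpa using hk'
  obtain ⟨T, hT⟩ := hpK.exists_le_sylow
  obtain ⟨T', hT', rfl⟩ := exists_sylow_subtype Q (hQM.trans Subgroup.le_normalizer) T
  obtain ⟨c, hc⟩ := exists_smul_eq (Subgroup.normalizer (M : Set G))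
    (Q.subtype (hQM.trans Subgroup.le_normalizer)) (T'.subtype hT')
  rw [Sylow.smul_subtype] at hc
  have hc' : (c : G) • Q = T' := Sylow.subtype_injective hc
  have hgT : g ∈ (T' : Subgroup G) := by
    have := hT (Subgroup.mem_zpowers (⟨g, hgN⟩ : Subgroup.normalizer (M : Set G)))
    rw [Sylow.coe_subtype] at this
    exact Subgroup.mem_subgroupOf.1 this
  rw [← hc', Sylow.coe_subgroup_smul] at hgT
  obtain ⟨d, hd, hdg⟩ := hgT
  have hgM : g ∈ M := by
    rw [← hdg]
    simpa using (Subgroup.mem_normalizer_iff.1 c.2 d).1 (hQM hd)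
  exact hgx ((mem_fixingSubgroup_iff G).1 hgM x₀ hx₀Γ)

/-- A Sylow subgroup moving a point has an element with a cycle of length p through it. -/
theorem exists_cycle (P : Sylow p G) {x : X} (hP : ¬ Fx P x) :
    ∃ g : G, g ∈ (P : Subgroup G) ∧ g ^ p • x = x ∧ g • x ≠ x := by
  obtain ⟨b, hb, hbx⟩ := SetLike.not_le_iff_exists.1 hP
  have hex : ∃ k : ℕ, b ^ p ^ k • x = x := by
    obtain ⟨k, hk⟩ := P.isPGroup' ⟨b, hb⟩
    refine ⟨k, ?_⟩
    have hk' : b ^ p ^ k = 1 := congrArg Subtype.val hk
    rw [hk', one_smul]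
  have hk0 : Nat.find hex ≠ 0 := by
    intro h
    have := Nat.find_spec hex
    rw [h, pow_zero, pow_one] at this
    exact hbx this
  obtain ⟨k, hk⟩ := Nat.exists_eq_succ_of_ne_zero hk0
  refine ⟨b ^ p ^ k, pow_mem hb _, ?_, Nat.find_min hex (by omega)⟩
  have := Nat.find_spec hex
  rw [hk, pow_succ, pow_mul] at this
  exact this

/-- With small slack, few points are fixed by a common Sylow subgroup. -/
theorem cover [Fact p.Prime] {n : ℕ} (hyp : Hyp.{u} p n) :
    ∀ (m j : ℕ), m + j ≤ p → ∀ (G : Type u) [Group G] [Finite G] (X : Type u) [MulAction G X]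
      (P : Sylow p G) (s : Finset X), Inv G s → NoUniv p G s → Small n G s →
      slack P s < (j : ℤ) * p → ∀ L : Finset X, L ⊆ s → L.card ≤ m →
      ∃ Q : Sylow p G, ∀ x ∈ L, Fx Q x := by
  intro m
  induction m with
  | zero =>
    intro j _ G _ _ X _ P s _ _ _ _ L _ hL
    refine ⟨P, fun x hx => ?_⟩
    rw [Finset.card_eq_zero.1 (Nat.le_zero.1 hL)] at hx
    exact absurd hx (Finset.notMem_empty x)
  | succ m ih =>
    intro j hj G _ _ X _ P s hs hU hS ht L hLs hL
    rcases L.eq_empty_or_nonempty with rfl | hLne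
    · exact ⟨P, fun x hx => absurd hx (Finset.notMem_empty x)⟩
    -- the orbits of the given points
    set Y := s.filter (fun y => ∃ x ∈ L, y ∈ orbit G x)
    have hYs : Y ⊆ s := Finset.filter_subset _ _
    have hYi : Inv G Y := by
      intro g y hy
      rw [Finset.mem_filter] at hy ⊢
      obtain ⟨hy1, x, hxL, a, ha⟩ := hy
      refine ⟨hs g y hy1, x, hxL, g * a, ?_⟩
      simp only at ha ⊢
      rw [mul_smul, ha]
    have hne : ∀ y ∈ Y, (Sy p G y).Nonempty := by
      intro y hy
      by_contra hno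
      have hno' : ∀ Q : Sylow p G, ¬ Fx Q y := fun Q h => hno ⟨Q, h⟩
      have h1 := le_slack_of_no_fixed P hs (hYs hy) hno'
      have h2 := slack_mono hyp P (Finset.filter_subset (fun z => z ∈ orbit G y) s) hs
        (inv_filter_orbit hs y) hU hS
      have h3 : (j : ℤ) ≤ (p : ℤ) - 1 := by omega
      have h4 := mul_le_mul_of_nonneg_right h3 (Int.natCast_nonneg p)
      linarith
    -- the sets of Sylow subgroups
    set φ : X → Set (Sylow p G) := fun y => Sy p G y
    have hφ : ∀ (g : G) (y : X), φ (g • y) = g • φ y := fun g y => sy_smul g y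
    have hfix : ∀ (Q : Sylow p G), ∀ y ∈ Y, Fx Q (φ y) → Fx Q y :=
      fun Q y hy h => fx_of_fx_sy Q y (hne y hy) h
    set W := Y.image φ
    have hWi : Inv G W := inv_image φ hφ hYi
    have hWS : Small n G W := by
      intro w hw
      obtain ⟨y, hy, rfl⟩ := Finset.mem_image.1 hw
      exact lt_of_le_of_lt (orbit_ncard_map_le φ hφ y) (hS y (hYs hy))
    have hWU : NoUniv p G W := noUniv_image φ hfix (hU.mono hYs)
    have hWt : slack P W < (j : ℤ) * p :=
      lt_of_le_of_lt ((slack_image hyp P φ hφ Y hYi hfix (hU.mono hYs) hWS).trans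
        (slack_mono hyp P hYs hs hYi hU hS)) ht
    have hLY : L ⊆ Y := fun x hx => Finset.mem_filter.2 ⟨hLs hx, x, hx, mem_orbit_self x⟩
    -- one of the largest
    obtain ⟨S, hSL, hmax⟩ := Finset.exists_max_image (L.image φ) Set.ncard (hLne.image φ)
    have hmaxW : ∀ w ∈ W, w.ncard ≤ S.ncard := by
      intro w hw
      obtain ⟨y, hy, rfl⟩ := Finset.mem_image.1 hw
      obtain ⟨_, x, hxL, g, rfl⟩ := Finset.mem_filter.1 hy
      calc (φ (g • x)).ncard = (g • φ x).ncard := by rw [hφ]
        _ = (φ x).ncard := Set.ncard_smul_set g (φ x)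
        _ ≤ S.ncard := hmax _ (Finset.mem_image_of_mem φ hxL)
    have hSW : S ∈ W := Finset.image_subset_image hLY hSL
    obtain ⟨y₀, hy₀, hy₀S⟩ := Finset.mem_image.1 hSW
    obtain ⟨R, hR⟩ := hne y₀ hy₀
    have hRS : Fx R S := hy₀S ▸ fx_map φ hφ R y₀ hR
    set H := stabilizer G S
    have hU' : NoUniv p H (W.erase S) := by
      intro w hw
      rw [Finset.mem_erase] at hw
      by_contra hall
      push Not at hall
      apply hw.1
      obtain ⟨y, hy, rfl⟩ := Finset.mem_image.1 hw.2
      have hsub : S ⊆ φ y := by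
        intro Q hQ
        have hQy₀ : Fx Q y₀ := by
          rw [← hy₀S] at hQ
          exact hQ
        have hQS : Fx Q S := hy₀S ▸ fx_map φ hφ Q y₀ hQy₀
        exact hfix Q y hy ((fx_subtype Q hQS _).1 (hall _))
      exact (Set.eq_of_subset_of_ncard_le hsub (hmaxW _ hw.2) (Set.toFinite _)).symm
    have hS' : Small n H (W.erase S) := fun w hw =>
      lt_of_le_of_lt (orbit_subgroup_ncard_le H w) (hWS w (Finset.mem_of_mem_erase hw))
    have ht' : slack (R.subtype hRS) (W.erase S) < ((j + 1 : ℕ) : ℤ) * p := by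
      have h1 : slack R W = slack P W := by
        simp only [slack]
        rw [card_filter_fx R P W hWi]
      rw [show slack (R.subtype hRS) (W.erase S) = slack R W + p from slack_erase R hSW hRS, h1]
      push_cast
      linarith
    obtain ⟨Q', hQ'⟩ := ih (j + 1) (by omega) H (Set (Sylow p G)) (R.subtype hRS) (W.erase S)
      (inv_erase hWi S) hU' hS' ht' ((L.image φ).erase S)
      (Finset.erase_subset_erase S (Finset.image_subset_image hLY)) (by
        rw [Finset.card_erase_of_mem hSL]
        have := Finset.card_image_le (s := L) (f := φ)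
        omega)
    obtain ⟨Q, hQ, rfl⟩ := exists_sylow_subtype R hRS Q'
    refine ⟨Q, fun x hx => hfix Q x (hLY hx) ?_⟩
    by_cases hxS : φ x = S
    · rw [hxS]
      exact hQ
    · exact (fx_subtype Q hQ _).1
        (hQ' _ (Finset.mem_erase.2 ⟨hxS, Finset.mem_image_of_mem φ hx⟩))

/-- The bound holds for every degree. -/
theorem hyp_all [Fact p.Prime] : ∀ n : ℕ, Hyp.{u} p n := by
  intro n
  induction n with
  | zero => exact fun G _ _ X _ _ _ h => absurd h (Nat.not_lt_zero _)
  | succ n ih =>
    intro G _ _ X _ _ _ hn hU P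
    rcases Nat.lt_succ_iff_lt_or_eq.1 hn with hlt | heq
    · exact ih G X hlt hU P
    by_contra hneg
    push Not at hneg
    have hinv : Inv G (Finset.univ : Finset X) := fun g x _ => Finset.mem_univ _
    have hp1 : 1 ≤ p := (Fact.out : p.Prime).one_le
    -- some point is fixed, hence every point is fixed by a Sylow subgroup
    have hne : ∀ x : X, (Sy p G x).Nonempty := by
      intro x
      by_contra hno
      have h0 : (Finset.univ : Finset X).filter (Fx P) = ∅ := by
        rw [Finset.filter_eq_empty_iff]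
        intro y _ h
        obtain ⟨g, rfl⟩ := exists_smul_eq G x y
        exact hno ⟨_, (fx_smul' P g x).1 h⟩
      rw [slack, h0, Finset.card_empty] at hneg
      have : (0 : ℤ) ≤ ((p : ℤ) - 1) * (Finset.univ : Finset X).card :=
        mul_nonneg (by omega) (Int.natCast_nonneg _)
      push_cast at hneg
      linarith
    set φ : X → Set (Sylow p G) := fun y => Sy p G y
    have hφ : ∀ (g : G) (y : X), φ (g • y) = g • φ y := fun g y => sy_smul g y
    have hfix : ∀ (Q : Sylow p G), ∀ y ∈ (Finset.univ : Finset X), Fx Q (φ y) → Fx Q y :=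
      fun Q y _ h => fx_of_fx_sy Q y (hne y) h
    -- the map to sets of Sylow subgroups is injective
    have hinj : Function.Injective φ := by
      by_contra hni
      have hlt : ((Finset.univ : Finset X).image φ).card < n := by
        rw [← heq, ← Finset.card_univ]
        apply lt_of_le_of_ne Finset.card_image_le
        intro h
        apply hni
        intro a b hab
        exact Finset.card_image_iff.1 h (Finset.mem_univ a) (Finset.mem_univ b) hab
      have hS : Small n G ((Finset.univ : Finset X).image φ) := by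
        intro w hw
        refine lt_of_le_of_lt ?_ hlt
        rw [← Set.ncard_coe_finset]
        refine Set.ncard_le_ncard ?_ (Set.toFinite _)
        rintro v ⟨g, rfl⟩
        exact inv_image φ hφ hinv g w hw
      have h1 := slack_nonneg ih P _ (inv_image φ hφ hinv) (noUniv_image φ hfix hU) hS
      have h2 := slack_image ih P φ hφ _ hinv hfix hU hS
      linarith
    -- a moved point with a cycle of length p
    obtain ⟨x₀, g, hg, hgp, hgx⟩ : ∃ (x₀ : X) (g : G),
        g ∈ (P : Subgroup G) ∧ g ^ p • x₀ = x₀ ∧ g • x₀ ≠ x₀ := by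
      obtain ⟨x₁, -⟩ : (Finset.univ : Finset X).Nonempty := by
        rw [Finset.nonempty_iff_ne_empty]
        intro h0
        rw [slack, h0] at hneg
        simp at hneg
      obtain ⟨Q, hQ⟩ := hU x₁ (Finset.mem_univ _)
      obtain ⟨a, ha⟩ := exists_smul_eq G Q P
      have hP : ¬ Fx P (a • x₁) := by
        rw [← ha, fx_smul]
        exact hQ
      exact ⟨a • x₁, exists_cycle P hP⟩
    -- any p points including `x₀` have a common Sylow subgroup
    set Γ := (Finset.range p).image (fun i => g ^ i • x₀)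
    have hx₀Γ : x₀ ∈ Γ :=
      Finset.mem_image.2 ⟨0, Finset.mem_range.2 hp1, by rw [pow_zero, one_smul]⟩
    obtain ⟨R, hR⟩ := hne x₀
    have hU' : NoUniv p (stabilizer G x₀) ((Finset.univ : Finset X).erase x₀) := by
      intro y hy
      by_contra hall
      push Not at hall
      apply (Finset.mem_erase.1 hy).1
      apply hinj
      have hsub : φ x₀ ⊆ φ y := fun Q hQ => (fx_subtype Q hQ _).1 (hall _)
      obtain ⟨a, rfl⟩ := exists_smul_eq G x₀ y
      refine (Set.eq_of_subset_of_ncard_le hsub ?_ (Set.toFinite _)).symm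
      rw [hφ, Set.ncard_smul_set]
    have hS' : Small n (stabilizer G x₀) ((Finset.univ : Finset X).erase x₀) := by
      intro y hy
      have h1 : orbit (stabilizer G x₀) y
          ⊆ (((Finset.univ : Finset X).erase x₀ : Finset X) : Set X) := by
        rintro z ⟨a, rfl⟩
        exact inv_erase hinv x₀ a y hy
      refine lt_of_le_of_lt (Set.ncard_le_ncard h1 (Set.toFinite _)) ?_
      rw [Set.ncard_coe_finset, Finset.card_erase_of_mem (Finset.mem_univ _), Finset.card_univ,
        heq]
      have : 0 < n := heq ▸ Fintype.card_pos_iff.2 ⟨x₀⟩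
      omega
    have ht' : slack (R.subtype hR) ((Finset.univ : Finset X).erase x₀) < ((1 : ℕ) : ℤ) * p := by
      have h1 : slack R (Finset.univ : Finset X) = slack P (Finset.univ : Finset X) := by
        simp only [slack]
        rw [card_filter_fx R P _ hinv]
      rw [slack_erase R (Finset.mem_univ x₀) hR, h1]
      push_cast
      linarith
    obtain ⟨Q', hQ'⟩ := cover ih (p - 1) 1 (by omega) (stabilizer G x₀) X (R.subtype hR)
      ((Finset.univ : Finset X).erase x₀) (inv_erase hinv x₀) hU' hS' ht' (Γ.erase x₀)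
      (Finset.erase_subset_erase _ (Finset.subset_univ _)) (by
        rw [Finset.card_erase_of_mem hx₀Γ]
        have := Finset.card_image_le (s := Finset.range p) (f := fun i => g ^ i • x₀)
        rw [Finset.card_range] at this
        exact Nat.sub_le_sub_right this 1)
    obtain ⟨Q, hQ, rfl⟩ := exists_sylow_subtype R hR Q'
    -- contradiction
    refine not_fixed_cycle P hg hgp hgx Q fun i hi => ?_
    by_cases hyx : g ^ i • x₀ = x₀
    · rw [hyx]
      exact hQ
    · exact (fx_subtype Q hQ _).1
        (hQ' _ (Finset.mem_erase.2 ⟨hyx, Finset.mem_image.2 ⟨i, Finset.mem_range.2 hi, rfl⟩⟩))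

/-- The fixed point bound. -/
theorem slack_transitive [Finite G] [Fact p.Prime] [Fintype X] [IsPretransitive G X]
    (hU : NoUniv p G (Finset.univ : Finset X)) (P : Sylow p G) :
    0 ≤ slack P (Finset.univ : Finset X) :=
  slack_nonneg (hyp_all (Fintype.card X + 1)) P _ (fun g x _ => Finset.mem_univ _) hU
    fun x _ => Nat.lt_succ_of_le (by
      rw [← Nat.card_eq_fintype_card, ← Set.ncard_univ]
      exact Set.ncard_le_ncard (Set.subset_univ _) (Set.toFinite _))

/-- The number of orbits of a p-group. -/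
theorem orbit_count [Fact p.Prime] [Fintype X] (P : Sylow p G) :
    (p : ℤ) * Nat.card (orbitRel.Quotient (P : Subgroup G) X) ≤
      Fintype.card X + ((p : ℤ) - 1) * ((Finset.univ : Finset X).filter (Fx P)).card := by
  let Q := orbitRel.Quotient (P : Subgroup G) X
  haveI : Fintype Q := Fintype.ofFinite _
  have hsum : Fintype.card X = ∑ q : Q, Nat.card q.orbit := by
    rw [← Nat.card_eq_fintype_card, ← Nat.card_sigma]
    exact Nat.card_congr (selfEquivSigmaOrbits' (P : Subgroup G) X)
  set S := (Finset.univ : Finset Q).filter (fun q => Nat.card q.orbit = 1)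
  have hS : S.card ≤ ((Finset.univ : Finset X).filter (Fx P)).card := by
    refine Finset.card_le_card_of_injOn (fun q => q.out) ?_ ?_
    · intro q hq
      simp only [S, Finset.coe_filter, Set.mem_setOf_eq, Finset.mem_univ, true_and] at hq ⊢
      intro a ha
      rw [mem_stabilizer_iff]
      have h1 := (Nat.card_eq_one_iff_unique.1 hq).1
      have hm : ∀ z ∈ orbit (P : Subgroup G) q.out, z ∈ q.orbit := by
        intro z hz
        rw [orbitRel.Quotient.orbit_eq_orbit_out q Quotient.out_eq']
        exact hz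
      exact congrArg Subtype.val (h1.elim ⟨_, hm _ ⟨⟨a, ha⟩, rfl⟩⟩ ⟨_, hm _ (mem_orbit_self _)⟩)
    · intro a _ b _ h
      exact Quotient.out_injective h
  have hq : ∀ q : Q, (p : ℤ) ≤ Nat.card q.orbit + if q ∈ S then (p : ℤ) - 1 else 0 := by
    intro q
    rw [orbitRel.Quotient.orbit_eq_orbit_out q Quotient.out_eq']
    obtain ⟨k, hk⟩ := P.isPGroup'.card_orbit q.out
    have hmem : q ∈ S ↔ Nat.card (orbit (P : Subgroup G) q.out) = 1 := by
      simp only [S, Finset.mem_filter, Finset.mem_univ, true_and,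
        orbitRel.Quotient.orbit_eq_orbit_out q Quotient.out_eq']
    by_cases h : q ∈ S
    · rw [if_pos h, hmem.1 h]
      push_cast
      linarith
    · rw [if_neg h, hk, add_zero]
      have : k ≠ 0 := fun hk0 => h (hmem.2 (by rw [hk, hk0, pow_zero]))
      exact_mod_cast Nat.le_self_pow this p
  have h1 := Finset.sum_le_sum (s := (Finset.univ : Finset Q)) fun q _ => hq q
  rw [Finset.sum_const, Finset.sum_add_distrib, Finset.sum_ite_mem, Finset.univ_inter,
    Finset.sum_const, Finset.card_univ] at h1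
  simp only [nsmul_eq_mul] at h1
  rw [Nat.card_eq_fintype_card, hsum]
  push_cast
  have hp : (1 : ℤ) ≤ p := by exact_mod_cast (Fact.out : p.Prime).one_le
  have h2 : (S.card : ℤ) * ((p : ℤ) - 1)
      ≤ (((Finset.univ : Finset X).filter (Fx P)).card : ℤ) * ((p : ℤ) - 1) :=
    mul_le_mul_of_nonneg_right (by exact_mod_cast hS) (by linarith)
  linarith

/-- The orbit count bound. -/
theorem orbit_bound [Finite G] [Fact p.Prime] [Fintype X] [IsPretransitive G X]
    [FaithfulSMul G X] (hpG : p ∣ Nat.card G) (P : Sylow p G) :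
    (2 * p - 1) * Nat.card (orbitRel.Quotient (P : Subgroup G) X) ≤ p * Fintype.card X := by
  have hU : NoUniv p G (Finset.univ : Finset X) := by
    intro x _
    by_contra hall
    push Not at hall
    apply P.ne_bot_of_dvd_card hpG
    rw [eq_bot_iff]
    intro a ha
    rw [Subgroup.mem_bot]
    apply eq_of_smul_eq_smul (α := X)
    intro y
    obtain ⟨g, rfl⟩ := exists_smul_eq G x y
    rw [one_smul]
    exact mem_stabilizer_iff.1 ((fx_smul' P g x).2 (hall _) ha)
  have h1 := slack_transitive hU P
  have h2 := orbit_count P (X := X)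
  have hp : (1 : ℤ) ≤ p := by exact_mod_cast (Fact.out : p.Prime).one_le
  rw [slack, Finset.card_univ] at h1
  zify [show 1 ≤ 2 * p from by have := (Fact.out : p.Prime).one_le; omega]
  nlinarith [mul_le_mul_of_nonneg_left h2 (show (0 : ℤ) ≤ 2 * p - 1 by linarith),
    mul_nonneg (show (0 : ℤ) ≤ (p : ℤ) - 1 by linarith) h1]

/-- The point `1` of `G ⧸ H` is fixed by exactly the Sylow subgroups inside `H`. -/
theorem fx_one_iff (H : Subgroup G) (Q : Sylow p G) :
    Fx Q ((1 : G) : G ⧸ H) ↔ (Q : Subgroup G) ≤ H := by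
  rw [Fx, stabilizer_quotient]

/-- Every `p`-element lies in a Sylow subgroup. -/
theorem mem_sylow_of_orderOf [Finite G] [Fact p.Prime] {g : G} {k : ℕ}
    (hk : orderOf g = p ^ k) : ∃ Q : Sylow p G, g ∈ (Q : Subgroup G) := by
  have h : IsPGroup p (Subgroup.zpowers g) := IsPGroup.of_card (n := k) (by
    rw [Nat.card_zpowers, hk])
  obtain ⟨Q, hQ⟩ := h.exists_le_sylow
  exact ⟨Q, hQ (Subgroup.mem_zpowers g)⟩

/-- Sylow numbers of a proper subgroup containing a Sylow subgroup. -/
theorem sylow_number_bound [Finite G] [Fact p.Prime]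
    (hgen : Subgroup.closure {g : G | ∃ k : ℕ, orderOf g = p ^ k} = ⊤) (H : Subgroup G)
    (hH : H ≠ ⊤) (P : Sylow p G) (hP : (P : Subgroup G) ≤ H) :
    (2 * p - 1) * Nat.card (Sylow p H) ≤ (p - 1) * Nat.card (Sylow p G) := by
  haveI : Fintype (G ⧸ H) := Fintype.ofFinite _
  haveI : Fintype (Sylow p G) := Fintype.ofFinite _
  set N := ((Finset.univ : Finset (G ⧸ H)).filter (Fx P)).card
  set c := ((Finset.univ : Finset (Sylow p G)).filter
    (fun Q : Sylow p G => (Q : Subgroup G) ≤ H)).card
  have hU : NoUniv p G (Finset.univ : Finset (G ⧸ H)) := by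
    intro x _
    by_contra hall
    push Not at hall
    apply hH
    rw [eq_top_iff, ← hgen, Subgroup.closure_le]
    rintro a ⟨k, hk⟩
    obtain ⟨Q, hQ⟩ := mem_sylow_of_orderOf hk
    obtain ⟨g, rfl⟩ := exists_smul_eq G ((1 : G) : G ⧸ H) x
    exact (fx_one_iff H Q).1 ((fx_smul Q g _).1 (hall _)) hQ
  have hx : ∀ x : G ⧸ H,
      ((Finset.univ : Finset (Sylow p G)).filter (fun Q => Fx Q x)).card = c := by
    intro x
    obtain ⟨g, rfl⟩ := exists_smul_eq G ((1 : G) : G ⧸ H) x
    symm
    refine Finset.card_equiv (MulAction.toPerm g) fun Q => ?_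
    simp only [Finset.mem_filter, Finset.mem_univ, true_and, MulAction.toPerm_apply]
    rw [fx_smul, fx_one_iff]
  have hcount : Fintype.card (G ⧸ H) * c = Fintype.card (Sylow p G) * N := by
    have h1 := Finset.sum_card_bipartiteAbove_eq_sum_card_bipartiteBelow
      (s := (Finset.univ : Finset (Sylow p G))) (t := (Finset.univ : Finset (G ⧸ H)))
      (fun Q x => Fx Q x)
    simp only [Finset.bipartiteAbove, Finset.bipartiteBelow] at h1
    rw [Finset.sum_congr rfl (fun Q _ => card_filter_fx Q P _ (fun g x _ => Finset.mem_univ _)),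
      Finset.sum_congr rfl (fun x _ => hx x), Finset.sum_const, Finset.sum_const,
      Finset.card_univ, Finset.card_univ, smul_eq_mul, smul_eq_mul] at h1
    exact h1.symm
  have hc : Nat.card (Sylow p H) = c := by
    let e : {Q : Sylow p G // (Q : Subgroup G) ≤ H} → Sylow p H := fun Q => Q.1.subtype Q.2
    have he : Function.Bijective e := by
      refine ⟨fun a b h => Subtype.ext (Sylow.subtype_injective h), fun Q' => ?_⟩
      obtain ⟨Q, hQ, h⟩ := exists_sylow_subtype P hP Q'
      exact ⟨⟨Q, hQ⟩, h⟩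
    rw [← Nat.card_congr (Equiv.ofBijective e he), Nat.card_eq_fintype_card, Fintype.card_subtype]
  have h1 := slack_transitive hU P
  rw [slack, Finset.card_univ] at h1
  have hp : 1 ≤ p := (Fact.out : p.Prime).one_le
  have h2 : (2 * p - 1) * N ≤ (p - 1) * Fintype.card (G ⧸ H) := by
    zify [hp, show 1 ≤ 2 * p by omega]
    linarith
  rw [hc, Nat.card_eq_fintype_card]
  apply Nat.le_of_mul_le_mul_left _ (Fintype.card_pos : 0 < Fintype.card (G ⧸ H))
  calc Fintype.card (G ⧸ H) * ((2 * p - 1) * c)
      = (2 * p - 1) * (Fintype.card (G ⧸ H) * c) := by ring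
    _ = Fintype.card (Sylow p G) * ((2 * p - 1) * N) := by rw [hcount]; ring
    _ ≤ Fintype.card (Sylow p G) * ((p - 1) * Fintype.card (G ⧸ H)) :=
        Nat.mul_le_mul_left _ h2
    _ = Fintype.card (G ⧸ H) * ((p - 1) * Fintype.card (Sylow p G)) := by ring

/-- For a non-trivial group generated by `p`-elements some ordered pair of disjoint nonempty
sets has a stabilizer of index divisible by `p`. -/
theorem exists_pair_index_dvd [Finite G] [Fact p.Prime] [FaithfulSMul G X] [Nontrivial G]
    (hgen : Subgroup.closure {g : G | ∃ k : ℕ, orderOf g = p ^ k} = ⊤) :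
    ∃ Δ₁ Δ₂ : Set X, Δ₁.Nonempty ∧ Δ₂.Nonempty ∧ Disjoint Δ₁ Δ₂ ∧
      p ∣ (stabilizer G Δ₁ ⊓ stabilizer G Δ₂).index := by
  obtain ⟨P, x, hP⟩ : ∃ (P : Sylow p G) (x : X), ¬ Fx P x := by
    by_contra hall
    push Not at hall
    apply not_subsingleton G
    refine ⟨fun a b => ?_⟩
    have htop : ∀ a : G, a = 1 := by
      intro a
      have ha : a ∈ Subgroup.closure {g : G | ∃ k : ℕ, orderOf g = p ^ k} := by
        rw [hgen]
        trivial
      refine Subgroup.closure_induction ?_ rfl ?_ ?_ ha
      · rintro b ⟨k, hk⟩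
        obtain ⟨Q, hQ⟩ := mem_sylow_of_orderOf hk
        apply eq_of_smul_eq_smul (α := X)
        intro y
        rw [one_smul]
        exact mem_stabilizer_iff.1 (hall Q y hQ)
      · rintro _ _ _ _ rfl rfl
        exact one_mul _
      · rintro _ _ rfl
        exact inv_one
    rw [htop a, htop b]
  obtain ⟨g, hg, hgp, hgx⟩ := exists_cycle P hP
  have hp2 : 2 ≤ p := (Fact.out : p.Prime).two_le
  set Γ := ((Finset.range p).image (fun i => g ^ i • x)).erase x
  have hgΓ : g • x ∈ Γ :=
    Finset.mem_erase.2 ⟨hgx, Finset.mem_image.2 ⟨1, Finset.mem_range.2 hp2, by rw [pow_one]⟩⟩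
  have hcard : Γ.card < p := by
    have h1 := Finset.card_image_le (s := Finset.range p) (f := fun i => g ^ i • x)
    rw [Finset.card_range] at h1
    have h2 : x ∈ (Finset.range p).image (fun i => g ^ i • x) :=
      Finset.mem_image.2 ⟨0, Finset.mem_range.2 (by omega), by rw [pow_zero, one_smul]⟩
    exact lt_of_lt_of_le (Finset.card_erase_lt_of_mem h2) h1
  refine ⟨{x}, (Γ : Set X), Set.singleton_nonempty x, ⟨_, Finset.mem_coe.2 hgΓ⟩, ?_, ?_⟩
  · rw [Set.disjoint_singleton_left]
    exact fun h => (Finset.mem_erase.1 (Finset.mem_coe.1 h)).1 rfl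
  by_contra hdvd
  set M := stabilizer G ({x} : Set X) ⊓ stabilizer G (Γ : Set X)
  rw [Subgroup.index_eq_card] at hdvd
  obtain ⟨q, hq⟩ := P.isPGroup'.nonempty_fixed_point_of_prime_not_dvd_card (G ⧸ M) hdvd
  obtain ⟨a, rfl⟩ := exists_smul_eq G ((1 : G) : G ⧸ M) q
  have hQ : ((a⁻¹ • P : Sylow p G) : Subgroup G) ≤ M :=
    (fx_one_iff M _).1 ((fx_smul' P a _).1 fun b hb => hq ⟨b, hb⟩)
  set Q := a⁻¹ • P
  refine not_fixed_cycle P hg hgp hgx Q fun i hi => ?_
  by_cases hix : g ^ i • x = x
  · rw [hix]
    intro b hb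
    have h1 := mem_stabilizer_iff.1 (hQ hb).1
    rw [Set.smul_set_singleton, Set.singleton_eq_singleton_iff] at h1
    exact mem_stabilizer_iff.2 h1
  · have hz : g ^ i • x ∈ (Γ : Set X) :=
      Finset.mem_coe.2 (Finset.mem_erase.2
        ⟨hix, Finset.mem_image.2 ⟨i, Finset.mem_range.2 hi, rfl⟩⟩)
    generalize g ^ i • x = z at hz ⊢
    have hsub : orbit (Q : Subgroup G) z ⊆ (Γ : Set X) := by
      rintro _ ⟨b, rfl⟩
      have h1 : (b : G) • (Γ : Set X) = (Γ : Set X) := mem_stabilizer_iff.1 (hQ b.2).2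
      rw [← h1]
      exact Set.smul_mem_smul_set hz
    haveI : Finite (orbit (Q : Subgroup G) z) :=
      ((Finset.finite_toSet Γ).subset hsub).to_subtype
    obtain ⟨k, hk⟩ := Q.isPGroup'.card_orbit z
    have hlt : Nat.card (orbit (Q : Subgroup G) z) < p := by
      rw [Nat.card_coe_set_eq]
      refine lt_of_le_of_lt (Set.ncard_le_ncard hsub (Finset.finite_toSet Γ)) ?_
      rw [Set.ncard_coe_finset]
      exact hcard
    have hk0 : k = 0 := by
      by_contra hk0
      have := Nat.le_self_pow hk0 p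
      omega
    rw [hk0, pow_zero] at hk
    intro b hb
    exact congrArg Subtype.val ((Nat.card_eq_one_iff_unique.1 hk).1.elim
      ⟨_, ⟨⟨b, hb⟩, rfl⟩⟩ ⟨z, mem_orbit_self z⟩)

end CfsgLib.Perm.SylowOrbits
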