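import Cfsg.Agent.Lib.Perm.SylowOvergroups.Alt
import Mathlib.GroupTheory.PGroup
import Mathlib.GroupTheory.Nilpotent
import Mathlib.GroupTheory.Sylow

/-!
# Alternating groups in which a Sylow 3-subgroup lies in one maximal subgroup only

For a 3-subgroup `T` of an alternating group of degree `n ≥ 5` with `n` different from `6`, `9` and
`3 ^ a + 1` there are two proper subgroups containing `T` that generate the alternating group.
-/

set_option autoImplicit false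
set_option linter.unusedSectionVars false

namespace CfsgLib.Perm.ThreeMinimalAlt

open Equiv Equiv.Perm
open CfsgLib.Perm.SylowOvergroups (Rel cyc3 altOn mem_altOn altOn_le rel_trans rel_symm cyc3_conj)

variable {α : Type*} [Fintype α] [DecidableEq α]

/-- The permutations preserving a relation. -/
def relStab (R : α → α → Prop) : Subgroup (Perm α) where
  carrier := {g | ∀ x y, R x y ↔ R (g x) (g y)}
  one_mem' := fun _ _ => Iff.rfl
  mul_mem' := fun {g h} hg hh x y => (hh x y).trans (hg (h x) (h y))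
  inv_mem' := fun {g} hg x y => by
    have := hg (g⁻¹ x) (g⁻¹ y)
    rwa [show g (g⁻¹ x) = x from g.apply_symm_apply x, show g (g⁻¹ y) = y from g.apply_symm_apply y,
      Iff.comm] at this

theorem cyc3_apply {a b c : α} (hab : a ≠ b) (hac : a ≠ c) (hbc : b ≠ c) :
    cyc3 a b c a = b ∧ cyc3 a b c b = c ∧ cyc3 a b c c = a := by
  refine ⟨?_, ?_, ?_⟩ <;> simp [cyc3, swap_apply_def] <;> grind

theorem cyc3_apply_of_ne {a b c x : α} (ha : x ≠ a) (hb : x ≠ b) (hc : x ≠ c) :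
    cyc3 a b c x = x := by
  simp [cyc3, swap_apply_of_ne_of_ne hb hc, swap_apply_of_ne_of_ne ha hb]

theorem isThreeCycle_cyc3 {a b c : α} (hab : a ≠ b) (hac : a ≠ c) (hbc : b ≠ c) :
    IsThreeCycle (cyc3 a b c) := by
  rw [cyc3, swap_comm a b]
  exact isThreeCycle_swap_mul_swap_same hab.symm hbc hac

theorem cyc3_mem_alternating {a b c : α} (hab : a ≠ b) (hac : a ≠ c) (hbc : b ≠ c) :
    cyc3 a b c ∈ alternatingGroup α :=
  mem_alternatingGroup.2 (isThreeCycle_cyc3 hab hac hbc).sign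

/-- A three-cycle inside a class preserves an equivalence. -/
theorem cyc3_mem_relStab {R : α → α → Prop} (hR : Equivalence R) {a b c : α} (hab : a ≠ b)
    (hac : a ≠ c) (hbc : b ≠ c) (h1 : R a b) (h2 : R a c) : cyc3 a b c ∈ relStab R := by
  have key : ∀ x, R x (cyc3 a b c x) := by
    intro x
    obtain ⟨e1, e2, e3⟩ := cyc3_apply hab hac hbc
    by_cases ha : x = a
    · subst ha; rw [e1]; exact h1
    by_cases hb : x = b
    · subst hb; rw [e2]; exact hR.trans (hR.symm h1) h2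
    by_cases hc : x = c
    · subst hc; rw [e3]; exact hR.symm h2
    rw [cyc3_apply_of_ne ha hb hc]; exact hR.refl x
  intro x y
  exact ⟨fun h => hR.trans (hR.trans (hR.symm (key x)) h) (key y),
    fun h => hR.trans (hR.trans (key x) h) (hR.symm (key y))⟩

theorem rel_of_cyc3_mem {H : Subgroup (Perm α)} {a b c : α} (hab : a ≠ b) (hac : a ≠ c)
    (hbc : b ≠ c) (h : cyc3 a b c ∈ H) : Rel H a b := by
  obtain ⟨e1, e2, -⟩ := cyc3_apply hab hac hbc
  exact Or.inr ⟨_, h, isThreeCycle_cyc3 hab hac hbc, mem_support.2 (by rw [e1]; exact hab.symm),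
    mem_support.2 (by rw [e2]; exact hbc.symm)⟩

theorem rel_map {H : Subgroup (Perm α)} {g : Perm α} (hg : g ∈ H) {a b : α} (h : Rel H a b) :
    Rel H (g a) (g b) := by
  rcases h with rfl | ⟨t, ht, h3, ha, hb⟩
  · exact Or.inl rfl
  refine Or.inr ⟨g * t * g⁻¹, H.mul_mem (H.mul_mem hg ht) (H.inv_mem hg), cycleType_conj.trans h3, ?_, ?_⟩
  all_goals
    rw [support_conj]
    first
      | exact Finset.mem_map.2 ⟨a, ha, rfl⟩
      | exact Finset.mem_map.2 ⟨b, hb, rfl⟩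

/-- If all points are related the group contains the alternating group. -/
theorem alternating_le {H : Subgroup (Perm α)} (h : ∀ a b, Rel H a b) : alternatingGroup α ≤ H :=
  fun _ hg => altOn_le (Δ := Finset.univ) (fun a _ b _ => h a b)
    (mem_altOn.2 ⟨mem_alternatingGroup.1 hg, fun x hx => absurd (Finset.mem_univ x) hx⟩)

/-- Interchanging two orbits of a permutation of order three. -/
def orbitSwap (ζ : Perm α) (y y' : α) : Perm α :=
  swap y y' * swap (ζ y) (ζ y') * swap (ζ (ζ y)) (ζ (ζ y'))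

section Zeta

variable {ζ : Perm α}

theorem eq_of_fpf (h3 : ∀ x, ζ (ζ (ζ x)) = x) (hf : ∀ x, ζ x ≠ x) (x : α) :
    ζ x ≠ x ∧ ζ (ζ x) ≠ x ∧ ζ (ζ x) ≠ ζ x :=
  ⟨hf x, fun h => hf x (by conv_rhs => rw [← h3 x, h]), hf _⟩

theorem orbitSwap_mem_centralizer (h3 : ∀ x, ζ (ζ (ζ x)) = x) (hf : ∀ x, ζ x ≠ x) {y y' : α}
    (h0 : y' ≠ y) (h1 : y' ≠ ζ y) (h2 : y' ≠ ζ (ζ y)) :
    (∀ x, orbitSwap ζ y y' (ζ x) = ζ (orbitSwap ζ y y' x)) ∧ orbitSwap ζ y y' y = y' ∧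
      (∀ x, x ≠ y → x ≠ ζ y → x ≠ ζ (ζ y) → x ≠ y' → x ≠ ζ y' → x ≠ ζ (ζ y') →
        orbitSwap ζ y y' x = x) := by
  have hy := eq_of_fpf h3 hf y
  have hy' := eq_of_fpf h3 hf y'
  have i1 : ∀ a b, ζ a = ζ b → a = b := fun a b h => ζ.injective h
  have n1 : ζ y' ≠ y := fun h => h2 (i1 _ _ (by rw [h3, h]))
  have n2 : ζ y' ≠ ζ y := fun h => h0 (i1 _ _ h)
  have n3 : ζ y' ≠ ζ (ζ y) := fun h => h1 (i1 _ _ h)
  have n4 : ζ (ζ y') ≠ y := fun h => h1 (i1 _ _ (i1 _ _ (by rw [h, h3])))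
  have n5 : ζ (ζ y') ≠ ζ y := fun h => n1 (i1 _ _ h)
  have n6 : ζ (ζ y') ≠ ζ (ζ y) := fun h => n2 (i1 _ _ h)
  refine ⟨fun x => ?_, ?_, fun x a b c d e f => ?_⟩
  · by_cases a : x = y
    · subst a; simp [orbitSwap, swap_apply_def]; grind
    by_cases b : x = ζ y
    · subst b; simp [orbitSwap, swap_apply_def]; grind
    by_cases c : x = ζ (ζ y)
    · subst c; simp [orbitSwap, swap_apply_def, h3]; grind
    by_cases d : x = y'
    · subst d; simp [orbitSwap, swap_apply_def]; grind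
    by_cases e : x = ζ y'
    · subst e; simp [orbitSwap, swap_apply_def]; grind
    by_cases f : x = ζ (ζ y')
    · subst f; simp [orbitSwap, swap_apply_def, h3]; grind
    have g1 : ζ x ≠ ζ y := fun h => a (i1 _ _ h)
    have g2 : ζ x ≠ ζ (ζ y) := fun h => b (i1 _ _ h)
    have g3 : ζ x ≠ y := fun h => c (i1 _ _ (by rw [h, h3]))
    have g4 : ζ x ≠ ζ y' := fun h => d (i1 _ _ h)
    have g5 : ζ x ≠ ζ (ζ y') := fun h => e (i1 _ _ h)
    have g6 : ζ x ≠ y' := fun h => f (i1 _ _ (by rw [h, h3]))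
    simp [orbitSwap, Perm.mul_apply, swap_apply_of_ne_of_ne, a, b, c, d, e, f, g1, g2, g3, g4, g5, g6]
  · have : y ≠ ζ y := hy.1.symm
    simp [orbitSwap, swap_apply_def]; grind
  · simp [orbitSwap, Perm.mul_apply, swap_apply_of_ne_of_ne, a, b, c, d, e, f]

theorem sign_orbitSwap (h3 : ∀ x, ζ (ζ (ζ x)) = x) {y y' : α} (h0 : y' ≠ y) :
    sign (orbitSwap ζ y y') = -1 := by
  have h1 : ζ y' ≠ ζ y := fun h => h0 (ζ.injective h)
  have h2 : ζ (ζ y') ≠ ζ (ζ y) := fun h => h1 (ζ.injective h)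
  simp [orbitSwap, sign_swap, h0.symm, h1.symm, h2.symm]

end Zeta

/-- The main construction: a preserved equivalence and a commuting fixed-point-free element of
order three. -/
theorem two_overgroups_of_equivalence (T : Subgroup (Perm α)) (hT : T ≤ alternatingGroup α)
    (R : α → α → Prop) (hR : Equivalence R) (hTR : T ≤ relStab R) (ζ : Perm α)
    (h3 : ∀ x, ζ (ζ (ζ x)) = x) (hf : ∀ x, ζ x ≠ x) (hTζ : ∀ t ∈ T, ∀ x, t (ζ x) = ζ (t x))
    (hζR : ∀ x, R x (ζ x)) {x₀ x₁ y₀ : α} (hx₁ : R x₀ x₁) (h10 : x₁ ≠ x₀) (h11 : x₁ ≠ ζ x₀)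
    (h12 : x₁ ≠ ζ (ζ x₀)) (hy₀ : ¬ R x₀ y₀) (hn : 12 ≤ Fintype.card α) :
    ∃ H₁ H₂ : Subgroup (Perm α), T ≤ H₁ ∧ T ≤ H₂ ∧ H₁ ≤ alternatingGroup α ∧
      H₂ ≤ alternatingGroup α ∧ ¬ alternatingGroup α ≤ H₁ ∧ ¬ alternatingGroup α ≤ H₂ ∧
      alternatingGroup α ≤ H₁ ⊔ H₂ := by
  obtain ⟨H₁, hH₁⟩ : ∃ H, H = relStab R ⊓ alternatingGroup α := ⟨_, rfl⟩
  obtain ⟨H₂, hH₂⟩ : ∃ H, H = Subgroup.centralizer ({ζ} : Set (Perm α)) ⊓ alternatingGroup α :=
    ⟨_, rfl⟩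
  have hcent : ∀ g : Perm α, g ∈ Subgroup.centralizer ({ζ} : Set (Perm α)) ↔
      ∀ x, g (ζ x) = ζ (g x) := by
    intro g
    rw [Subgroup.mem_centralizer_iff]
    simp only [Set.mem_singleton_iff, forall_eq]
    exact ⟨fun h x => (DFunLike.congr_fun h x).symm, fun h => Equiv.ext fun x => (h x).symm⟩
  refine ⟨H₁, H₂, hH₁ ▸ le_inf hTR hT, hH₂ ▸ le_inf (fun t ht => (hcent t).2 (hTζ t ht)) hT,
    hH₁ ▸ inf_le_right, hH₂ ▸ inf_le_right, ?_, ?_, ?_⟩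
  · intro hle
    have hx0 : x₀ ≠ y₀ := fun h => hy₀ (h ▸ hR.refl _)
    have hx1y : x₁ ≠ y₀ := fun h => hy₀ (h ▸ hx₁)
    have hm := hle (cyc3_mem_alternating h10.symm hx0 hx1y)
    rw [hH₁] at hm
    obtain ⟨e1, e2, -⟩ := cyc3_apply h10.symm hx0 hx1y
    have := (hm.1 x₀ x₁).1 hx₁
    rw [e1, e2] at this
    exact hy₀ (hR.trans hx₁ this)
  · intro hle
    have hm := hle (cyc3_mem_alternating (hf x₀).symm h10.symm h11.symm)
    rw [hH₂] at hm
    have e := (hcent _).1 hm.1 x₀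
    obtain ⟨e1, e2, -⟩ := cyc3_apply (hf x₀).symm h10.symm h11.symm
    rw [e1, e2] at e
    exact h12 e
  -- three classes of `ζ` can be permuted cyclically
  refine alternating_le fun a b => ?_
  have hR1 : ∀ a b, R a b → Rel (H₁ ⊔ H₂) a b := by
    intro a b hab
    by_cases h : a = b
    · exact Or.inl h
    obtain ⟨c, hca, hcb, hac⟩ : ∃ c, c ≠ a ∧ c ≠ b ∧ R a c := by
      obtain ⟨-, q2, q3⟩ := eq_of_fpf h3 hf a
      by_cases hb : b = ζ a
      · exact ⟨ζ (ζ a), q2, hb ▸ q3, hR.trans (hζR a) (hζR _)⟩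
      · exact ⟨ζ a, hf a, Ne.symm hb, hζR a⟩
    refine rel_of_cyc3_mem h hca.symm hcb.symm (Subgroup.mem_sup_left ?_)
    rw [hH₁]
    exact ⟨cyc3_mem_relStab hR h hca.symm hcb.symm hab hac, cyc3_mem_alternating h hca.symm hcb.symm⟩
  suffices key : ∀ b, Rel (H₁ ⊔ H₂) x₀ b by exact rel_trans (rel_symm (key a)) (key b)
  intro b
  by_cases hb : R x₀ b
  · exact hR1 _ _ hb
  -- a class away from those of `x₀`, `x₁`, `b`
  obtain ⟨w, hw⟩ : ∃ w, w ∉ [x₀, ζ x₀, ζ (ζ x₀), x₁, ζ x₁, ζ (ζ x₁), b, ζ b, ζ (ζ b)] := by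
    by_contra hcon
    push Not at hcon
    have hsub : (Finset.univ : Finset α) ⊆
        [x₀, ζ x₀, ζ (ζ x₀), x₁, ζ x₁, ζ (ζ x₁), b, ζ b, ζ (ζ b)].toFinset :=
      fun x _ => List.mem_toFinset.2 (hcon x)
    have h9 := (Finset.card_le_card hsub).trans (List.toFinset_card_le _)
    rw [Finset.card_univ] at h9
    simp only [List.length_cons, List.length_nil] at h9
    omega
  simp only [List.mem_cons, List.not_mem_nil, or_false, not_or] at hw
  obtain ⟨w0, w1, w2, w3, w4, w5, w6, w7, w8⟩ := hw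
  have hbx : ∀ u, R x₀ u → b ≠ u := fun u hu h => hb (h ▸ hu)
  have hR' : R x₀ (ζ x₁) := hR.trans hx₁ (hζR _)
  have hR'' : R x₀ (ζ (ζ x₁)) := hR.trans hR' (hζR _)
  obtain ⟨c1, m1, f1⟩ := orbitSwap_mem_centralizer h3 hf (y := x₁) (y' := b) (hbx _ hx₁) (hbx _ hR')
    (hbx _ hR'')
  obtain ⟨c2, -, f2⟩ := orbitSwap_mem_centralizer h3 hf (y := x₁) (y' := w) w3 w4 w5
  have hi : ∀ p q : α, ζ p = ζ q → p = q := fun p q h => ζ.injective h
  have hx0b : x₀ ≠ b := fun h => hb (h ▸ hR.refl _)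
  have hx0zb : x₀ ≠ ζ b := fun h => hb (hR.trans (h ▸ hR.refl x₀ : R x₀ (ζ b)) (hR.symm (hζR b)))
  have hx0zzb : x₀ ≠ ζ (ζ b) := fun h =>
    hb (hR.trans (h ▸ hR.refl x₀ : R x₀ (ζ (ζ b))) (hR.symm (hR.trans (hζR b) (hζR _))))
  have hx01 : x₀ ≠ ζ x₁ := fun h => h12 (by rw [h, h3])
  have hx02 : x₀ ≠ ζ (ζ x₁) := fun h => h11 (by rw [h, h3])
  have g0 : x₀ ≠ w := Ne.symm w0
  have g1 : x₀ ≠ ζ w := fun h => w2 (hi _ _ (by rw [h3, h]))
  have g2 : x₀ ≠ ζ (ζ w) := fun h => w1 (hi _ _ (hi _ _ (by rw [h, h3])))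
  -- send `x₁` to `b` keeping `x₀`
  obtain ⟨g', hg'⟩ : ∃ g', g' = orbitSwap ζ x₁ w * orbitSwap ζ x₁ b := ⟨_, rfl⟩
  have hg'mem : g' ∈ H₁ ⊔ H₂ := by
    refine Subgroup.mem_sup_right ?_
    rw [hH₂, hg']
    refine ⟨Subgroup.mul_mem _ ((hcent _).2 c2) ((hcent _).2 c1), mem_alternatingGroup.2 ?_⟩
    rw [map_mul, sign_orbitSwap h3 (hbx _ hx₁), sign_orbitSwap h3 w3]; rfl
  have hg'x1 : g' x₁ = b := by
    rw [hg', Perm.mul_apply, m1]
    refine f2 b (hbx _ hx₁) (hbx _ hR') (hbx _ hR'') (Ne.symm w6) ?_ ?_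
    · exact fun h => w8 (hi _ _ (by rw [h3, h]))
    · exact fun h => w7 (hi _ _ (hi _ _ (by rw [h, h3])))
  have hg'x0 : g' x₀ = x₀ := by
    rw [hg', Perm.mul_apply, f1 x₀ h10.symm hx01 hx02 hx0b hx0zb hx0zzb,
      f2 x₀ h10.symm hx01 hx02 g0 g1 g2]
  have := rel_map hg'mem (hR1 _ _ hx₁)
  rwa [hg'x1, hg'x0] at this

end CfsgLib.Perm.ThreeMinimalAlt
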