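import Cfsg.Agent.Lib.Perm.ThreeMinimalAlt
import Cfsg.Agent.Lib.Coprime.PGroupFrattini
import Mathlib.GroupTheory.Index
import Mathlib.GroupTheory.Perm.Cycle.Type

/-!
# Two generating overgroups of a 3-subgroup of an alternating group
-/

set_option autoImplicit false
set_option linter.unusedSectionVars false

namespace CfsgLib.Perm.ThreeMinimalAlt

open Equiv Equiv.Perm
open CfsgLib.Perm.SylowOvergroups (Rel rel_trans rel_symm cyc3)

variable {α : Type*} [Fintype α] [DecidableEq α]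

/-- Two points in one `T`-orbit. -/
def orbRel (T : Subgroup (Perm α)) (x y : α) : Prop := ∃ t ∈ T, t x = y

theorem orbRel_equivalence (T : Subgroup (Perm α)) : Equivalence (orbRel T) where
  refl x := ⟨1, T.one_mem, rfl⟩
  symm := fun {x y} ⟨t, ht, h⟩ => ⟨t⁻¹, T.inv_mem ht, by rw [← h]; exact t.symm_apply_apply x⟩
  trans := fun {x y z} ⟨t, ht, h⟩ ⟨s, hs, h'⟩ => ⟨s * t, T.mul_mem hs ht, by
    rw [Perm.mul_apply, h, h']⟩

theorem orbRel_apply_iff {T : Subgroup (Perm α)} {t : Perm α} (ht : t ∈ T) (a x : α) :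
    orbRel T a (t x) ↔ orbRel T a x :=
  ⟨fun h => (orbRel_equivalence T).trans h ⟨t⁻¹, T.inv_mem ht, t.symm_apply_apply x⟩,
    fun h => (orbRel_equivalence T).trans h ⟨t, ht, rfl⟩⟩

theorem orbit_eq (T : Subgroup (Perm α)) (a : α) :
    MulAction.orbit T a = {x | orbRel T a x} := by
  ext x
  constructor
  · rintro ⟨t, rfl⟩; exact ⟨t, t.2, rfl⟩
  · rintro ⟨t, ht, rfl⟩; exact ⟨⟨t, ht⟩, rfl⟩

theorem card_orbRel {T : Subgroup (Perm α)} (hT : IsPGroup 3 T) (a : α) :
    ∃ k, Nat.card {x // orbRel T a x} = 3 ^ k := by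
  haveI : Fact (Nat.Prime 3) := ⟨Nat.prime_three⟩
  obtain ⟨k, hk⟩ := hT.card_orbit a
  refine ⟨k, ?_⟩
  rw [← hk, orbit_eq]
  rfl

/-- On a nontrivial orbit some element of `T` acts as a central element of order three. -/
theorem exists_central_three {T : Subgroup (Perm α)} (hT : IsPGroup 3 T) (a : α)
    (hne : ∃ x, x ≠ a ∧ orbRel T a x) :
    ∃ z ∈ T, (∀ x, orbRel T a x → z (z (z x)) = x ∧ z x ≠ x) ∧
      ∀ t ∈ T, ∀ x, orbRel T a x → t (z x) = z (t x) := by
  haveI : Fact (Nat.Prime 3) := ⟨Nat.prime_three⟩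
  obtain ⟨φ, hφ⟩ : ∃ φ : T →* Perm (MulAction.orbit T a), φ = MulAction.toPermHom T _ := ⟨_, rfl⟩
  have happ : ∀ (t : T) (y : MulAction.orbit T a), ((φ t y : MulAction.orbit T a) : α) = (t : Perm α) y := by
    intro t y; subst hφ; rfl
  obtain ⟨x₁, hx₁, hax⟩ := hne
  have hnt : Nontrivial φ.range := by
    obtain ⟨t, ht, htx⟩ := hax
    refine ⟨⟨⟨φ ⟨t, ht⟩, ⟨_, rfl⟩⟩, 1, fun h => hx₁ ?_⟩⟩
    have h1 := congrArg (fun g : Perm (MulAction.orbit T a) => (g ⟨a, MulAction.mem_orbit_self a⟩ : α))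
      (congrArg Subtype.val h)
    simp only [happ] at h1
    rw [htx] at h1
    exact h1
  have hp : IsPGroup 3 φ.range := hT.of_surjective φ.rangeRestrict φ.rangeRestrict_surjective
  haveI := hp.center_nontrivial
  have hdvd : 3 ∣ Nat.card (Subgroup.center φ.range) := by
    obtain ⟨n, hn⟩ := IsPGroup.iff_card.1 (hp.to_subgroup (Subgroup.center φ.range))
    rw [hn]
    refine dvd_pow_self 3 fun h0 => ?_
    rw [h0, pow_zero] at hn
    exact (Finite.one_lt_card (α := Subgroup.center φ.range)).ne' hn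
  obtain ⟨c, hc⟩ := exists_prime_orderOf_dvd_card' 3 hdvd
  obtain ⟨z, hz⟩ := (c : φ.range).2
  refine ⟨z, z.2, fun x hx => ?_, fun t ht x hx => ?_⟩
  swap
  · have hy : x ∈ MulAction.orbit T a := by rw [orbit_eq]; exact hx
    have h1 := Subgroup.mem_center_iff.1 c.2 ⟨φ ⟨t, ht⟩, ⟨_, rfl⟩⟩
    have h2 : φ ⟨t, ht⟩ * φ z = φ z * φ ⟨t, ht⟩ := by rw [hz]; exact congrArg Subtype.val h1
    have h3 := congrArg (fun g : Perm (MulAction.orbit T a) => (g ⟨x, hy⟩ : α)) h2
    simpa [happ] using h3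
  have hy : x ∈ MulAction.orbit T a := by rw [orbit_eq]; exact hx
  have h3 : φ z * (φ z * φ z) = 1 := by
    rw [hz]
    have : (c : φ.range) ^ 3 = 1 := by
      rw [← Subgroup.coe_pow, ← hc, pow_orderOf_eq_one]; rfl
    have h' := congrArg Subtype.val this
    simpa [pow_succ, mul_assoc] using h'
  refine ⟨?_, fun hfix => ?_⟩
  · have := congrArg (fun g : Perm (MulAction.orbit T a) => (g ⟨x, hy⟩ : α)) h3
    simpa [happ] using this
  -- a fixed point of a central element on a transitive set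
  have h1 : φ z = 1 := by
    refine Equiv.ext fun y => Subtype.ext ?_
    have hy' : orbRel T a (y : α) := (Set.ext_iff.1 (orbit_eq T a) _).1 y.2
    obtain ⟨t, ht, hty⟩ := (orbRel_equivalence T).trans ((orbRel_equivalence T).symm hx) hy'
    rw [happ]
    have h1 := Subgroup.mem_center_iff.1 c.2 ⟨φ ⟨t, ht⟩, ⟨_, rfl⟩⟩
    have h2 : φ ⟨t, ht⟩ * φ z = φ z * φ ⟨t, ht⟩ := by rw [hz]; exact congrArg Subtype.val h1
    have h4 := congrArg (fun g : Perm (MulAction.orbit T a) => (g ⟨x, hy⟩ : α)) h2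
    simp only [Perm.mul_apply, happ] at h4
    rw [hfix, hty] at h4
    exact h4.symm
  have h2 : c = 1 := by
    refine Subtype.ext (Subtype.ext ?_)
    rw [← hz, h1]
    rfl
  rw [h2, orderOf_one] at hc
  exact absurd hc (by norm_num)

/-- The case of at least three orbits. -/
theorem two_overgroups_of_three_orbits (T : Subgroup (Perm α)) (hT : T ≤ alternatingGroup α)
    (hn : 5 ≤ Fintype.card α) {a b c : α} (hab : ¬ orbRel T a b) (hac : ¬ orbRel T a c)
    (hbc : ¬ orbRel T b c) :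
    ∃ H₁ H₂ : Subgroup (Perm α), T ≤ H₁ ∧ T ≤ H₂ ∧ H₁ ≤ alternatingGroup α ∧
      H₂ ≤ alternatingGroup α ∧ ¬ alternatingGroup α ≤ H₁ ∧ ¬ alternatingGroup α ≤ H₂ ∧
      alternatingGroup α ≤ H₁ ⊔ H₂ := by
  classical
  have hE := orbRel_equivalence T
  obtain ⟨O, hO⟩ : ∃ O : α → Finset α, O = fun x => Finset.univ.filter (orbRel T x) := ⟨_, rfl⟩
  have hmem : ∀ x y, y ∈ O x ↔ orbRel T x y := fun x y => by simp [hO]
  have hdisj : ∀ x y, ¬ orbRel T x y → Disjoint (O x) (O y) := fun x y h =>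
    Finset.disjoint_left.2 fun u hu hu' => h (hE.trans ((hmem _ _).1 hu) (hE.symm ((hmem _ _).1 hu')))
  have hsum : (O a).card + (O b).card + (O c).card ≤ Fintype.card α := by
    rw [← Finset.card_union_of_disjoint (hdisj _ _ hab), ← Finset.card_union_of_disjoint
      (Finset.disjoint_union_left.2 ⟨hdisj _ _ hac, hdisj _ _ hbc⟩)]
    exact Finset.card_le_univ _
  have hpos : ∀ x, 1 ≤ (O x).card := fun x => Finset.card_pos.2 ⟨x, (hmem _ _).2 (hE.refl x)⟩
  -- two of them have a complement of size at least three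
  obtain ⟨u, v, w, huv, huw, hvw, hu, hv⟩ : ∃ u v w, ¬ orbRel T u v ∧ ¬ orbRel T u w ∧
      ¬ orbRel T v w ∧ (O u).card + 3 ≤ Fintype.card α ∧ (O v).card + 3 ≤ Fintype.card α := by
    have := hpos a; have := hpos b; have := hpos c
    rcases le_or_gt ((O a).card + 3) (Fintype.card α) with h1 | h1
    · rcases le_or_gt ((O b).card + 3) (Fintype.card α) with h2 | h2
      · exact ⟨a, b, c, hab, hac, hbc, h1, h2⟩
      · exact ⟨a, c, b, hac, hab, fun h => hbc (hE.symm h), h1, by omega⟩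
    · exact ⟨b, c, a, hbc, fun h => hab (hE.symm h), fun h => hac (hE.symm h), by omega, by omega⟩
  obtain ⟨S, hS⟩ : ∃ S : α → Subgroup (Perm α),
      S = fun u => relStab (fun x y => (orbRel T u x ↔ orbRel T u y)) ⊓ alternatingGroup α := ⟨_, rfl⟩
  have hTS : ∀ u, T ≤ S u := fun u => hS ▸ le_inf (fun t ht x y => by
    simp only [orbRel_apply_iff ht]) hT
  have hequ : ∀ u, Equivalence (fun x y => (orbRel T u x ↔ orbRel T u y)) := fun u =>
    ⟨fun _ => Iff.rfl, fun h => h.symm, fun h h' => h.trans h'⟩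
  have hthird : ∀ u, (O u).card + 3 ≤ Fintype.card α → ∀ x y, ∃ d, d ≠ x ∧ d ≠ y ∧ ¬ orbRel T u d := by
    intro u hu x y
    by_contra hcon
    push Not at hcon
    have hsub : (Finset.univ : Finset α) ⊆ O u ∪ {x, y} := fun d _ => by
      by_cases h1 : d = x
      · simp [h1]
      by_cases h2 : d = y
      · simp [h2]
      exact Finset.mem_union_left _ ((hmem _ _).2 (hcon d h1 h2))
    have h5 := (Finset.card_le_card hsub).trans (Finset.card_union_le _ _)
    rw [Finset.card_univ] at h5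
    have h2 : ({x, y} : Finset α).card ≤ 2 := (Finset.card_insert_le _ _).trans (by simp)
    omega
  have hproper : ∀ u, (O u).card + 3 ≤ Fintype.card α → ¬ alternatingGroup α ≤ S u := by
    intro u hu hle
    obtain ⟨x, hxu, -, hx⟩ := hthird u hu u u
    obtain ⟨y, hyu, hyx, hy⟩ := hthird u hu u x
    have hm := hle (cyc3_mem_alternating (Ne.symm hyx) hxu hyu)
    rw [hS] at hm
    obtain ⟨e1, e2, -⟩ := cyc3_apply (Ne.symm hyx) hxu hyu
    have := (hm.1 x y).1 (by simp [hx, hy])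
    rw [e1, e2] at this
    exact hy (this.2 (hE.refl u))
  refine ⟨S u, S v, hTS u, hTS v, hS ▸ inf_le_right, hS ▸ inf_le_right, hproper u hu, hproper v hv, ?_⟩
  refine alternating_le fun x y => ?_
  have hrel : ∀ u, (O u).card + 3 ≤ Fintype.card α → S u ≤ S u →
      ∀ x y, ¬ orbRel T u x → ¬ orbRel T u y → Rel (S u) x y := by
    intro u hu _ x y hx hy
    by_cases h : x = y
    · exact Or.inl h
    obtain ⟨d, hdx, hdy, hd⟩ := hthird u hu x y
    refine rel_of_cyc3_mem h hdx.symm hdy.symm ?_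
    rw [hS]
    exact ⟨cyc3_mem_relStab (hequ u) h hdx.symm hdy.symm (by simp [hx, hy]) (by simp [hx, hd]),
      cyc3_mem_alternating h hdx.symm hdy.symm⟩
  have hmono : ∀ {H K : Subgroup (Perm α)}, H ≤ K → ∀ {x y}, Rel H x y → Rel K x y :=
    fun hHK _ _ h => h.imp id fun ⟨t, ht, r⟩ => ⟨t, hHK ht, r⟩
  suffices key : ∀ x, Rel (S u ⊔ S v) w x by exact rel_trans (rel_symm (key x)) (key y)
  intro x
  by_cases hx : orbRel T u x
  · exact hmono le_sup_right (hrel v hv le_rfl w x hvw fun h => huv (hE.trans hx (hE.symm h)))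
  · exact hmono le_sup_left (hrel u hu le_rfl w x huw hx)

/-- Two proper subgroups above a 3-subgroup generate the alternating group, apart from the three
exceptional shapes. -/
theorem two_overgroups (T : Subgroup (Perm α)) (hT : T ≤ alternatingGroup α) (hp : IsPGroup 3 T)
    (hn : 5 ≤ Fintype.card α) (h6 : Fintype.card α ≠ 6) (h9 : Fintype.card α ≠ 9)
    (hsucc : ∀ k, 2 ≤ k → Fintype.card α ≠ 3 ^ k + 1) :
    ∃ H₁ H₂ : Subgroup (Perm α), T ≤ H₁ ∧ T ≤ H₂ ∧ H₁ ≤ alternatingGroup α ∧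
      H₂ ≤ alternatingGroup α ∧ ¬ alternatingGroup α ≤ H₁ ∧ ¬ alternatingGroup α ≤ H₂ ∧
      alternatingGroup α ≤ H₁ ⊔ H₂ := by
  classical
  haveI : Fact (Nat.Prime 3) := ⟨Nat.prime_three⟩
  have hE := orbRel_equivalence T
  by_cases h3 : ∃ a b c, ¬ orbRel T a b ∧ ¬ orbRel T a c ∧ ¬ orbRel T b c
  · obtain ⟨a, b, c, h⟩ := h3
    exact two_overgroups_of_three_orbits T hT hn h.1 h.2.1 h.2.2
  push Not at h3
  haveI : Nonempty α := Fintype.card_pos_iff.1 (by omega)
  obtain ⟨a₀⟩ := ‹Nonempty α›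
  have hsplit : ∀ a b, ¬ orbRel T a b →
      Nat.card {x // orbRel T a x} + Nat.card {x // orbRel T b x} = Fintype.card α := by
    intro a b hab
    have e : ∀ x, orbRel T b x ↔ ¬ orbRel T a x := fun x =>
      ⟨fun h h' => hab (hE.trans h' (hE.symm h)), fun h => h3 a b x hab h⟩
    rw [Nat.card_eq_fintype_card, Nat.card_eq_fintype_card, Fintype.card_congr (Equiv.subtypeEquivRight e),
      ← Fintype.card_sum, Fintype.card_congr (Equiv.sumCompl _)]
  by_cases htr : ∀ x, orbRel T a₀ x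
  · -- one orbit
    obtain ⟨k, hk⟩ := card_orbRel hp a₀
    have hcard : Fintype.card α = 3 ^ k := by
      rw [← hk, ← Nat.card_eq_fintype_card]
      exact (Nat.card_congr (Equiv.subtypeUnivEquiv htr)).symm
    have hk3 : 3 ≤ k := by
      by_contra h
      have hk' : k = 0 ∨ k = 1 ∨ k = 2 := by omega
      rcases hk' with rfl | rfl | rfl <;> simp at hcard <;> omega
    have hn27 : 27 ≤ Fintype.card α := hcard ▸ (Nat.pow_le_pow_right (n := 3) (by norm_num) hk3)
    obtain ⟨x₁, hx₁⟩ := Fintype.exists_ne_of_one_lt_card (show 1 < Fintype.card α by omega) a₀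
    obtain ⟨z, hzT, hz, hzc⟩ := exists_central_three hp a₀ ⟨x₁, hx₁, htr _⟩
    have hz3 : ∀ x, z (z (z x)) = x := fun x => (hz x (htr x)).1
    have hzf : ∀ x, z x ≠ x := fun x => (hz x (htr x)).2
    -- a normal maximal subgroup with intransitive action
    have hcomm : ∀ t ∈ T, Commute t z := fun t ht => Equiv.ext fun x => hzc t ht x (htr x)
    have hzpow : ∀ i : ℤ, (z ^ i) a₀ ∈ ({a₀, z a₀, z (z a₀)} : Finset α) := by
      intro i
      have hz1 : z ^ (3 : ℤ) = 1 := Equiv.ext fun x => by simp [zpow_ofNat, pow_succ, hz3]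
      have hred : z ^ i = z ^ (i % 3) := by
        conv_lhs => rw [← Int.emod_add_mul_ediv i 3]
        rw [zpow_add, zpow_mul, hz1, one_zpow, mul_one]
      have hi : i % 3 = 0 ∨ i % 3 = 1 ∨ i % 3 = 2 := by omega
      rw [hred]
      rcases hi with h | h | h <;> rw [h] <;> simp [zpow_ofNat, pow_succ]
    let K : Subgroup T :=
      { carrier := {m | ∃ i : ℤ, (m : Perm α) a₀ = (z ^ i) a₀}
        one_mem' := ⟨0, by simp⟩
        mul_mem' := by
          rintro m m' ⟨i, hi⟩ ⟨j, hj⟩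
          refine ⟨j + i, ?_⟩
          rw [Subgroup.coe_mul, Perm.mul_apply, hj, ← Perm.mul_apply, ((hcomm _ m.2).zpow_right j).eq,
            Perm.mul_apply, hi, ← Perm.mul_apply, zpow_add]
        inv_mem' := by
          rintro m ⟨i, hi⟩
          refine ⟨-i, ?_⟩
          rw [Subgroup.coe_inv, Equiv.Perm.inv_eq_iff_eq, ← Perm.mul_apply,
            ((hcomm _ m.2).zpow_right (-i)).eq, Perm.mul_apply, hi, ← Perm.mul_apply, ← zpow_add]
          simp }
    have hKne : K ≠ ⊤ := by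
      intro htop
      have hsub : (Finset.univ : Finset α) ⊆ {a₀, z a₀, z (z a₀)} := fun x _ => by
        obtain ⟨t, ht, rfl⟩ := htr x
        obtain ⟨i, hi⟩ := htop.ge (Subgroup.mem_top (⟨t, ht⟩ : T))
        rw [show t a₀ = (z ^ i) a₀ from hi]
        exact hzpow i
      have h3' := (Finset.card_le_card hsub).trans Finset.card_le_three
      rw [Finset.card_univ] at h3'
      omega
    obtain ⟨M, hM, hKM⟩ := (eq_top_or_exists_le_coatom K).resolve_left hKne
    obtain ⟨hMn, hMi⟩ := CfsgLib.Coprime.coatom_data_of_pGroup hp hM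
    obtain ⟨R, hR⟩ : ∃ R : α → α → Prop, R = fun x y => ∃ m ∈ M, ((m : T) : Perm α) x = y := ⟨_, rfl⟩
    have hRequ : Equivalence R := hR ▸
      { refl := fun x => ⟨1, M.one_mem, rfl⟩
        symm := fun {x y} ⟨m, hm, h⟩ => ⟨m⁻¹, M.inv_mem hm, by
          rw [← h, Subgroup.coe_inv]; exact (m : Perm α).symm_apply_apply x⟩
        trans := fun {x y w} ⟨m, hm, h⟩ ⟨m', hm', h'⟩ => ⟨m' * m, M.mul_mem hm' hm, by
          rw [Subgroup.coe_mul, Perm.mul_apply, h, h']⟩ }
    have hzM : (⟨z, hzT⟩ : T) ∈ M := hKM ⟨1, by simp⟩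
    obtain ⟨m₁, hm₁M, hm₁⟩ : ∃ m ∈ M, m ∉ K := by
      by_contra hcon
      push Not at hcon
      let f : (T ⧸ M) × Fin 3 → α := fun q => ((q.1.out : T) : Perm α) ((z ^ (q.2 : ℕ)) a₀)
      have hf : Function.Surjective f := by
        intro x
        obtain ⟨t, ht, rfl⟩ := htr x
        obtain ⟨m, hm⟩ := QuotientGroup.mk_out_eq_mul M ⟨t, ht⟩
        obtain ⟨i, hi⟩ := hcon _ (M.inv_mem m.2)
        have hmem := hzpow i
        simp only [Finset.mem_insert, Finset.mem_singleton] at hmem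
        have ht' : t a₀ = ((QuotientGroup.mk (⟨t, ht⟩ : T) : T ⧸ M).out : Perm α) ((z ^ i) a₀) := by
          rw [hm, ← hi, Subgroup.coe_mul, ← Perm.mul_apply, Subgroup.coe_inv]
          simp
        rcases hmem with h | h | h <;> rw [h] at ht'
        · exact ⟨(QuotientGroup.mk (⟨t, ht⟩ : T), 0), by rw [ht']; simp [f]⟩
        · exact ⟨(QuotientGroup.mk (⟨t, ht⟩ : T), 1), by rw [ht']; simp [f]⟩
        · exact ⟨(QuotientGroup.mk (⟨t, ht⟩ : T), 2), by rw [ht']; simp [f, pow_succ]⟩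
      have := Nat.card_le_card_of_surjective f hf
      rw [Nat.card_prod, ← Subgroup.index_eq_card, hMi, Nat.card_eq_fintype_card, Nat.card_fin] at this
      omega
    obtain ⟨y₀, hy₀⟩ : ∃ y, ¬ R a₀ y := by
      by_contra hcon
      push Not at hcon
      apply hM.1
      refine eq_top_iff.2 fun t _ => ?_
      have h := hcon ((t : Perm α) a₀)
      rw [hR] at h
      obtain ⟨m, hm, hmt⟩ := h
      have hk : m⁻¹ * t ∈ K := ⟨0, by
        rw [Subgroup.coe_mul, Subgroup.coe_inv, Perm.mul_apply, zpow_zero, Perm.one_apply, ← hmt]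
        exact (m : Perm α).symm_apply_apply a₀⟩
      simpa using M.mul_mem hm (hKM hk)
    have hnot : ∀ i : ℤ, (m₁ : Perm α) a₀ ≠ (z ^ i) a₀ := fun i h => hm₁ ⟨i, h⟩
    refine two_overgroups_of_equivalence T hT R hRequ ?_ z hz3 hzf (fun t ht x => hzc t ht x (htr x))
      ?_ (x₀ := a₀) (x₁ := (m₁ : Perm α) a₀) (y₀ := y₀) (hR ▸ ⟨m₁, hm₁M, rfl⟩) ?_ ?_ ?_ hy₀ (by omega)
    · intro t ht x y
      rw [hR]
      constructor
      · rintro ⟨m, hm, rfl⟩
        exact ⟨(⟨t, ht⟩ : T) * m * (⟨t, ht⟩ : T)⁻¹, hMn.conj_mem m hm _, by simp⟩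
      · rintro ⟨m, hm, hmy⟩
        refine ⟨(⟨t, ht⟩ : T)⁻¹ * m * (⟨t, ht⟩ : T)⁻¹⁻¹, hMn.conj_mem m hm _, ?_⟩
        simp only [inv_inv, Subgroup.coe_mul, Subgroup.coe_inv, Perm.mul_apply]
        rw [hmy]
        exact t.symm_apply_apply y
    · intro x
      rw [hR]
      exact ⟨_, hzM, rfl⟩
    · simpa using hnot 0
    · simpa using hnot 1
    · simpa [zpow_ofNat, pow_succ] using hnot 2
  -- two orbits
  push Not at htr
  obtain ⟨b₀, hb₀⟩ := htr
  obtain ⟨i, hi⟩ := card_orbRel hp a₀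
  obtain ⟨j, hj⟩ := card_orbRel hp b₀
  have hs := hsplit a₀ b₀ hb₀
  rw [hi, hj] at hs
  have hi0 : i ≠ 0 := by
    rintro rfl
    rw [pow_zero] at hs
    have hj2 : 2 ≤ j := by
      by_contra h
      have : j = 0 ∨ j = 1 := by omega
      rcases this with rfl | rfl <;> simp at hs <;> omega
    exact hsucc j hj2 (by omega)
  have hj0 : j ≠ 0 := by
    rintro rfl
    rw [pow_zero] at hs
    have hi2 : 2 ≤ i := by
      by_contra h
      have : i = 1 := by omega
      subst this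
      simp at hs
      omega
    exact hsucc i hi2 (by omega)
  -- choose the larger orbit
  obtain ⟨a, b, k, hab, hk, hk2⟩ : ∃ a b k, ¬ orbRel T a b ∧
      Nat.card {x // orbRel T a x} = 3 ^ k ∧ 2 ≤ k := by
    by_cases h : 2 ≤ i
    · exact ⟨a₀, b₀, i, hb₀, hi, h⟩
    · refine ⟨b₀, a₀, j, fun h' => hb₀ (hE.symm h'), hj, ?_⟩
      by_contra h'
      have hi1 : i = 1 := by omega
      have hj1 : j = 1 := by omega
      subst hi1 hj1
      omega
  have hne : ∀ c, ∃ x, x ≠ c ∧ orbRel T c x := by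
    intro c
    by_contra hcon
    push Not at hcon
    have h1 : Nat.card {x // orbRel T c x} = 1 :=
      Nat.card_eq_one_iff_unique.2 ⟨⟨fun x y => Subtype.ext (by
        rw [by_contra fun h => hcon x.1 h x.2, by_contra fun h => hcon y.1 h y.2])⟩, ⟨⟨c, hE.refl c⟩⟩⟩
    have hclass : ∀ d, orbRel T d c → Nat.card {x // orbRel T c x} = Nat.card {x // orbRel T d x} :=
      fun d hd => Nat.card_congr (Equiv.subtypeEquivRight fun x =>
        ⟨fun h => hE.trans hd h, fun h => hE.trans (hE.symm hd) h⟩)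
    by_cases hc : orbRel T a₀ c
    · rw [hclass a₀ hc, hi] at h1
      exact hi0 (by simpa using h1)
    · rw [hclass b₀ (h3 a₀ b₀ c hb₀ hc), hj] at h1
      exact hj0 (by simpa using h1)
  obtain ⟨z₁, hz₁T, hz₁, hz₁c⟩ := exists_central_three hp a (hne a)
  obtain ⟨z₂, hz₂T, hz₂, hz₂c⟩ := exists_central_three hp b (hne b)
  obtain ⟨f, hf⟩ : ∃ f : α → α, f = fun x => if orbRel T a x then z₁ x else z₂ x := ⟨_, rfl⟩
  have hcases : ∀ x, (orbRel T a x ∧ f x = z₁ x) ∨ (¬ orbRel T a x ∧ orbRel T b x ∧ f x = z₂ x) := by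
    intro x
    by_cases hx : orbRel T a x
    · exact Or.inl ⟨hx, by simp [hf, hx]⟩
    · exact Or.inr ⟨hx, h3 a b x hab hx, by simp [hf, hx]⟩
  have hiff : ∀ x, orbRel T a (f x) ↔ orbRel T a x := by
    intro x
    rcases hcases x with ⟨-, e⟩ | ⟨-, -, e⟩ <;> rw [e]
    · exact orbRel_apply_iff hz₁T a x
    · exact orbRel_apply_iff hz₂T a x
  have hfR : ∀ x, orbRel T x (f x) := by
    intro x
    rcases hcases x with ⟨-, e⟩ | ⟨-, -, e⟩ <;> rw [e]
    exacts [⟨z₁, hz₁T, rfl⟩, ⟨z₂, hz₂T, rfl⟩]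
  have hf3 : ∀ x, f (f (f x)) = x := by
    intro x
    have e : ∀ y, f y = if orbRel T a y then z₁ y else z₂ y := fun y => by rw [hf]
    rcases hcases x with ⟨hx, -⟩ | ⟨hx, hxb, -⟩
    · rw [e (f (f x)), if_pos ((hiff _).2 ((hiff _).2 hx)), e (f x), if_pos ((hiff _).2 hx), e x, if_pos hx]
      exact (hz₁ x hx).1
    · rw [e (f (f x)), if_neg (fun h => hx ((hiff _).1 ((hiff _).1 h))), e (f x),
        if_neg (fun h => hx ((hiff _).1 h)), e x, if_neg hx]
      exact (hz₂ x hxb).1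
  obtain ⟨ζ, hζ⟩ : ∃ ζ : Perm α, ∀ x, ζ x = f x :=
    ⟨⟨f, fun x => f (f x), fun x => hf3 x, fun x => hf3 x⟩, fun _ => rfl⟩
  have hcard12 : 12 ≤ Fintype.card α := by
    have h9' : 9 ≤ 3 ^ k := (Nat.pow_le_pow_right (n := 3) (by norm_num) hk2)
    have hs' := hsplit a b hab
    obtain ⟨l, hl⟩ := card_orbRel hp b
    rw [hk, hl] at hs'
    have : l ≠ 0 := by
      rintro rfl
      exact hsucc k hk2 (by rw [← hs', pow_zero])
    have : 3 ≤ 3 ^ l := Nat.le_self_pow this 3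
    omega
  obtain ⟨x₁, hx₁, hx₁'⟩ : ∃ x, orbRel T a x ∧ x ∉ ({a, ζ a, ζ (ζ a)} : Finset α) := by
    by_contra hcon
    push Not at hcon
    have hsub : Finset.univ.filter (orbRel T a) ⊆ {a, ζ a, ζ (ζ a)} := fun x hx =>
      hcon x (Finset.mem_filter.1 hx).2
    have h3' := (Finset.card_le_card hsub).trans Finset.card_le_three
    rw [← Fintype.card_subtype, ← Nat.card_eq_fintype_card, hk] at h3'
    have : 9 ≤ 3 ^ k := (Nat.pow_le_pow_right (n := 3) (by norm_num) hk2)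
    omega
  simp only [Finset.mem_insert, Finset.mem_singleton, not_or] at hx₁'
  refine two_overgroups_of_equivalence T hT (orbRel T) hE ?_ ζ (fun x => by simp only [hζ, hf3])
    (fun x => ?_) ?_ (fun x => hζ x ▸ hfR x) hx₁ hx₁'.1 hx₁'.2.1 hx₁'.2.2 hab hcard12
  · intro t ht x y
    rw [orbRel_apply_iff ht]
    exact ⟨fun h => hE.trans (hE.symm ⟨t, ht, rfl⟩) h, fun h => hE.trans ⟨t, ht, rfl⟩ h⟩
  · rw [hζ]
    rcases hcases x with ⟨hx, e⟩ | ⟨-, hx, e⟩ <;> rw [e]
    exacts [(hz₁ x hx).2, (hz₂ x hx).2]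
  · intro t ht x
    rw [hζ, hζ]
    rcases hcases x with ⟨hx, e⟩ | ⟨hx, hxb, e⟩ <;> rw [e]
    · rw [hz₁c t ht x hx]
      simp [hf, (orbRel_apply_iff ht a x).2 hx]
    · rw [hz₂c t ht x hxb]
      simp [hf, mt (orbRel_apply_iff ht a x).1 hx]

end CfsgLib.Perm.ThreeMinimalAlt
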